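import Cfsg.Agent.Lib.HeUnique.He.Data
import Cfsg.Agent.Lib.HeUnique.He.DataSpans
import Cfsg.Agent.Lib.HeModel.Orbit
import Cfsg.Agent.Lib.HeModel.CentTab

/-!
Kernel evaluation of the facts tying the certificate of the Held group to its model.
-/

set_option autoImplicit false
set_option maxRecDepth 100000

namespace CfsgLib.HeUnique.He

open CfsgLib.Sporadic CfsgLib.Fusion48.RepTable CfsgLib.HeUnique.Cert

/-- The elements of the elementary abelian subgroup `q`. -/
def eList (q : ℕ) : List ℕ := if q == 0 then Dat.eList0 else Dat.eList1

/-- The parents in `eList q`. -/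
def ePar (q : ℕ) : List (ℕ × ℕ) := if q == 0 then Dat.ePar0 else Dat.ePar1

/-- The conjugates of the involution in the subgroup `q`. -/
def orbit (q : ℕ) : List (ℕ × ℕ × ℕ × ℕ) := if q == 0 then Dat.orbit0 else Dat.orbit1

/-- The other elements of the subgroup `q`. -/
def others (q : ℕ) : List (ℕ × List ℕ) := if q == 0 then Dat.others0 else Dat.others1

/-- The codes of the generators of the subgroup `q`. -/
noncomputable def eGens (q : ℕ) : List ℕ :=
  (Dat.data.gens.getD q []).map fun n => Dat.data.code HeModel.idC n

/-- The check of one conjugate of the involution. -/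
noncomputable def orbitOK (q i : ℕ) : Bool :=
  let w := (orbit q).getD i (0, 0, 3, 0)
  let p := (orbit q).getD w.2.1 (0, 0, 3, 0)
  let x := if w.2.2.1 == 2 then Dat.data.code HeModel.idC w.2.2.2 else Dat.data.g HeModel.idC w.2.2.1
  (eList q).contains w.1 &&
    if i == 0 then w.1 == HeModel.zC else
      Nat.blt w.2.1 i && (Nat.blt w.2.2.1 2 || w.2.2.1 == 2 && Dat.data.has (2 + q) w.2.2.2) &&
        mulF2 51 w.1 x == mulF2 51 x p.1

/-- The check of one other element. -/
noncomputable def otherOK (w : ℕ × List ℕ) : Bool :=
  w.2.length == 43 && nodupB w.2 &&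
    w.2.all fun i => Nat.blt i 2058 && mulF2 51 (HeModel.ptTab.get i) w.1 == HeModel.ptTab.get i

theorem zc_ok : (Dat.data.zc == HeModel.zC) = true := by decide +kernel

theorem cw_nodes_ok : ((List.range 3).all fun n =>
    Dat.data.codes.get (n + 1) == HeModel.word (HeModel.cwWords.getD n [])) = true := by decide +kernel

theorem edge0_ok : (Dat.data.g HeModel.idC 0 == HeModel.word Dat.edgeWord0) = true := by decide +kernel

theorem edge1_ok : (Dat.data.g HeModel.idC 1 == HeModel.word Dat.edgeWord1) = true := by decide +kernel

theorem tab0_ok : tabOK (mulF2 51) HeModel.idC (eGens 0) (eList 0) (ePar 0) = true := by decide +kernel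

theorem tab1_ok : tabOK (mulF2 51) HeModel.idC (eGens 1) (eList 1) (ePar 1) = true := by decide +kernel

theorem classes_ok : ((List.range 2).all fun q => (eList q).all fun c =>
    c == HeModel.idC || (orbit q).any (fun w => w.1 == c) || (others q).any (fun w => w.1 == c)) = true := by
  decide +kernel

theorem orbit_ok : ((List.range 2).all fun q => (List.range (orbit q).length).all fun i => orbitOK q i) = true := by
  decide +kernel

theorem others_ok : ((List.range 2).all fun q => (others q).all otherOK) = true := by decide +kernel

theorem top_ok : ((List.range 7).all fun j =>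
    Dat.data.top.any fun w => w.1 == HeModel.gens.getD j HeModel.idC) = true := by decide +kernel

end CfsgLib.HeUnique.He
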