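import Cfsg.Agent.Lib.HeUnique.He.Data
import Cfsg.Agent.Lib.Sporadic.MatF2

/-!
Kernel evaluation of the steps
-/

set_option autoImplicit false
set_option maxRecDepth 100000

namespace CfsgLib.HeUnique.He

open CfsgLib.Sporadic
open CfsgLib.HeUnique.Cert

theorem steps2_ok : stepsOK (mulF2 51) (oneF2 51) Dat.data 645 968 = true := by decide +kernel

end CfsgLib.HeUnique.He
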