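import Cfsg.Agent.Lib.HeUnique.Cert.Defs

/-!
Coset representatives and covering forests
(generated, see coord/notes/S1659_He_helper49).
-/

set_option autoImplicit false
set_option maxRecDepth 100000

namespace CfsgLib.HeUnique.He.Dat

open CfsgLib.CoThreeUnique.Bound (Tbl)
open CfsgLib.HeUnique.Cert

/-- The coset representatives. -/
def reps : List (List Nat) := [[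
  0, 1, 2, 3, 29, 40,
  41, 17, 42, 43, 44, 30,
  45, 46], [
  0, 1, 2, 3, 29, 40,
  41, 17, 43, 44, 30, 46,
  2079, 1076]]

/-- The moves. -/
def moves : List (List (List (Nat × Nat))) := [[
  [(1, 0), (2, 0), (3, 0)],
  [(0, 0), (4, 0), (5, 0)],
  [(6, 0), (0, 0), (7, 0)],
  [(8, 0), (3, 1787), (9, 0)],
  [(10, 0), (1, 0), (11, 0)],
  [(12, 0), (5, 1247), (13, 0)],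
  [(2, 0), (9, 1138), (2, 439)],
  [(7, 100), (7, 1787), (6, 866)],
  [(3, 0), (8, 1257), (8, 63)],
  [(13, 113), (6, 570), (0, 0)],
  [(4, 0), (13, 455), (4, 1165)],
  [(11, 325), (11, 1247), (10, 142)],
  [(5, 0), (12, 2731), (12, 113)],
  [(9, 63), (10, 1075), (1, 0)]], [
  [(1, 0), (2, 0), (3, 0)],
  [(0, 0), (4, 0), (5, 0)],
  [(6, 0), (0, 0), (7, 0)],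
  [(3, 2801), (3, 3407), (8, 0)],
  [(9, 0), (1, 0), (10, 0)],
  [(8, 2865), (6, 2777), (11, 0)],
  [(2, 0), (5, 1476), (4, 2990)],
  [(7, 3163), (7, 3407), (9, 3397)],
  [(5, 2865), (9, 2864), (0, 0)],
  [(4, 0), (8, 3450), (2, 3031)],
  [(10, 2949), (12, 0), (6, 3148)],
  [(11, 2752), (13, 0), (1, 0)],
  [(12, 3253), (10, 0), (12, 3507)],
  [(13, 3012), (11, 0), (13, 3507)]]]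

/-- The forests for edge type 0. -/
def forests0 : List (List Entry) := [
  [⟨true, 0, 0, 0, 0⟩, ⟨false, 1, 0, 1288, 0⟩, ⟨false, 2, 0, 1289, 0⟩, ⟨false, 3, 0, 1290, 0⟩, ⟨false, 4, 1, 1289, 0⟩, ⟨false, 5, 1, 1290, 0⟩, ⟨false, 6, 2, 1288, 0⟩, ⟨false, 7, 2, 1290, 0⟩, ⟨false, 8, 3, 1288, 0⟩, ⟨false, 9, 3, 1290, 0⟩, ⟨false, 10, 4, 1288, 0⟩, ⟨false, 11, 4, 1290, 0⟩, ⟨false, 12, 5, 1288, 0⟩, ⟨false, 13, 5, 1290, 0⟩],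
  [⟨true, 0, 0, 35, 0⟩, ⟨true, 1, 0, 21, 0⟩, ⟨true, 2, 0, 36, 0⟩, ⟨false, 8, 2, 23, 1820⟩, ⟨false, 12, 2, 10, 1782⟩, ⟨false, 13, 2, 13, 1993⟩, ⟨false, 4, 2, 18, 2145⟩, ⟨false, 7, 3, 13, 335⟩, ⟨false, 11, 4, 13, 2727⟩, ⟨false, 9, 5, 10, 1495⟩, ⟨false, 10, 5, 18, 157⟩, ⟨false, 3, 7, 18, 306⟩, ⟨false, 5, 8, 18, 1909⟩, ⟨false, 6, 9, 18, 996⟩],
  [⟨true, 0, 0, 58, 0⟩, ⟨false, 2, 0, 41, 526⟩, ⟨false, 1, 0, 44, 959⟩, ⟨false, 4, 0, 51, 536⟩, ⟨false, 12, 1, 41, 1259⟩, ⟨false, 8, 3, 41, 202⟩, ⟨true, 3, 0, 59, 0⟩, ⟨false, 9, 6, 41, 918⟩, ⟨false, 7, 6, 44, 417⟩, ⟨false, 10, 6, 65, 860⟩, ⟨false, 5, 6, 51, 487⟩, ⟨false, 6, 7, 41, 814⟩, ⟨false, 13, 7, 65, 343⟩, ⟨false, 11, 8, 51, 1885⟩],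
  [⟨true, 0, 0, 103, 0⟩, ⟨true, 1, 0, 76, 0⟩, ⟨true, 2, 0, 112, 0⟩, ⟨false, 8, 2, 81, 1820⟩, ⟨true, 3, 0, 113, 0⟩, ⟨false, 10, 4, 81, 1841⟩, ⟨false, 6, 4, 74, 1018⟩, ⟨false, 13, 4, 118, 968⟩, ⟨false, 5, 4, 124, 904⟩, ⟨false, 7, 5, 118, 2681⟩, ⟨false, 11, 6, 118, 243⟩, ⟨false, 9, 7, 94, 1624⟩, ⟨true, 4, 0, 181, 0⟩, ⟨false, 12, 12, 81, 714⟩],
  [⟨true, 0, 0, 189, 0⟩, ⟨true, 1, 0, 193, 0⟩, ⟨true, 2, 0, 172, 0⟩, ⟨false, 4, 2, 140, 344⟩, ⟨false, 12, 2, 144, 1172⟩, ⟨false, 8, 2, 162, 2170⟩, ⟨true, 3, 0, 194, 0⟩, ⟨false, 10, 6, 140, 306⟩, ⟨false, 7, 6, 136, 2091⟩, ⟨false, 9, 6, 155, 1869⟩, ⟨false, 13, 6, 144, 1736⟩, ⟨false, 6, 6, 162, 1156⟩, ⟨false, 11, 7, 155, 1638⟩, ⟨false, 5, 7, 162, 1657⟩],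
  [⟨true, 0, 0, 239, 0⟩, ⟨false, 12, 0, 223, 576⟩, ⟨false, 1, 0, 227, 1097⟩, ⟨false, 2, 1, 223, 202⟩, ⟨false, 4, 1, 227, 319⟩, ⟨false, 8, 2, 223, 352⟩, ⟨true, 3, 0, 240, 0⟩, ⟨false, 6, 6, 223, 736⟩, ⟨false, 13, 6, 249, 1376⟩, ⟨false, 9, 7, 223, 1315⟩, ⟨false, 10, 7, 249, 496⟩, ⟨false, 5, 7, 227, 1241⟩, ⟨false, 7, 8, 249, 1363⟩, ⟨false, 11, 9, 249, 733⟩],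
  [⟨true, 0, 0, 317, 0⟩, ⟨true, 1, 0, 307, 0⟩, ⟨true, 2, 0, 318, 0⟩, ⟨false, 8, 2, 279, 2711⟩, ⟨false, 9, 2, 297, 928⟩, ⟨false, 3, 2, 305, 2717⟩, ⟨false, 11, 3, 297, 2069⟩, ⟨false, 10, 3, 305, 2214⟩, ⟨false, 7, 4, 283, 2735⟩, ⟨false, 13, 4, 290, 622⟩, ⟨false, 12, 4, 297, 462⟩, ⟨false, 6, 5, 283, 1018⟩, ⟨false, 5, 5, 290, 686⟩, ⟨false, 4, 6, 297, 663⟩],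
  [⟨true, 0, 0, 388, 0⟩, ⟨false, 1, 0, 352, 1885⟩, ⟨true, 2, 0, 770, 0⟩, ⟨false, 4, 2, 391, 344⟩, ⟨false, 8, 2, 362, 2170⟩, ⟨false, 12, 3, 362, 1657⟩, ⟨true, 3, 0, 782, 0⟩, ⟨false, 10, 6, 391, 306⟩, ⟨false, 6, 6, 376, 663⟩, ⟨false, 7, 6, 352, 1080⟩, ⟨false, 5, 7, 376, 1907⟩, ⟨false, 9, 7, 352, 1572⟩, ⟨false, 13, 8, 352, 2725⟩, ⟨false, 11, 9, 362, 143⟩],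
  [⟨true, 0, 0, 680, 0⟩, ⟨true, 1, 0, 579, 0⟩, ⟨true, 2, 0, 612, 0⟩, ⟨false, 8, 2, 590, 2711⟩, ⟨false, 6, 2, 577, 1254⟩, ⟨false, 5, 3, 577, 2194⟩, ⟨true, 3, 0, 607, 0⟩, ⟨false, 10, 6, 580, 2734⟩, ⟨false, 4, 6, 577, 746⟩, ⟨false, 12, 7, 577, 665⟩, ⟨true, 7, 0, 795, 0⟩, ⟨false, 13, 10, 590, 1836⟩, ⟨true, 9, 0, 798, 0⟩, ⟨false, 11, 12, 590, 1298⟩],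
  [⟨true, 0, 0, 803, 0⟩, ⟨true, 1, 0, 554, 0⟩, ⟨true, 2, 0, 596, 0⟩, ⟨false, 4, 2, 530, 727⟩, ⟨false, 8, 2, 543, 107⟩, ⟨false, 12, 3, 543, 1663⟩, ⟨true, 3, 0, 651, 0⟩, ⟨false, 7, 6, 530, 1206⟩, ⟨false, 9, 6, 520, 649⟩, ⟨false, 11, 6, 543, 1017⟩, ⟨false, 10, 6, 525, 2166⟩, ⟨false, 5, 7, 530, 400⟩, ⟨false, 6, 7, 543, 1459⟩, ⟨false, 13, 9, 525, 855⟩],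
  [⟨true, 0, 0, 810, 0⟩, ⟨false, 8, 0, 695, 1013⟩, ⟨false, 12, 0, 568, 1078⟩, ⟨false, 1, 1, 568, 1312⟩, ⟨true, 2, 0, 626, 0⟩, ⟨true, 3, 0, 811, 0⟩, ⟨false, 9, 5, 695, 2712⟩, ⟨false, 5, 5, 601, 904⟩, ⟨false, 13, 6, 601, 780⟩, ⟨true, 6, 0, 693, 0⟩, ⟨false, 10, 9, 695, 613⟩, ⟨false, 7, 9, 563, 780⟩, ⟨false, 11, 9, 568, 436⟩, ⟨true, 4, 0, 724, 0⟩],
  [⟨true, 0, 0, 818, 0⟩, ⟨true, 1, 0, 428, 0⟩, ⟨true, 2, 0, 632, 0⟩, ⟨false, 8, 2, 423, 2711⟩, ⟨false, 10, 2, 426, 850⟩, ⟨false, 4, 2, 433, 1238⟩, ⟨false, 3, 3, 426, 634⟩, ⟨false, 12, 3, 433, 1119⟩, ⟨false, 5, 4, 433, 897⟩, ⟨false, 6, 5, 426, 218⟩, ⟨true, 7, 0, 827, 0⟩, ⟨false, 13, 10, 423, 1836⟩, ⟨true, 9, 0, 858, 0⟩, ⟨false, 11, 12, 423, 1298⟩],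
  [⟨true, 0, 0, 877, 0⟩, ⟨false, 1, 0, 443, 1885⟩, ⟨false, 8, 0, 437, 1013⟩, ⟨false, 12, 1, 437, 450⟩, ⟨true, 2, 0, 934, 0⟩, ⟨false, 4, 4, 443, 487⟩, ⟨true, 3, 0, 492, 0⟩, ⟨false, 7, 6, 443, 1080⟩, ⟨false, 9, 6, 437, 2712⟩, ⟨false, 11, 6, 440, 947⟩, ⟨false, 13, 7, 440, 707⟩, ⟨false, 10, 8, 443, 2068⟩, ⟨false, 6, 8, 440, 1438⟩, ⟨false, 5, 9, 443, 368⟩],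
  [⟨true, 0, 0, 980, 0⟩, ⟨true, 1, 0, 706, 0⟩, ⟨true, 2, 0, 725, 0⟩, ⟨false, 3, 2, 714, 116⟩, ⟨false, 11, 2, 704, 1257⟩, ⟨false, 5, 3, 708, 1327⟩, ⟨false, 4, 3, 714, 2206⟩, ⟨false, 7, 4, 708, 1475⟩, ⟨true, 6, 0, 754, 0⟩, ⟨false, 10, 8, 708, 1475⟩, ⟨false, 8, 8, 714, 321⟩, ⟨false, 12, 9, 714, 407⟩, ⟨false, 9, 10, 704, 426⟩, ⟨false, 13, 11, 704, 240⟩],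
  [⟨true, 0, 0, 1011, 0⟩, ⟨true, 1, 0, 338, 0⟩, ⟨true, 2, 0, 396, 0⟩, ⟨true, 3, 0, 322, 0⟩, ⟨false, 10, 3, 339, 1919⟩, ⟨false, 6, 3, 336, 2160⟩, ⟨false, 13, 3, 820, 1138⟩, ⟨false, 5, 4, 336, 1604⟩, ⟨false, 7, 4, 820, 242⟩, ⟨false, 11, 5, 820, 451⟩, ⟨false, 9, 7, 820, 455⟩, ⟨true, 8, 0, 913, 0⟩, ⟨true, 4, 0, 1016, 0⟩, ⟨true, 12, 0, 920, 0⟩],
  [⟨true, 0, 0, 893, 0⟩, ⟨true, 1, 0, 1027, 0⟩, ⟨true, 2, 0, 919, 0⟩, ⟨false, 8, 2, 837, 1523⟩, ⟨true, 3, 0, 1028, 0⟩, ⟨false, 11, 4, 850, 1289⟩, ⟨false, 9, 4, 853, 1869⟩, ⟨false, 6, 4, 830, 1156⟩, ⟨false, 10, 5, 853, 1638⟩, ⟨false, 7, 5, 830, 111⟩, ⟨false, 13, 6, 830, 185⟩, ⟨false, 5, 8, 830, 1657⟩, ⟨true, 4, 0, 849, 0⟩, ⟨false, 12, 12, 837, 729⟩],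
  [⟨true, 0, 0, 488, 0⟩, ⟨false, 1, 0, 473, 1885⟩, ⟨false, 12, 0, 476, 287⟩, ⟨false, 8, 1, 476, 2123⟩, ⟨true, 2, 0, 898, 0⟩, ⟨false, 4, 4, 473, 487⟩, ⟨true, 3, 0, 1047, 0⟩, ⟨false, 7, 6, 473, 1080⟩, ⟨false, 6, 6, 476, 279⟩, ⟨false, 10, 6, 481, 2716⟩, ⟨false, 5, 7, 476, 2718⟩, ⟨false, 13, 8, 473, 2725⟩, ⟨false, 9, 8, 476, 1839⟩, ⟨false, 11, 10, 473, 168⟩],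
  [⟨true, 0, 0, 1066, 0⟩, ⟨false, 8, 0, 684, 1013⟩, ⟨true, 1, 0, 619, 0⟩, ⟨false, 12, 2, 684, 450⟩, ⟨true, 2, 0, 627, 0⟩, ⟨true, 3, 0, 661, 0⟩, ⟨false, 10, 5, 617, 1919⟩, ⟨false, 13, 5, 662, 1138⟩, ⟨false, 9, 5, 684, 2712⟩, ⟨false, 7, 6, 662, 242⟩, ⟨false, 6, 6, 684, 1388⟩, ⟨false, 5, 7, 684, 781⟩, ⟨false, 11, 8, 617, 1019⟩, ⟨true, 4, 0, 1068, 0⟩],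
  [⟨true, 0, 0, 615, 0⟩, ⟨true, 1, 0, 611, 0⟩, ⟨true, 2, 0, 869, 0⟩, ⟨false, 8, 2, 609, 2703⟩, ⟨false, 5, 2, 642, 619⟩, ⟨false, 6, 3, 642, 564⟩, ⟨true, 3, 0, 860, 0⟩, ⟨false, 10, 6, 609, 257⟩, ⟨false, 4, 6, 642, 1328⟩, ⟨false, 12, 7, 642, 1009⟩, ⟨true, 7, 0, 1069, 0⟩, ⟨true, 9, 0, 953, 0⟩, ⟨true, 13, 0, 1070, 63⟩, ⟨true, 11, 0, 942, 0⟩],
  [⟨true, 0, 0, 958, 0⟩, ⟨false, 2, 0, 604, 2682⟩, ⟨true, 1, 0, 862, 0⟩, ⟨false, 4, 2, 604, 1980⟩, ⟨true, 3, 0, 1081, 0⟩, ⟨false, 5, 4, 604, 1495⟩, ⟨true, 6, 0, 1072, 0⟩, ⟨false, 13, 6, 604, 820⟩, ⟨true, 8, 0, 994, 0⟩, ⟨true, 7, 0, 955, 0⟩, ⟨false, 11, 9, 604, 475⟩, ⟨true, 9, 0, 1099, 0⟩, ⟨false, 10, 11, 604, 1089⟩, ⟨true, 12, 0, 998, 0⟩],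
  [⟨true, 0, 0, 658, 0⟩, ⟨true, 1, 0, 655, 0⟩, ⟨true, 2, 0, 664, 0⟩, ⟨false, 10, 2, 745, 1638⟩, ⟨false, 4, 2, 653, 1731⟩, ⟨false, 6, 3, 653, 1731⟩, ⟨true, 3, 0, 1105, 0⟩, ⟨false, 8, 6, 745, 242⟩, ⟨false, 5, 6, 653, 1945⟩, ⟨false, 12, 7, 653, 1945⟩, ⟨true, 7, 0, 931, 0⟩, ⟨true, 9, 0, 970, 0⟩, ⟨true, 13, 0, 757, 63⟩, ⟨true, 11, 0, 923, 0⟩],
  [⟨true, 0, 0, 687, 0⟩, ⟨false, 8, 0, 532, 1190⟩, ⟨false, 1, 1, 532, 609⟩, ⟨false, 12, 2, 532, 1339⟩, ⟨true, 2, 0, 997, 0⟩, ⟨false, 4, 4, 532, 790⟩, ⟨true, 3, 0, 1152, 0⟩, ⟨false, 10, 6, 532, 1554⟩, ⟨false, 13, 7, 532, 789⟩, ⟨false, 11, 8, 532, 1077⟩, ⟨true, 6, 0, 1153, 0⟩, ⟨false, 9, 10, 532, 1644⟩, ⟨false, 7, 11, 532, 1324⟩, ⟨false, 5, 12, 532, 1692⟩],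
  [⟨true, 0, 0, 1160, 0⟩, ⟨true, 1, 0, 927, 0⟩, ⟨true, 2, 0, 1073, 0⟩, ⟨false, 4, 2, 925, 1090⟩, ⟨false, 7, 2, 929, 2724⟩, ⟨false, 11, 3, 929, 48⟩, ⟨true, 3, 0, 1162, 0⟩, ⟨true, 6, 0, 928, 0⟩, ⟨true, 8, 0, 1163, 0⟩, ⟨false, 12, 8, 925, 1386⟩, ⟨false, 13, 8, 929, 1192⟩, ⟨false, 9, 9, 929, 2105⟩, ⟨true, 5, 0, 1166, 0⟩, ⟨true, 10, 0, 938, 0⟩],
  [⟨true, 0, 0, 1120, 0⟩, ⟨true, 1, 0, 737, 0⟩, ⟨true, 2, 0, 1122, 0⟩, ⟨false, 10, 2, 728, 1638⟩, ⟨false, 4, 2, 731, 1731⟩, ⟨false, 6, 3, 731, 1731⟩, ⟨true, 3, 0, 940, 0⟩, ⟨false, 8, 6, 728, 242⟩, ⟨false, 5, 6, 731, 1945⟩, ⟨false, 12, 7, 731, 1945⟩, ⟨true, 7, 0, 1004, 0⟩, ⟨true, 9, 0, 733, 0⟩, ⟨true, 13, 0, 1171, 63⟩, ⟨true, 11, 0, 936, 0⟩],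
  [⟨true, 0, 0, 1177, 0⟩, ⟨true, 1, 0, 500, 0⟩, ⟨true, 2, 0, 1180, 0⟩, ⟨false, 4, 2, 498, 1090⟩, ⟨false, 7, 2, 501, 2724⟩, ⟨false, 11, 3, 501, 48⟩, ⟨true, 3, 0, 1181, 0⟩, ⟨true, 6, 0, 761, 0⟩, ⟨true, 8, 0, 1186, 0⟩, ⟨false, 12, 8, 498, 1386⟩, ⟨false, 13, 8, 501, 1192⟩, ⟨false, 9, 9, 501, 2105⟩, ⟨true, 5, 0, 1187, 0⟩, ⟨true, 10, 0, 983, 0⟩],
  [⟨true, 0, 0, 470, 0⟩, ⟨true, 1, 0, 945, 0⟩, ⟨true, 2, 0, 648, 0⟩, ⟨false, 12, 2, 449, 332⟩, ⟨false, 4, 2, 458, 1115⟩, ⟨false, 8, 3, 458, 725⟩, ⟨true, 3, 0, 1139, 0⟩, ⟨false, 5, 6, 449, 1868⟩, ⟨false, 6, 6, 458, 413⟩, ⟨false, 10, 7, 458, 502⟩, ⟨true, 7, 0, 1140, 0⟩, ⟨false, 13, 10, 449, 2736⟩, ⟨true, 9, 0, 1136, 0⟩, ⟨false, 11, 12, 449, 173⟩],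
  [⟨true, 0, 0, 1183, 0⟩, ⟨true, 1, 0, 334, 0⟩, ⟨true, 2, 0, 921, 0⟩, ⟨false, 8, 2, 909, 473⟩, ⟨true, 3, 0, 1196, 0⟩, ⟨true, 6, 0, 491, 0⟩, ⟨true, 4, 0, 1197, 0⟩, ⟨false, 12, 6, 909, 1047⟩, ⟨true, 5, 0, 1044, 0⟩, ⟨true, 7, 0, 1184, 0⟩, ⟨false, 13, 9, 909, 997⟩, ⟨true, 9, 0, 758, 0⟩, ⟨false, 11, 11, 909, 1035⟩, ⟨true, 10, 0, 1198, 0⟩],
  [⟨true, 0, 0, 1202, 0⟩, ⟨true, 1, 0, 1037, 0⟩, ⟨true, 2, 0, 1039, 0⟩, ⟨false, 8, 2, 1033, 421⟩, ⟨false, 5, 2, 1035, 1041⟩, ⟨false, 6, 3, 1035, 2016⟩, ⟨true, 3, 0, 1203, 0⟩, ⟨false, 10, 6, 1033, 1474⟩, ⟨false, 12, 6, 1035, 967⟩, ⟨false, 4, 7, 1035, 1379⟩, ⟨true, 7, 0, 1205, 0⟩, ⟨false, 13, 10, 1035, 2730⟩, ⟨true, 9, 0, 1206, 0⟩, ⟨false, 11, 12, 1035, 2722⟩],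
  [⟨true, 0, 0, 868, 0⟩, ⟨true, 1, 0, 666, 0⟩, ⟨true, 2, 0, 1129, 0⟩, ⟨true, 3, 0, 908, 0⟩, ⟨true, 6, 0, 946, 0⟩, ⟨true, 8, 0, 943, 0⟩, ⟨true, 4, 0, 959, 0⟩, ⟨true, 5, 0, 1083, 0⟩, ⟨true, 7, 0, 689, 0⟩, ⟨true, 9, 0, 956, 0⟩, ⟨true, 10, 0, 1115, 0⟩, ⟨true, 12, 0, 1103, 0⟩, ⟨true, 13, 0, 1209, 63⟩, ⟨true, 11, 0, 1210, 0⟩],
  [⟨true, 0, 0, 871, 0⟩, ⟨true, 1, 0, 864, 0⟩, ⟨true, 2, 0, 1173, 0⟩, ⟨true, 3, 0, 1217, 0⟩, ⟨true, 6, 0, 957, 0⟩, ⟨true, 8, 0, 1218, 0⟩, ⟨true, 4, 0, 1219, 0⟩, ⟨true, 5, 0, 1229, 0⟩, ⟨true, 7, 0, 1230, 0⟩, ⟨true, 9, 0, 1231, 0⟩, ⟨true, 10, 0, 1232, 0⟩, ⟨true, 12, 0, 960, 0⟩, ⟨true, 13, 0, 1124, 63⟩, ⟨true, 11, 0, 1125, 0⟩],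
  [⟨true, 0, 0, 1085, 0⟩, ⟨true, 1, 0, 1091, 0⟩, ⟨true, 2, 0, 1086, 0⟩, ⟨true, 3, 0, 1088, 0⟩, ⟨true, 6, 0, 1238, 0⟩, ⟨true, 8, 0, 948, 0⟩, ⟨true, 4, 0, 1145, 0⟩, ⟨true, 5, 0, 1089, 0⟩, ⟨true, 7, 0, 1093, 0⟩, ⟨true, 9, 0, 1116, 0⟩, ⟨true, 10, 0, 1123, 0⟩, ⟨true, 12, 0, 972, 0⟩, ⟨true, 13, 0, 950, 63⟩, ⟨true, 11, 0, 1239, 0⟩],
  [⟨true, 0, 0, 1155, 0⟩, ⟨true, 1, 0, 1121, 0⟩, ⟨true, 2, 0, 1182, 0⟩, ⟨true, 3, 0, 1249, 0⟩, ⟨true, 6, 0, 1220, 0⟩, ⟨true, 8, 0, 1250, 0⟩, ⟨true, 4, 0, 1251, 0⟩, ⟨true, 5, 0, 1252, 0⟩, ⟨true, 7, 0, 1142, 0⟩, ⟨true, 9, 0, 1227, 0⟩, ⟨true, 10, 0, 1253, 0⟩, ⟨true, 12, 0, 1246, 0⟩, ⟨true, 13, 0, 1254, 63⟩, ⟨true, 11, 0, 1255, 0⟩],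
  [⟨true, 0, 0, 1098, 0⟩, ⟨true, 1, 0, 1076, 0⟩, ⟨true, 2, 0, 1267, 0⟩, ⟨true, 3, 0, 1248, 0⟩, ⟨true, 6, 0, 1128, 0⟩, ⟨true, 8, 0, 1268, 0⟩, ⟨true, 4, 0, 1269, 0⟩, ⟨true, 5, 0, 1270, 0⟩, ⟨true, 7, 0, 1271, 0⟩, ⟨true, 9, 0, 1138, 0⟩, ⟨true, 10, 0, 1228, 0⟩, ⟨true, 12, 0, 1143, 0⟩, ⟨true, 13, 0, 1272, 63⟩, ⟨true, 11, 0, 1273, 0⟩],
  [⟨true, 0, 0, 1285, 0⟩, ⟨false, 8, 0, 1222, 893⟩, ⟨false, 6, 1, 1222, 1246⟩, ⟨false, 5, 2, 1222, 689⟩, ⟨false, 11, 3, 1222, 1526⟩, ⟨false, 2, 4, 1222, 1180⟩, ⟨false, 9, 5, 1222, 469⟩, ⟨true, 1, 0, 1286, 0⟩, ⟨false, 12, 7, 1222, 860⟩, ⟨false, 10, 8, 1222, 1507⟩, ⟨false, 3, 9, 1222, 1530⟩, ⟨false, 7, 10, 1222, 1938⟩, ⟨false, 4, 11, 1222, 1174⟩, ⟨false, 13, 12, 1222,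 1665⟩]]

/-- The forests for edge type 1. -/
def forests1 : List (List Entry) := [
  [⟨true, 0, 0, 1, 0⟩, ⟨false, 1, 0, 1288, 0⟩, ⟨false, 2, 0, 1289, 0⟩, ⟨false, 3, 0, 1290, 0⟩, ⟨false, 4, 1, 1289, 0⟩, ⟨false, 5, 1, 1290, 0⟩, ⟨false, 6, 2, 1288, 0⟩, ⟨false, 7, 2, 1290, 0⟩, ⟨false, 8, 3, 1290, 0⟩, ⟨false, 9, 4, 1288, 0⟩, ⟨false, 10, 4, 1290, 0⟩, ⟨false, 11, 5, 1290, 0⟩, ⟨false, 12, 10, 1289, 0⟩, ⟨false, 13, 11, 1289, 0⟩],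
  [⟨true, 0, 0, 37, 0⟩, ⟨false, 2, 0, 23, 3003⟩, ⟨false, 10, 0, 13, 3300⟩, ⟨false, 11, 1, 13, 3494⟩, ⟨false, 1, 2, 18, 3441⟩, ⟨false, 6, 3, 18, 3198⟩, ⟨true, 3, 0, 38, 0⟩, ⟨false, 13, 6, 23, 3436⟩, ⟨false, 8, 6, 4, 2920⟩, ⟨false, 5, 6, 7, 3076⟩, ⟨false, 12, 6, 10, 3372⟩, ⟨false, 9, 7, 7, 2933⟩, ⟨false, 7, 7, 10, 3497⟩, ⟨false, 4, 7, 18, 3509⟩],
  [⟨true, 0, 0, 55, 0⟩, ⟨true, 1, 0, 60, 0⟩, ⟨false, 4, 1, 41, 3406⟩, ⟨false, 11, 1, 44, 3424⟩, ⟨false, 12, 1, 65, 3334⟩, ⟨false, 5, 1, 51, 3571⟩, ⟨false, 8, 2, 41, 3501⟩, ⟨false, 6, 2, 51, 3333⟩, ⟨false, 13, 3, 51, 3342⟩, ⟨false, 3, 4, 41, 3402⟩, ⟨false, 10, 4, 51, 3457⟩, ⟨false, 9, 5, 41, 3471⟩, ⟨false, 7, 8, 41, 3488⟩, ⟨true, 2, 0, 67, 0⟩],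
  [⟨true, 0, 0, 171, 0⟩, ⟨false, 2, 0, 81, 3003⟩, ⟨true, 1, 0, 182, 0⟩, ⟨false, 6, 2, 81, 3304⟩, ⟨false, 11, 2, 118, 3045⟩, ⟨false, 10, 3, 118, 3388⟩, ⟨true, 3, 0, 183, 0⟩, ⟨false, 13, 6, 81, 3436⟩, ⟨false, 8, 6, 74, 2920⟩, ⟨false, 5, 6, 89, 3076⟩, ⟨false, 12, 6, 94, 2824⟩, ⟨false, 9, 6, 118, 3216⟩, ⟨false, 4, 8, 81, 2994⟩, ⟨false, 7, 8, 118, 3122⟩],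
  [⟨true, 0, 0, 147, 0⟩, ⟨true, 1, 0, 210, 0⟩, ⟨false, 11, 1, 136, 3339⟩, ⟨false, 10, 1, 144, 3483⟩, ⟨false, 6, 2, 144, 3085⟩, ⟨true, 2, 0, 217, 0⟩, ⟨true, 3, 0, 218, 0⟩, ⟨false, 8, 6, 140, 3554⟩, ⟨false, 5, 6, 144, 3503⟩, ⟨false, 13, 6, 162, 3559⟩, ⟨false, 9, 8, 144, 3235⟩, ⟨false, 7, 9, 144, 3375⟩, ⟨false, 12, 10, 144, 3111⟩, ⟨false, 4, 10, 162, 3012⟩],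
  [⟨true, 0, 0, 231, 0⟩, ⟨true, 1, 0, 264, 0⟩, ⟨false, 8, 1, 223, 2824⟩, ⟨false, 6, 1, 227, 3082⟩, ⟨false, 4, 2, 223, 3358⟩, ⟨false, 12, 2, 249, 3510⟩, ⟨false, 5, 2, 227, 3331⟩, ⟨false, 9, 3, 223, 3250⟩, ⟨false, 11, 4, 249, 3574⟩, ⟨false, 3, 5, 227, 3232⟩, ⟨false, 10, 6, 249, 3193⟩, ⟨false, 13, 7, 249, 3159⟩, ⟨false, 7, 10, 223, 3227⟩, ⟨true, 2, 0, 270, 0⟩],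
  [⟨true, 0, 0, 319, 0⟩, ⟨false, 2, 0, 279, 2934⟩, ⟨false, 10, 0, 297, 3283⟩, ⟨false, 6, 0, 305, 3355⟩, ⟨false, 11, 1, 297, 3189⟩, ⟨false, 1, 1, 305, 3544⟩, ⟨true, 3, 0, 762, 0⟩, ⟨false, 8, 6, 283, 2920⟩, ⟨false, 5, 6, 279, 3076⟩, ⟨false, 7, 6, 290, 3265⟩, ⟨false, 12, 6, 297, 3358⟩, ⟨false, 9, 7, 290, 2963⟩, ⟨false, 13, 8, 283, 3484⟩, ⟨false, 4, 9, 279, 3185⟩],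
  [⟨true, 0, 0, 366, 0⟩, ⟨true, 1, 0, 407, 0⟩, ⟨false, 10, 1, 352, 2769⟩, ⟨true, 2, 0, 791, 0⟩, ⟨true, 3, 0, 466, 0⟩, ⟨false, 8, 4, 391, 3554⟩, ⟨false, 13, 4, 362, 3559⟩, ⟨false, 5, 5, 362, 3482⟩, ⟨false, 4, 6, 352, 3571⟩, ⟨false, 12, 7, 352, 3388⟩, ⟨false, 9, 8, 362, 3012⟩, ⟨false, 7, 9, 362, 3072⟩, ⟨true, 6, 0, 794, 0⟩, ⟨false, 11, 12, 352, 3484⟩],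
  [⟨true, 0, 0, 800, 0⟩, ⟨false, 2, 0, 590, 2934⟩, ⟨false, 6, 0, 577, 3256⟩, ⟨false, 1, 1, 577, 3260⟩, ⟨true, 3, 0, 598, 0⟩, ⟨false, 5, 4, 590, 3076⟩, ⟨false, 4, 4, 592, 3262⟩, ⟨false, 9, 4, 580, 3525⟩, ⟨false, 7, 5, 592, 3242⟩, ⟨false, 13, 5, 580, 2756⟩, ⟨false, 12, 5, 577, 3521⟩, ⟨false, 8, 8, 580, 3031⟩, ⟨true, 10, 0, 587, 0⟩, ⟨false, 11, 12, 590, 3243⟩],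
  [⟨true, 0, 0, 538, 0⟩, ⟨true, 1, 0, 555, 0⟩, ⟨false, 11, 1, 530, 3279⟩, ⟨true, 2, 0, 807, 0⟩, ⟨true, 3, 0, 516, 0⟩, ⟨false, 8, 4, 520, 3332⟩, ⟨false, 13, 4, 543, 3206⟩, ⟨false, 9, 4, 525, 3019⟩, ⟨false, 5, 5, 543, 3226⟩, ⟨false, 7, 5, 525, 2950⟩, ⟨false, 4, 6, 525, 3516⟩, ⟨false, 12, 8, 525, 3549⟩, ⟨true, 6, 0, 808, 0⟩, ⟨false, 10, 12, 530, 3139⟩],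
  [⟨true, 0, 0, 570, 0⟩, ⟨true, 1, 0, 600, 0⟩, ⟨false, 9, 1, 695, 2958⟩, ⟨false, 11, 1, 563, 3214⟩, ⟨false, 3, 1, 568, 3162⟩, ⟨false, 7, 2, 563, 3133⟩, ⟨false, 10, 2, 568, 2953⟩, ⟨false, 8, 3, 568, 3444⟩, ⟨false, 6, 5, 568, 3368⟩, ⟨true, 2, 0, 813, 0⟩, ⟨true, 4, 0, 738, 0⟩, ⟨true, 5, 0, 814, 0⟩, ⟨true, 12, 0, 815, 0⟩, ⟨true, 13, 0, 740, 0⟩],
  [⟨true, 0, 0, 673, 0⟩, ⟨false, 2, 0, 423, 2934⟩, ⟨false, 1, 0, 426, 2935⟩, ⟨false, 6, 1, 426, 3474⟩, ⟨true, 3, 0, 973, 0⟩, ⟨false, 5, 4, 423, 3076⟩, ⟨false, 4, 4, 638, 3262⟩, ⟨false, 8, 4, 433, 3289⟩, ⟨false, 7, 5, 638, 3242⟩, ⟨false, 12, 5, 426, 3218⟩, ⟨false, 13, 5, 433, 3520⟩, ⟨false, 9, 8, 433, 3376⟩, ⟨true, 10, 0, 780, 0⟩, ⟨false, 11, 12, 423,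 3243⟩],
  [⟨true, 0, 0, 461, 0⟩, ⟨true, 1, 0, 435, 0⟩, ⟨false, 10, 1, 443, 2769⟩, ⟨false, 9, 1, 437, 2958⟩, ⟨false, 7, 1, 440, 2853⟩, ⟨false, 3, 2, 437, 3151⟩, ⟨false, 8, 2, 440, 3270⟩, ⟨false, 6, 3, 440, 2829⟩, ⟨false, 11, 4, 437, 3206⟩, ⟨true, 2, 0, 974, 0⟩, ⟨true, 4, 0, 515, 0⟩, ⟨false, 13, 10, 443, 3427⟩, ⟨true, 5, 0, 976, 0⟩, ⟨false, 12, 12, 443, 3388⟩],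
  [⟨true, 0, 0, 969, 0⟩, ⟨false, 6, 0, 714, 3539⟩, ⟨false, 11, 0, 704, 2966⟩, ⟨false, 1, 1, 708, 3367⟩, ⟨false, 2, 1, 714, 3149⟩, ⟨false, 10, 2, 708, 3447⟩, ⟨true, 3, 0, 988, 0⟩, ⟨false, 12, 6, 714, 3290⟩, ⟨false, 5, 6, 704, 2913⟩, ⟨false, 13, 7, 708, 3401⟩, ⟨false, 7, 7, 714, 3525⟩, ⟨false, 4, 8, 708, 3379⟩, ⟨true, 8, 0, 1003, 0⟩, ⟨true, 9, 0, 1007, 0⟩],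
  [⟨true, 0, 0, 416, 0⟩, ⟨true, 1, 0, 1017, 0⟩, ⟨false, 6, 1, 339, 2757⟩, ⟨false, 11, 1, 820, 1476⟩, ⟨false, 10, 2, 820, 2959⟩, ⟨true, 2, 0, 848, 0⟩, ⟨true, 3, 0, 1020, 0⟩, ⟨false, 9, 6, 339, 3267⟩, ⟨false, 8, 6, 820, 3450⟩, ⟨false, 7, 6, 331, 3340⟩, ⟨true, 4, 0, 445, 0⟩, ⟨false, 12, 10, 339, 3191⟩, ⟨false, 13, 10, 336, 3384⟩, ⟨false, 5, 11, 336, 3384⟩],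
  [⟨true, 0, 0, 832, 0⟩, ⟨true, 1, 0, 897, 0⟩, ⟨false, 11, 1, 850, 2889⟩, ⟨false, 10, 1, 837, 3532⟩, ⟨false, 6, 2, 837, 3414⟩, ⟨true, 2, 0, 1031, 0⟩, ⟨true, 3, 0, 1041, 0⟩, ⟨false, 8, 6, 853, 3448⟩, ⟨false, 13, 6, 837, 3138⟩, ⟨false, 5, 7, 837, 2748⟩, ⟨false, 9, 8, 837, 3140⟩, ⟨false, 7, 9, 837, 3234⟩, ⟨false, 4, 10, 837, 3528⟩, ⟨false, 12, 11, 837, 2874⟩],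
  [⟨true, 0, 0, 483, 0⟩, ⟨true, 1, 0, 1058, 0⟩, ⟨false, 10, 1, 473, 2769⟩, ⟨false, 8, 1, 476, 3154⟩, ⟨false, 7, 2, 476, 2994⟩, ⟨true, 2, 0, 1063, 0⟩, ⟨true, 3, 0, 878, 0⟩, ⟨false, 6, 6, 476, 2925⟩, ⟨false, 11, 7, 473, 3484⟩, ⟨false, 9, 7, 476, 2931⟩, ⟨true, 4, 0, 904, 0⟩, ⟨false, 13, 10, 473, 3427⟩, ⟨true, 5, 0, 1064, 0⟩, ⟨false, 12, 12, 473, 3388⟩],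
  [⟨true, 0, 0, 629, 0⟩, ⟨true, 1, 0, 866, 0⟩, ⟨false, 6, 1, 617, 2757⟩, ⟨false, 11, 1, 662, 1476⟩, ⟨false, 9, 1, 684, 2958⟩, ⟨false, 10, 2, 662, 2959⟩, ⟨false, 8, 2, 684, 3542⟩, ⟨false, 7, 3, 684, 2929⟩, ⟨false, 3, 4, 617, 3267⟩, ⟨true, 2, 0, 951, 0⟩, ⟨true, 4, 0, 944, 0⟩, ⟨false, 12, 10, 617, 3191⟩, ⟨true, 5, 0, 880, 0⟩, ⟨false, 13, 12, 617, 2990⟩],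
  [⟨true, 0, 0, 861, 0⟩, ⟨false, 2, 0, 609, 519⟩, ⟨false, 1, 0, 642, 3074⟩, ⟨false, 6, 1, 642, 2751⟩, ⟨true, 3, 0, 644, 0⟩, ⟨false, 12, 4, 609, 3028⟩, ⟨false, 13, 4, 642, 2858⟩, ⟨false, 7, 5, 642, 3021⟩, ⟨true, 4, 0, 1077, 0⟩, ⟨false, 9, 8, 609, 3398⟩, ⟨true, 5, 0, 1080, 0⟩, ⟨false, 8, 10, 609, 3535⟩, ⟨true, 10, 0, 641, 0⟩, ⟨true, 11, 0, 952, 0⟩],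
  [⟨true, 0, 0, 606, 0⟩, ⟨true, 1, 0, 645, 0⟩, ⟨false, 4, 1, 604, 3405⟩, ⟨true, 2, 0, 1101, 0⟩, ⟨true, 3, 0, 954, 0⟩, ⟨true, 6, 0, 1082, 0⟩, ⟨false, 5, 5, 604, 2904⟩, ⟨true, 7, 0, 1078, 0⟩, ⟨true, 8, 0, 1079, 0⟩, ⟨true, 9, 0, 999, 0⟩, ⟨true, 10, 0, 1071, 0⟩, ⟨false, 13, 10, 604, 2934⟩, ⟨true, 11, 0, 1102, 0⟩, ⟨false, 12, 12, 604, 3129⟩],
  [⟨true, 0, 0, 686, 0⟩, ⟨false, 1, 0, 745, 3439⟩, ⟨false, 2, 0, 653, 3075⟩, ⟨false, 6, 1, 653, 3075⟩, ⟨true, 3, 0, 1108, 0⟩, ⟨true, 4, 0, 1111, 0⟩, ⟨false, 9, 5, 745, 3439⟩, ⟨false, 5, 5, 653, 3509⟩, ⟨false, 8, 6, 653, 3518⟩, ⟨true, 7, 0, 1112, 0⟩, ⟨true, 10, 0, 755, 0⟩, ⟨true, 11, 0, 700, 0⟩, ⟨true, 12, 0, 1113, 0⟩, ⟨true, 13, 0, 906, 0⟩],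
  [⟨true, 0, 0, 535, 0⟩, ⟨true, 1, 0, 646, 0⟩, ⟨false, 9, 1, 532, 3320⟩, ⟨false, 10, 2, 532, 3372⟩, ⟨false, 3, 3, 532, 3377⟩, ⟨true, 2, 0, 1154, 0⟩, ⟨true, 6, 0, 1157, 0⟩, ⟨false, 8, 6, 532, 3349⟩, ⟨false, 11, 7, 532, 3168⟩, ⟨false, 7, 8, 532, 3559⟩, ⟨true, 4, 0, 1158, 0⟩, ⟨false, 13, 10, 532, 3131⟩, ⟨true, 5, 0, 1159, 0⟩, ⟨false, 12, 12, 532, 3126⟩],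
  [⟨true, 0, 0, 993, 0⟩, ⟨false, 2, 0, 925, 2985⟩, ⟨false, 10, 0, 929, 3078⟩, ⟨false, 11, 1, 929, 2946⟩, ⟨true, 1, 0, 1161, 0⟩, ⟨true, 3, 0, 1167, 0⟩, ⟨false, 7, 5, 925, 3075⟩, ⟨false, 4, 5, 929, 3555⟩, ⟨false, 5, 6, 929, 3499⟩, ⟨true, 6, 0, 1164, 0⟩, ⟨true, 8, 0, 1106, 0⟩, ⟨true, 9, 0, 939, 0⟩, ⟨true, 12, 0, 1000, 0⟩, ⟨true, 13, 0, 1107, 0⟩],
  [⟨true, 0, 0, 1117, 0⟩, ⟨false, 1, 0, 728, 3439⟩, ⟨false, 2, 0, 731, 3075⟩, ⟨false, 6, 1, 731, 3075⟩, ⟨true, 3, 0, 1172, 0⟩, ⟨true, 4, 0, 1175, 0⟩, ⟨false, 9, 5, 728, 3439⟩, ⟨false, 5, 5, 731, 3509⟩, ⟨false, 8, 6, 731, 3518⟩, ⟨true, 7, 0, 1006, 0⟩, ⟨true, 10, 0, 743, 0⟩, ⟨true, 11, 0, 756, 0⟩, ⟨true, 12, 0, 1001, 0⟩, ⟨true, 13, 0, 1176, 0⟩],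
  [⟨true, 0, 0, 647, 0⟩, ⟨false, 2, 0, 498, 2985⟩, ⟨false, 10, 0, 501, 3078⟩, ⟨false, 11, 1, 501, 2946⟩, ⟨true, 1, 0, 992, 0⟩, ⟨true, 3, 0, 1188, 0⟩, ⟨false, 7, 5, 498, 3075⟩, ⟨false, 4, 5, 501, 3555⟩, ⟨false, 5, 6, 501, 3499⟩, ⟨true, 6, 0, 1165, 0⟩, ⟨true, 8, 0, 1189, 0⟩, ⟨true, 9, 0, 1002, 0⟩, ⟨true, 12, 0, 985, 0⟩, ⟨true, 13, 0, 987, 0⟩],
  [⟨true, 0, 0, 451, 0⟩, ⟨true, 1, 0, 1190, 0⟩, ⟨true, 2, 0, 1192, 0⟩, ⟨true, 3, 0, 688, 0⟩, ⟨false, 5, 3, 449, 2850⟩, ⟨false, 9, 3, 458, 2996⟩, ⟨false, 12, 4, 458, 3309⟩, ⟨true, 6, 0, 1193, 0⟩, ⟨true, 4, 0, 1110, 0⟩, ⟨false, 7, 8, 449, 2877⟩, ⟨false, 13, 8, 458, 2774⟩, ⟨false, 8, 9, 458, 3135⟩, ⟨true, 10, 0, 1134, 0⟩, ⟨true, 11, 0, 1194, 0⟩],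
  [⟨true, 0, 0, 941, 0⟩, ⟨false, 2, 0, 909, 3401⟩, ⟨true, 1, 0, 1200, 0⟩, ⟨true, 3, 0, 1178, 0⟩, ⟨false, 4, 3, 909, 3262⟩, ⟨true, 6, 0, 1043, 0⟩, ⟨true, 5, 0, 1045, 0⟩, ⟨false, 7, 6, 909, 3242⟩, ⟨true, 8, 0, 1149, 0⟩, ⟨false, 13, 8, 909, 3387⟩, ⟨true, 9, 0, 1141, 0⟩, ⟨false, 12, 10, 909, 3172⟩, ⟨true, 10, 0, 1148, 0⟩, ⟨false, 11, 12, 909, 3298⟩],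
  [⟨true, 0, 0, 1040, 0⟩, ⟨false, 2, 0, 1033, 3007⟩, ⟨false, 1, 0, 1035, 3175⟩, ⟨false, 6, 1, 1035, 3301⟩, ⟨true, 3, 0, 1207, 0⟩, ⟨false, 13, 4, 1033, 3453⟩, ⟨false, 8, 4, 1035, 3184⟩, ⟨false, 4, 5, 1035, 3375⟩, ⟨true, 5, 0, 1208, 0⟩, ⟨false, 9, 8, 1033, 3431⟩, ⟨false, 7, 8, 1035, 3177⟩, ⟨false, 12, 9, 1035, 3249⟩, ⟨true, 10, 0, 1204, 0⟩, ⟨false, 11, 12, 1035, 3156⟩],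
  [⟨true, 0, 0, 984, 0⟩, ⟨true, 1, 0, 1046, 0⟩, ⟨true, 2, 0, 1211, 0⟩, ⟨true, 3, 0, 1212, 0⟩, ⟨true, 6, 0, 1179, 0⟩, ⟨true, 4, 0, 1087, 0⟩, ⟨true, 5, 0, 1130, 0⟩, ⟨true, 7, 0, 1213, 0⟩, ⟨true, 8, 0, 949, 0⟩, ⟨true, 9, 0, 1214, 0⟩, ⟨true, 10, 0, 1215, 0⟩, ⟨true, 11, 0, 1216, 0⟩, ⟨true, 12, 0, 1131, 0⟩, ⟨true, 13, 0, 1133, 0⟩],
  [⟨true, 0, 0, 1090, 0⟩, ⟨true, 1, 0, 1233, 0⟩, ⟨true, 2, 0, 1234, 0⟩, ⟨true, 3, 0, 971, 0⟩, ⟨true, 6, 0, 1074, 0⟩, ⟨true, 4, 0, 1174, 0⟩, ⟨true, 5, 0, 1235, 0⟩, ⟨true, 7, 0, 1236, 0⟩, ⟨true, 8, 0, 1144, 0⟩, ⟨true, 9, 0, 1092, 0⟩, ⟨true, 10, 0, 1237, 0⟩, ⟨true, 11, 0, 1104, 0⟩, ⟨true, 12, 0, 1126, 0⟩, ⟨true, 13, 0, 1127, 0⟩],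
  [⟨true, 0, 0, 947, 0⟩, ⟨true, 1, 0, 650, 0⟩, ⟨true, 2, 0, 1084, 0⟩, ⟨true, 3, 0, 859, 0⟩, ⟨true, 6, 0, 1156, 0⟩, ⟨true, 4, 0, 1241, 0⟩, ⟨true, 5, 0, 1240, 0⟩, ⟨true, 7, 0, 1242, 0⟩, ⟨true, 8, 0, 1243, 0⟩, ⟨true, 9, 0, 1244, 0⟩, ⟨true, 10, 0, 1137, 0⟩, ⟨true, 11, 0, 1245, 0⟩, ⟨true, 12, 0, 1094, 0⟩, ⟨true, 13, 0, 1097, 0⟩],
  [⟨true, 0, 0, 1119, 0⟩, ⟨true, 1, 0, 1256, 0⟩, ⟨true, 2, 0, 1257, 0⟩, ⟨true, 3, 0, 1247, 0⟩, ⟨true, 6, 0, 1258, 0⟩, ⟨true, 4, 0, 1185, 0⟩, ⟨true, 5, 0, 1259, 0⟩, ⟨true, 7, 0, 1260, 0⟩, ⟨true, 8, 0, 1261, 0⟩, ⟨true, 9, 0, 1262, 0⟩, ⟨true, 10, 0, 1263, 0⟩, ⟨true, 11, 0, 1132, 0⟩, ⟨true, 12, 0, 1265, 0⟩, ⟨true, 13, 0, 1266, 0⟩],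
  [⟨true, 0, 0, 1146, 0⟩, ⟨true, 1, 0, 1274, 0⟩, ⟨true, 2, 0, 1150, 0⟩, ⟨true, 3, 0, 1275, 0⟩, ⟨true, 6, 0, 1276, 0⟩, ⟨true, 4, 0, 1277, 0⟩, ⟨true, 5, 0, 1278, 0⟩, ⟨true, 7, 0, 1279, 0⟩, ⟨true, 8, 0, 1280, 0⟩, ⟨true, 9, 0, 1151, 0⟩, ⟨true, 10, 0, 1281, 0⟩, ⟨true, 11, 0, 1282, 0⟩, ⟨true, 12, 0, 1283, 0⟩, ⟨true, 13, 0, 1284, 0⟩],
  [⟨true, 0, 0, 1096, 0⟩, ⟨false, 8, 0, 1222, 3004⟩, ⟨false, 1, 1, 1222, 3147⟩, ⟨false, 7, 2, 1222, 3472⟩, ⟨false, 12, 3, 1222, 3140⟩, ⟨false, 5, 4, 1222, 3552⟩, ⟨false, 10, 5, 1222, 3308⟩, ⟨true, 2, 0, 1287, 0⟩, ⟨false, 9, 7, 1222, 3558⟩, ⟨false, 6, 8, 1222, 2815⟩, ⟨false, 3, 9, 1222, 3513⟩, ⟨false, 13, 10, 1222, 3278⟩, ⟨false, 4, 11, 1222, 3160⟩, ⟨false, 11, 12,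 1222, 3366⟩]]

end CfsgLib.HeUnique.He.Dat
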