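import Cfsg.Agent.Lib.HeUnique.Cert.Defs

/-!
The steps of the certificate
(generated, see coord/notes/S1659_He_helper49).
-/

set_option autoImplicit false
set_option maxRecDepth 100000

namespace CfsgLib.HeUnique.He.Dat

open CfsgLib.CoThreeUnique.Bound (Tbl)
open CfsgLib.HeUnique.Cert

/-- Part 0 of `facts`. -/
def facts0 : FTbl :=
 (.node (.node (.node (.node (.node (.node (.leaf (.tree 0 0 0 1))
 (.leaf (.mul 7 1023 362 819)))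
 (.node (.leaf (.mul 5 511 249 2155))
 (.leaf (.tree 0 0 0 1))))
 (.node (.node (.leaf (.mul 1 255 18 1502))
 (.leaf (.chain 5 [⟨1228, 348, 1282, 1075⟩, ⟨1262, 3112, 1627, 1118⟩, ⟨757, 827, 2091, 907⟩] 32 1 43 24 1322)))
 (.node (.leaf (.mul 6 324 297 510))
 (.leaf (.tree 0 0 0 1)))))
 (.node (.node (.node (.leaf (.mul 1 127 13 751))
 (.leaf (.chain 8 [⟨646, 2956, 2137, 1114⟩, ⟨1123, 1015, 1245, 649⟩, ⟨1151, 2846, 1101, 1075⟩] 21 0 3 32 1194)))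
 (.node (.leaf (.mul 11 639 433 484))
 (.leaf (.tree 0 0 0 1))))
 (.node (.node (.leaf (.mul 4 211 155 923))
 (.leaf (.tree 0 0 0 1)))
 (.node (.leaf (.mul 15 895 830 1649))
 (.leaf (.tree 0 0 0 1))))))
 (.node (.node (.node (.node (.leaf (.zero 87))
 (.leaf (.flip ⟨648, 2738, 517, 649⟩ 30 0 3 25 1981)))
 (.node (.leaf (.mul 3 262 124 1492))
 (.leaf (.tree 0 0 0 1))))
 (.node (.node (.leaf (.mul 6 284 297 1789))
 (.leaf (.tree 0 0 0 1)))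
 (.node (.leaf (.flip ⟨319, 2945, 1225, 831⟩ 15 1 0 6 1225))
 (.leaf (.tree 0 0 0 1)))))
 (.node (.node (.node (.leaf (.mul 2 191 41 1989))
 (.leaf (.chain 3 [⟨868, 1074, 253, 665⟩, ⟨1211, 3479, 1669, 665⟩, ⟨666, 2711, 175, 665⟩] 28 1 46 17 2003)))
 (.node (.leaf (.transfer 13 ⟨240, 674, 1569, 703⟩ 1569))
 (.leaf (.tree 0 0 0 1))))
 (.node (.node (.leaf (.mul 12 447 437 307))
 (.leaf (.tree 0 0 0 1)))
 (.node (.leaf (.chain 49 [⟨957, 2742, 650, 863⟩, ⟨958, 339, 913, 603⟩, ⟨959, 1634, 228, 665⟩, ⟨646, 3565, 1701, 534⟩] 29 0 45 30 669))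
 (.leaf (.tree 0 0 0 1)))))))
 (.node (.node (.node (.node (.node (.leaf (.mul 1 31 18 1129))
 (.leaf (.mul 7 1055 352 946)))
 (.node (.leaf (.mul 9 536 543 454))
 (.leaf (.tree 0 0 0 1))))
 (.node (.node (.leaf (.mul 2 287 41 1455))
 (.leaf (.tree 0 0 0 1)))
 (.node (.leaf (.chain 3 [⟨612, 842, 1453, 681⟩, ⟨629, 2840, 1286, 799⟩, ⟨632, 572, 693, 434⟩] 8 1 0 18 1400))
 (.leaf (.tree 0 0 0 1)))))
 (.node (.node (.node (.leaf (.mul 1 5 13 463))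
 (.leaf (.chain 13 [⟨1148, 3302, 640, 333⟩, ⟨1183, 578, 159, 910⟩, ⟨1148, 3518, 2193, 910⟩] 26 0 17 26 2164)))
 (.node (.leaf (.mul 4 671 162 2158))
 (.leaf (.tree 0 0 0 1))))
 (.node (.node (.leaf (.chain 7 [⟨396, 98, 315, 337⟩, ⟨407, 2883, 1016, 411⟩, ⟨194, 2689, 309, 415⟩] 14 1 0 11 1251))
 (.leaf (.tree 0 0 0 1)))
 (.node (.leaf (.chain 39 [⟨927, 2685, 402, 926⟩, ⟨738, 2913, 251, 699⟩, ⟨724, 1344, 1759, 727⟩, ⟨693, 799, 447, 602⟩] 22 0 41 23 929))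
 (.leaf (.tree 0 0 0 1))))))
 (.node (.node (.node (.node (.leaf (.mul 1 25 10 348))
 (.leaf (.chain 0 [⟨737, 1559, 563, 736⟩, ⟨693, 700, 664, 741⟩] 23 0 0 23 442)))
 (.node (.leaf (.unit 18))
 (.leaf (.tree 0 0 0 1))))
 (.node (.node (.leaf (.transfer 7 ⟨60, 2776, 397, 351⟩ 397))
 (.leaf (.tree 0 0 0 1)))
 (.node (.leaf (.flip ⟨860, 1203, 1693, 863⟩ 29 0 1 18 2184))
 (.leaf (.tree 0 0 0 1)))))
 (.node (.node (.node (.leaf (.mul 5 219 223 1522))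
 (.leaf (.flip ⟨1073, 190, 546, 1075⟩ 32 0 3 22 2179)))
 (.node (.leaf (.mul 23 726 731 677))
 (.leaf (.tree 0 0 0 1))))
 (.node (.node (.leaf (.mul 7 479 352 2142))
 (.leaf (.tree 0 0 0 1)))
 (.node (.leaf (.chain 2 [⟨500, 726, 1278, 986⟩, ⟨976, 2957, 739, 493⟩, ⟨693, 235, 1272, 739⟩] 24 1 1 23 1272))
 (.leaf (.tree 0 0 0 1))))))))

/-- Part 1 of `facts`. -/
def facts1 : FTbl :=
 (.node (.node (.node (.node (.node (.node (.leaf (.tree 0 1 0 2))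
 (.leaf (.mul 7 1024 352 1564)))
 (.node (.leaf (.mul 5 512 227 2083))
 (.leaf (.tree 0 0 0 1))))
 (.node (.node (.leaf (.mul 1 256 13 465))
 (.leaf (.chain 3 [⟨1138, 2144, 813, 1075⟩, ⟨1244, 3284, 1697, 649⟩, ⟨1103, 1665, 1293, 665⟩] 32 1 30 29 2127)))
 (.node (.leaf (.mul 6 768 290 103))
 (.leaf (.tree 0 0 0 1)))))
 (.node (.node (.node (.leaf (.mul 1 128 13 82))
 (.leaf (.chain 0 [⟨1152, 725, 2018, 533⟩, ⟨1138, 2720, 1862, 1075⟩] 21 0 41 30 1445)))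
 (.node (.leaf (.chain 7 [⟨615, 1196, 916, 610⟩, ⟨629, 3186, 1887, 618⟩, ⟨632, 847, 1266, 640⟩] 18 1 30 18 2187))
 (.leaf (.tree 0 0 0 1))))
 (.node (.node (.leaf (.mul 4 384 144 599))
 (.leaf (.tree 0 0 0 1)))
 (.node (.leaf (.chain 71 [⟨832, 2916, 1758, 885⟩, ⟨319, 2916, 1758, 833⟩, ⟨893, 527, 1496, 896⟩, ⟨466, 2844, 132, 485⟩] 15 1 1 16 909))
 (.leaf (.tree 0 0 0 1))))))
 (.node (.node (.node (.node (.leaf (.transfer 2 ⟨1, 2789, 1556, 64⟩ 1556))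
 (.leaf (.chain 0 [⟨1088, 1201, 56, 649⟩, ⟨648, 1388, 2070, 471⟩] 30 0 40 30 1553)))
 (.node (.leaf (.transfer 8 ⟨113, 1234, 2027, 576⟩ 2027))
 (.leaf (.tree 0 0 0 1))))
 (.node (.node (.leaf (.mul 6 320 290 1067))
 (.leaf (.tree 0 0 0 1)))
 (.node (.leaf (.mul 6 326 297 317))
 (.leaf (.tree 0 0 0 1)))))
 (.node (.node (.node (.leaf (.chain 0 [⟨189, 1647, 1414, 190⟩, ⟨58, 1647, 1414, 192⟩] 4 0 1 4 928))
 (.leaf (.chain 8 [⟨971, 2879, 231, 863⟩, ⟨1162, 2688, 255, 924⟩, ⟨1188, 3281, 440, 495⟩] 29 0 3 32 692)))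
 (.node (.leaf (.mul 13 701 704 1569))
 (.leaf (.tree 0 0 0 1))))
 (.node (.node (.leaf (.transfer 25 ⟨435, 2880, 1441, 448⟩ 1441))
 (.leaf (.tree 0 0 0 1)))
 (.node (.leaf (.mul 13 735 704 1192))
 (.leaf (.tree 0 0 0 1)))))))
 (.node (.node (.node (.node (.node (.leaf (.mul 1 32 13 1915))
 (.leaf (.mul 7 1056 362 212)))
 (.node (.leaf (.mul 3 262 74 1358))
 (.leaf (.tree 0 0 0 1))))
 (.node (.node (.leaf (.mul 2 288 41 1537))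
 (.leaf (.tree 0 0 0 1)))
 (.node (.leaf (.mul 3 90 118 387))
 (.leaf (.tree 0 0 0 1)))))
 (.node (.node (.node (.leaf (.mul 1 160 13 320))
 (.leaf (.chain 4 [⟨1182, 2699, 2035, 1118⟩, ⟨1046, 3506, 1927, 665⟩, ⟨1184, 125, 1199, 910⟩] 31 1 29 26 834)))
 (.node (.leaf (.chain 17 [⟨428, 320, 946, 668⟩, ⟨172, 2037, 1327, 672⟩, ⟨113, 234, 343, 522⟩, ⟨612, 1293, 1754, 613⟩] 11 1 0 17 2006))
 (.leaf (.tree 0 0 0 1))))
 (.node (.node (.leaf (.unit 11))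
 (.leaf (.tree 0 0 0 1)))
 (.node (.leaf (.transfer 22 ⟨811, 2702, 1192, 697⟩ 1192))
 (.leaf (.tree 0 0 0 1))))))
 (.node (.node (.node (.node (.leaf (.mul 1 96 23 2204))
 (.leaf (.flip ⟨1081, 1203, 1693, 1118⟩ 31 0 1 19 2184)))
 (.node (.leaf (.transfer 18 ⟨607, 445, 138, 593⟩ 138))
 (.leaf (.tree 0 0 0 1))))
 (.node (.node (.leaf (.mul 7 349 352 2012))
 (.leaf (.tree 0 0 0 1)))
 (.node (.leaf (.mul 17 616 662 425))
 (.leaf (.tree 0 0 0 1)))))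
 (.node (.node (.node (.leaf (.mul 1 114 13 379))
 (.leaf (.chain 8 [⟨1247, 2879, 231, 1118⟩, ⟨1248, 238, 416, 1075⟩, ⟨1107, 3000, 1454, 924⟩] 31 0 3 24 1857)))
 (.node (.leaf (.flip ⟨693, 388, 2144, 736⟩ 23 0 1 10 1601))
 (.leaf (.tree 0 0 0 1))))
 (.node (.node (.leaf (.transfer 16 ⟨466, 3033, 1707, 480⟩ 1707))
 (.leaf (.tree 0 0 0 1)))
 (.node (.leaf (.chain 4 [⟨927, 1672, 541, 930⟩, ⟨600, 3507, 1951, 699⟩, ⟨955, 348, 1282, 603⟩] 22 1 0 19 2227))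
 (.leaf (.tree 0 0 0 1))))))))

/-- Part 2 of `facts`. -/
def facts2 : FTbl :=
 (.node (.node (.node (.node (.node (.node (.leaf (.unit 1))
 (.leaf (.mul 7 1025 362 2176)))
 (.node (.leaf (.mul 5 513 227 1949))
 (.leaf (.tree 0 0 0 1))))
 (.node (.node (.leaf (.mul 4 212 136 230))
 (.leaf (.chain 1 [⟨1281, 3128, 937, 1075⟩, ⟨1074, 3208, 2086, 863⟩] 32 1 46 32 248)))
 (.node (.leaf (.chain 9 [⟨366, 2801, 550, 764⟩, ⟨59, 247, 958, 767⟩, ⟨319, 2893, 2210, 769⟩] 7 0 2 15 2095))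
 (.leaf (.tree 0 0 0 1)))))
 (.node (.node (.node (.leaf (.transfer 4 ⟨37, 2775, 774, 129⟩ 774))
 (.leaf (.chain 1 [⟨535, 3132, 2171, 533⟩, ⟨516, 3229, 1193, 537⟩] 21 1 2 21 1452)))
 (.node (.leaf (.transfer 18 ⟨607, 1741, 1215, 591⟩ 1215))
 (.leaf (.tree 0 0 0 1))))
 (.node (.node (.leaf (.mul 4 385 144 793))
 (.leaf (.tree 0 0 0 1)))
 (.node (.leaf (.chain 9 [⟨483, 3161, 2185, 881⟩, ⟨770, 316, 960, 405⟩, ⟨897, 3069, 1683, 895⟩] 16 0 2 16 2183))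
 (.leaf (.tree 0 0 0 1))))))
 (.node (.node (.node (.node (.leaf (.mul 2 63 65 1982))
 (.leaf (.chain 6 [⟨960, 1830, 323, 863⟩, ⟨947, 3377, 1984, 649⟩, ⟨860, 2710, 2166, 608⟩] 29 1 0 29 2097)))
 (.node (.leaf (.mul 8 575 577 2027))
 (.leaf (.tree 0 0 0 1))))
 (.node (.node (.leaf (.tree 14 0 3 26))
 (.leaf (.tree 0 0 0 1)))
 (.node (.leaf (.mul 6 833 290 1144))
 (.leaf (.tree 0 0 0 1)))))
 (.node (.node (.node (.leaf (.tree 4 0 3 11))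
 (.leaf (.chain 0 [⟨960, 1201, 56, 863⟩, ⟨1085, 1335, 1481, 649⟩] 29 0 42 27 1261)))
 (.node (.leaf (.flip ⟨240, 690, 196, 705⟩ 13 0 1 5 935))
 (.leaf (.tree 0 0 0 1))))
 (.node (.node (.leaf (.mul 25 446 449 1441))
 (.leaf (.tree 0 0 0 1)))
 (.node (.leaf (.mul 13 961 714 710))
 (.leaf (.tree 0 0 0 1)))))))
 (.node (.node (.node (.node (.node (.leaf (.zero 64))
 (.leaf (.chain 55 [⟨483, 3090, 628, 1048⟩, ⟨794, 2984, 513, 1052⟩, ⟨466, 2793, 2118, 1057⟩, ⟨488, 737, 651, 905⟩] 16 1 1 25 1560)))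
 (.node (.leaf (.mul 3 545 89 238))
 (.leaf (.tree 0 0 0 1))))
 (.node (.node (.leaf (.transfer 6 ⟨59, 206, 172, 289⟩ 172))
 (.leaf (.tree 0 0 0 1)))
 (.node (.leaf (.mul 3 801 124 1629))
 (.leaf (.tree 0 0 0 1)))))
 (.node (.node (.node (.leaf (.transfer 4 ⟨37, 2945, 1225, 161⟩ 1225))
 (.leaf (.chain 10 [⟨647, 2787, 971, 499⟩, ⟨1116, 476, 711, 649⟩, ⟨1185, 3477, 2205, 1118⟩] 24 0 42 26 1897)))
 (.node (.leaf (.mul 11 424 638 752))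
 (.leaf (.tree 0 0 0 1))))
 (.node (.node (.leaf (.mul 4 173 155 1373))
 (.leaf (.tree 0 0 0 1)))
 (.node (.leaf (.mul 22 926 929 1789))
 (.leaf (.tree 0 0 0 1))))))
 (.node (.node (.node (.node (.leaf (.mul 1 97 10 1632))
 (.leaf (.chain 21 [⟨1117, 3563, 1993, 726⟩, ⟨1121, 280, 1459, 1118⟩, ⟨955, 192, 789, 603⟩, ⟨1072, 2170, 1244, 603⟩] 23 0 2 32 443)))
 (.node (.leaf (.mul 18 608 609 138))
 (.leaf (.tree 0 0 0 1))))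
 (.node (.node (.leaf (.mul 2 272 41 1646))
 (.leaf (.tree 0 0 0 1)))
 (.node (.leaf (.chain 19 [⟨619, 610, 1190, 865⟩, ⟨795, 690, 196, 593⟩, ⟨612, 2121, 1370, 593⟩, ⟨661, 1107, 418, 618⟩] 17 1 1 28 2104))
 (.leaf (.tree 0 0 0 1)))))
 (.node (.node (.node (.leaf (.mul 1 225 10 253))
 (.leaf (.chain 0 [⟨1246, 1201, 56, 1118⟩, ⟨1217, 1039, 391, 863⟩] 31 0 42 32 1099)))
 (.node (.leaf (.chain 54 [⟨570, 2985, 1726, 699⟩, ⟨171, 2764, 2191, 588⟩, ⟨183, 2814, 1963, 119⟩, ⟨724, 267, 1094, 730⟩] 10 1 29 10 1990))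
 (.leaf (.tree 0 0 0 1))))
 (.node (.node (.leaf (.mul 16 478 481 156))
 (.leaf (.tree 0 0 0 1)))
 (.node (.leaf (.chain 11 [⟨606, 2765, 1698, 605⟩, ⟨798, 407, 1089, 581⟩, ⟨516, 3391, 1153, 559⟩] 19 0 42 21 747))
 (.leaf (.tree 0 0 0 1))))))))

/-- Part 3 of `facts`. -/
def facts3 : FTbl :=
 (.node (.node (.node (.node (.node (.node (.leaf (.zero 82))
 (.leaf (.chain 0 [⟨893, 1875, 384, 1022⟩, ⟨770, 236, 1926, 1026⟩] 15 0 1 15 1341)))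
 (.node (.leaf (.chain 54 [⟨461, 2985, 1726, 497⟩, ⟨147, 2764, 2191, 507⟩, ⟨38, 2767, 1764, 510⟩, ⟨239, 253, 733, 514⟩] 12 1 29 9 2174))
 (.leaf (.tree 0 0 0 1))))
 (.node (.node (.leaf (.mul 4 258 144 772))
 (.leaf (.chain 5 [⟨1269, 1013, 987, 1075⟩, ⟨1275, 3266, 943, 1075⟩, ⟨1255, 1666, 1642, 1118⟩] 32 1 2079 32 2050)))
 (.node (.leaf (.mul 4 126 144 279))
 (.leaf (.tree 0 0 0 1)))))
 (.node (.node (.node (.leaf (.mul 4 126 130 774))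
 (.leaf (.chain 0 [⟨1121, 1201, 56, 1118⟩, ⟨1081, 1746, 859, 605⟩] 31 0 0 31 1566)))
 (.node (.leaf (.mul 18 610 642 785))
 (.leaf (.tree 0 0 0 1))))
 (.node (.node (.leaf (.mul 4 386 162 1688))
 (.leaf (.tree 0 0 0 1)))
 (.node (.leaf (.mul 16 472 481 1707))
 (.leaf (.tree 0 0 0 1))))))
 (.node (.node (.node (.node (.leaf (.chain 1 [⟨55, 0, 0, 66⟩, ⟨1, 0, 0, 22⟩] 2 1 2 2 58))
 (.leaf (.chain 13 [⟨947, 3302, 640, 649⟩, ⟨860, 557, 967, 608⟩, ⟨1090, 3142, 612, 863⟩] 30 0 1 29 2053)))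
 (.node (.leaf (.flip ⟨113, 1300, 772, 578⟩ 8 0 1 3 2043))
 (.leaf (.tree 0 0 0 1))))
 (.node (.node (.leaf (.unit 14))
 (.leaf (.tree 0 0 0 1)))
 (.node (.leaf (.mul 6 834 305 1998))
 (.leaf (.tree 0 0 0 1)))))
 (.node (.node (.node (.leaf (.mul 4 137 144 2136))
 (.leaf (.flip ⟨940, 2723, 107, 863⟩ 29 0 29 23 848)))
 (.node (.leaf (.mul 5 243 223 1683))
 (.leaf (.tree 0 0 0 1))))
 (.node (.node (.leaf (.flip ⟨435, 2880, 1441, 450⟩ 25 1 0 12 1861))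
 (.leaf (.tree 0 0 0 1)))
 (.node (.leaf (.mul 5 241 249 647))
 (.leaf (.tree 0 0 0 1)))))))
 (.node (.node (.node (.node (.node (.leaf (.chain 0 [⟨21, 0, 0, 33⟩, ⟨0, 0, 0, 34⟩] 1 0 0 1 64))
 (.leaf (.mul 7 392 352 386)))
 (.node (.leaf (.mul 3 546 94 1576))
 (.leaf (.tree 0 0 0 1))))
 (.node (.node (.leaf (.mul 6 284 290 847))
 (.leaf (.tree 0 0 0 1)))
 (.node (.leaf (.chain 8 [⟨538, 2879, 231, 517⟩, ⟨103, 126, 1692, 802⟩, ⟨182, 2953, 1834, 83⟩] 9 0 0 9 1834))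
 (.leaf (.tree 0 0 0 1)))))
 (.node (.node (.node (.leaf (.mul 4 159 162 1185))
 (.leaf (.chain 0 [⟨1181, 1559, 563, 499⟩, ⟨970, 316, 960, 907⟩] 24 0 40 22 614)))
 (.node (.leaf (.mul 11 674 426 1324))
 (.leaf (.tree 0 0 0 1))))
 (.node (.node (.leaf (.mul 4 418 144 1357))
 (.leaf (.tree 0 0 0 1)))
 (.node (.leaf (.chain 0 [⟨923, 669, 2153, 654⟩, ⟨928, 804, 414, 930⟩] 20 0 17 23 1295))
 (.leaf (.tree 0 0 0 1))))))
 (.node (.node (.node (.node (.leaf (.mul 1 98 13 1247))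
 (.leaf (.chain 22 [⟨1116, 242, 2025, 649⟩, ⟨1119, 3361, 1088, 1118⟩, ⟨1120, 360, 1124, 732⟩, ⟨1122, 450, 2063, 732⟩] 30 0 44 32 1276)))
 (.node (.leaf (.flip ⟨607, 2698, 1703, 610⟩ 18 0 1 8 2217))
 (.leaf (.tree 0 0 0 1))))
 (.node (.node (.leaf (.mul 2 354 44 2225))
 (.leaf (.tree 0 0 0 1)))
 (.node (.leaf (.mul 17 865 684 278))
 (.leaf (.tree 0 0 0 1)))))
 (.node (.node (.node (.leaf (.transfer 5 ⟨38, 2826, 147, 226⟩ 147))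
 (.leaf (.chain 0 [⟨1182, 1201, 56, 1118⟩, ⟨946, 1220, 350, 665⟩] 31 0 29 30 986)))
 (.node (.leaf (.mul 10 696 568 1182))
 (.leaf (.tree 0 0 0 1))))
 (.node (.node (.leaf (.flip ⟨466, 2837, 166, 482⟩ 16 1 0 7 358))
 (.leaf (.tree 0 0 0 1)))
 (.node (.leaf (.mul 9 556 543 466))
 (.leaf (.tree 0 0 0 1))))))))

/-- Part 4 of `facts`. -/
def facts4 : FTbl :=
 (.node (.node (.node (.node (.node (.node (.leaf (.transfer 1 ⟨0, 82, 1634, 3⟩ 1634))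
 (.leaf (.tree 15 0 3 27)))
 (.node (.leaf (.tree 9 1 3 21))
 (.leaf (.tree 0 0 0 1))))
 (.node (.node (.leaf (.mul 4 259 144 1769))
 (.leaf (.chain 58 [⟨1151, 3221, 1362, 1075⟩, ⟨1228, 492, 70, 1075⟩, ⟨1119, 2898, 2198, 1118⟩, ⟨1001, 2769, 1863, 729⟩] 32 1 1076 23 1622)))
 (.node (.leaf (.mul 2 367 51 1486))
 (.leaf (.tree 0 0 0 1)))))
 (.node (.node (.node (.leaf (.mul 1 24 7 1136))
 (.leaf (.chain 3 [⟨1088, 196, 751, 649⟩, ⟨1110, 2935, 1037, 471⟩, ⟨1155, 1149, 1072, 1118⟩] 30 1 41 31 1489)))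
 (.node (.leaf (.tree 18 1 3 30))
 (.leaf (.tree 0 0 0 1))))
 (.node (.node (.leaf (.chain 8 [⟨366, 2752, 186, 377⟩, ⟨58, 1647, 1414, 383⟩, ⟨210, 2776, 397, 387⟩] 7 0 0 7 1720))
 (.leaf (.tree 0 0 0 1)))
 (.node (.leaf (.mul 7 392 376 242))
 (.leaf (.tree 0 0 0 1))))))
 (.node (.node (.node (.node (.leaf (.unit 3))
 (.leaf (.tree 29 1 44 33)))
 (.node (.leaf (.transfer 8 ⟨113, 701, 1257, 562⟩ 1257))
 (.leaf (.tree 0 0 0 1))))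
 (.node (.node (.leaf (.mul 6 271 283 1634))
 (.leaf (.tree 0 0 0 1)))
 (.node (.leaf (.mul 6 835 297 279))
 (.leaf (.tree 0 0 0 1)))))
 (.node (.node (.node (.leaf (.mul 4 195 144 1749))
 (.leaf (.chain 39 [⟨1121, 789, 420, 1118⟩, ⟨645, 3390, 1942, 605⟩, ⟨948, 1966, 458, 649⟩, ⟨1093, 1129, 597, 649⟩] 31 0 41 33 1056)))
 (.node (.leaf (.transfer 13 ⟨240, 254, 206, 707⟩ 206))
 (.leaf (.tree 0 0 0 1))))
 (.node (.node (.leaf (.mul 12 436 443 397))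
 (.leaf (.tree 0 0 0 1)))
 (.node (.leaf (.mul 5 963 227 2072))
 (.leaf (.tree 0 0 0 1)))))))
 (.node (.node (.node (.node (.node (.leaf (.tree 1 0 2 3))
 (.leaf (.mul 7 1059 362 1585)))
 (.node (.leaf (.mul 1 27 23 181))
 (.leaf (.tree 0 0 0 1))))
 (.node (.node (.leaf (.mul 2 56 41 1764))
 (.leaf (.tree 0 0 0 1)))
 (.node (.leaf (.mul 9 517 543 496))
 (.leaf (.tree 0 0 0 1)))))
 (.node (.node (.node (.leaf (.mul 1 2 10 1199))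
 (.leaf (.chain 3 [⟨1186, 728, 1173, 495⟩, ⟨1149, 3537, 1803, 333⟩, ⟨1142, 817, 1187, 1118⟩] 24 1 3 32 105)))
 (.node (.leaf (.mul 11 675 426 847))
 (.leaf (.tree 0 0 0 1))))
 (.node (.node (.leaf (.mul 4 419 144 1148))
 (.leaf (.tree 0 0 0 1)))
 (.node (.leaf (.mul 4 260 144 314))
 (.leaf (.tree 0 0 0 1))))))
 (.node (.node (.node (.node (.leaf (.mul 1 99 4 345))
 (.leaf (.chain 13 [⟨1104, 3321, 1299, 863⟩, ⟨871, 491, 974, 863⟩, ⟨984, 3534, 1005, 665⟩] 29 0 1237 20 1918)))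
 (.node (.leaf (.tree 8 0 2 17))
 (.leaf (.tree 0 0 0 1))))
 (.node (.node (.leaf (.mul 2 355 51 1000))
 (.leaf (.tree 0 0 0 1)))
 (.node (.leaf (.chain 0 [⟨666, 1201, 56, 665⟩, ⟨661, 1618, 1311, 867⟩] 28 0 0 28 2030))
 (.leaf (.tree 0 0 0 1)))))
 (.node (.node (.node (.leaf (.mul 5 224 227 971))
 (.leaf (.chain 32 [⟨1251, 2194, 1800, 1118⟩, ⟨1241, 3045, 579, 649⟩, ⟨1089, 2741, 513, 649⟩, ⟨1116, 401, 168, 649⟩] 31 0 40 31 1306)))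
 (.node (.leaf (.chain 6 [⟨724, 379, 79, 698⟩, ⟨738, 2916, 1758, 697⟩, ⟨626, 858, 686, 739⟩] 10 1 1076 12 832))
 (.leaf (.tree 0 0 0 1))))
 (.node (.node (.leaf (.mul 16 474 481 798))
 (.leaf (.tree 0 0 0 1)))
 (.node (.leaf (.mul 9 995 525 427))
 (.leaf (.tree 0 0 0 1))))))))

/-- Part 5 of `facts`. -/
def facts5 : FTbl :=
 (.node (.node (.node (.node (.node (.node (.leaf (.mul 1 2 4 1634))
 (.leaf (.mul 6 778 305 167)))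
 (.node (.leaf (.unit 9))
 (.leaf (.tree 0 0 0 1))))
 (.node (.node (.leaf (.mul 4 260 162 857))
 (.leaf (.chain 8 [⟨1096, 2879, 231, 1095⟩, ⟨957, 1227, 1398, 863⟩, ⟨645, 3400, 1776, 603⟩] 33 0 0 30 1034)))
 (.node (.leaf (.mul 2 772 65 1113))
 (.leaf (.tree 0 0 0 1)))))
 (.node (.node (.node (.leaf (.mul 1 132 10 1578))
 (.leaf (.chain 1 [⟨646, 3489, 1343, 527⟩, ⟨1156, 3196, 139, 649⟩] 21 1 41 31 1352)))
 (.node (.leaf (.chain 58 [⟨606, 3288, 530, 605⟩, ⟨607, 237, 237, 575⟩, ⟨641, 2855, 1505, 643⟩, ⟨644, 3167, 2224, 608⟩] 19 1 1 30 1487))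
 (.leaf (.tree 0 0 0 1))))
 (.node (.node (.leaf (.mul 2 191 51 1707))
 (.leaf (.tree 0 0 0 1)))
 (.node (.leaf (.mul 7 900 352 1211))
 (.leaf (.tree 0 0 0 1))))))
 (.node (.node (.node (.node (.leaf (.mul 1 5 23 49))
 (.leaf (.chain 51 [⟨948, 526, 1788, 649⟩, ⟨1089, 763, 287, 649⟩, ⟨1091, 2728, 1315, 649⟩, ⟨1092, 3186, 1887, 863⟩] 30 0 17 33 2062)))
 (.node (.leaf (.mul 8 575 580 1257))
 (.leaf (.tree 0 0 0 1))))
 (.node (.node (.leaf (.mul 6 324 279 1520))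
 (.leaf (.tree 0 0 0 1)))
 (.node (.leaf (.transfer 15 ⟨319, 2925, 182, 836⟩ 182))
 (.leaf (.tree 0 0 0 1)))))
 (.node (.node (.node (.leaf (.mul 1 24 10 1517))
 (.leaf (.chain 62 [⟨957, 2691, 555, 863⟩, ⟨999, 2901, 1734, 605⟩, ⟨861, 3173, 2219, 643⟩, ⟨1092, 3324, 356, 863⟩] 29 1 44 33 1802)))
 (.node (.leaf (.mul 13 701 708 206))
 (.leaf (.tree 0 0 0 1))))
 (.node (.node (.leaf (.mul 12 452 437 2083))
 (.leaf (.tree 0 0 0 1)))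
 (.node (.leaf (.mul 5 964 249 278))
 (.leaf (.tree 0 0 0 1)))))))
 (.node (.node (.node (.node (.node (.leaf (.tree 1 1 0 4))
 (.leaf (.mul 7 1060 352 1688)))
 (.node (.leaf (.mul 1 548 10 1576))
 (.leaf (.tree 0 0 0 1))))
 (.node (.node (.leaf (.mul 2 292 44 1867))
 (.leaf (.tree 0 0 0 1)))
 (.node (.leaf (.mul 9 804 525 609))
 (.leaf (.tree 0 0 0 1)))))
 (.node (.node (.node (.leaf (.mul 1 164 7 749))
 (.leaf (.chain 2 [⟨1186, 1431, 1519, 502⟩, ⟨1148, 3439, 298, 910⟩, ⟨334, 2051, 1168, 910⟩] 24 1 43 14 1660)))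
 (.node (.leaf (.mul 3 75 89 1520))
 (.leaf (.tree 0 0 0 1))))
 (.node (.node (.leaf (.mul 4 420 144 1665))
 (.leaf (.tree 0 0 0 1)))
 (.node (.leaf (.mul 3 518 118 1126))
 (.leaf (.tree 0 0 0 1))))))
 (.node (.node (.node (.node (.leaf (.mul 1 100 10 804))
 (.leaf (.chain 18 [⟨1124, 50, 678, 863⟩, ⟨664, 506, 1940, 652⟩, ⟨956, 2206, 275, 665⟩, ⟨998, 2117, 2181, 605⟩] 29 0 30 19 2044)))
 (.node (.leaf (.mul 8 575 592 1839))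
 (.leaf (.tree 0 0 0 1))))
 (.node (.node (.leaf (.mul 2 356 41 2204))
 (.leaf (.tree 0 0 0 1)))
 (.node (.leaf (.chain 24 [⟨611, 615, 1030, 608⟩, ⟨612, 414, 1728, 681⟩, ⟨866, 3009, 561, 663⟩, ⟨868, 253, 733, 665⟩] 18 0 2 28 2211))
 (.leaf (.tree 0 0 0 1)))))
 (.node (.node (.node (.leaf (.mul 5 228 227 312))
 (.leaf (.chain 40 [⟨1227, 1612, 482, 1118⟩, ⟨1121, 1425, 1425, 1118⟩, ⟨958, 1658, 567, 603⟩, ⟨1083, 1571, 1426, 665⟩] 31 0 44 30 1111)))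
 (.node (.leaf (.mul 10 560 601 82))
 (.leaf (.tree 0 0 0 1))))
 (.node (.node (.leaf (.mul 7 411 352 1199))
 (.leaf (.tree 0 0 0 1)))
 (.node (.leaf (.chain 9 [⟨535, 3039, 653, 533⟩, ⟨596, 1875, 384, 996⟩, ⟨598, 3042, 1029, 591⟩] 21 0 2 19 691))
 (.leaf (.tree 0 0 0 1))))))))

/-- Part 6 of `facts`. -/
def facts6 : FTbl :=
 (.node (.node (.node (.node (.node (.node (.leaf (.zero 98))
 (.leaf (.mul 6 1029 297 1629)))
 (.node (.leaf (.mul 3 84 94 1438))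
 (.leaf (.tree 0 0 0 1))))
 (.node (.node (.leaf (.mul 3 75 81 49))
 (.leaf (.chain 0 [⟨1285, 1201, 56, 1095⟩, ⟨1239, 2105, 2105, 649⟩] 33 0 1 31 1531)))
 (.node (.leaf (.mul 2 773 65 1564))
 (.leaf (.tree 0 0 0 1)))))
 (.node (.node (.node (.leaf (.mul 1 133 13 568))
 (.leaf (.chain 2 [⟨997, 1138, 246, 533⟩, ⟨999, 3177, 1070, 603⟩, ⟨1070, 2169, 1358, 610⟩] 21 1 29 18 1265)))
 (.node (.leaf (.chain 70 [⟨535, 3204, 862, 534⟩, ⟨555, 2926, 732, 559⟩, ⟨600, 2889, 2066, 602⟩, ⟨645, 2745, 1925, 603⟩] 21 1 1 30 1046))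
 (.leaf (.tree 0 0 0 1))))
 (.node (.node (.leaf (.mul 2 389 41 1316))
 (.leaf (.tree 0 0 0 1)))
 (.node (.leaf (.mul 7 901 362 2207))
 (.leaf (.tree 0 0 0 1))))))
 (.node (.node (.node (.node (.leaf (.mul 1 69 10 250))
 (.leaf (.chain 7 [⟨1086, 2719, 1003, 649⟩, ⟨1087, 3328, 643, 665⟩, ⟨1093, 343, 1500, 649⟩] 30 1 2079 33 1883)))
 (.node (.leaf (.mul 3 547 118 1315))
 (.leaf (.tree 0 0 0 1))))
 (.node (.node (.leaf (.mul 6 325 283 1839))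
 (.leaf (.tree 0 0 0 1)))
 (.node (.leaf (.mul 15 828 837 182))
 (.leaf (.tree 0 0 0 1)))))
 (.node (.node (.node (.leaf (.mul 1 197 13 401))
 (.leaf (.coin 33 1092 1221 1802)))
 (.node (.leaf (.mul 5 265 223 425))
 (.leaf (.tree 0 0 0 1))))
 (.node (.node (.leaf (.mul 12 453 443 712))
 (.leaf (.tree 0 0 0 1)))
 (.node (.leaf (.mul 5 965 249 1467))
 (.leaf (.tree 0 0 0 1)))))))
 (.node (.node (.node (.node (.node (.leaf (.tree 1 1 3 5))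
 (.leaf (.mul 7 1061 362 793)))
 (.node (.leaf (.mul 1 549 13 1679))
 (.leaf (.tree 0 0 0 1))))
 (.node (.node (.leaf (.mul 2 293 51 824))
 (.leaf (.tree 0 0 0 1)))
 (.node (.leaf (.mul 3 547 124 1565))
 (.leaf (.tree 0 0 0 1)))))
 (.node (.node (.node (.leaf (.mul 1 165 10 1438))
 (.leaf (.chain 2 [⟨945, 946, 862, 446⟩, ⟨451, 3013, 923, 450⟩, ⟨877, 705, 705, 935⟩] 25 1 1 17 1085)))
 (.node (.leaf (.mul 3 677 94 793))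
 (.leaf (.tree 0 0 0 1))))
 (.node (.node (.leaf (.mul 4 421 162 155))
 (.leaf (.tree 0 0 0 1)))
 (.node (.leaf (.chain 9 [⟨461, 2831, 269, 444⟩, ⟨172, 247, 958, 932⟩, ⟨183, 2832, 1854, 933⟩] 12 0 2 10 1922))
 (.leaf (.tree 0 0 0 1))))))
 (.node (.node (.node (.node (.leaf (.mul 1 101 13 572))
 (.leaf (.chain 2 [⟨1125, 472, 1051, 863⟩, ⟨1102, 3151, 755, 605⟩, ⟨958, 674, 1569, 605⟩] 29 1 2079 28 1678)))
 (.node (.leaf (.mul 8 613 577 1215))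
 (.leaf (.tree 0 0 0 1))))
 (.node (.node (.leaf (.mul 2 357 65 1698))
 (.leaf (.tree 0 0 0 1)))
 (.node (.leaf (.mul 18 608 642 1215))
 (.leaf (.tree 0 0 0 1)))))
 (.node (.node (.node (.leaf (.mul 5 229 223 1668))
 (.leaf (.chain 13 [⟨1132, 3321, 1299, 1118⟩, ⟨1139, 402, 748, 450⟩, ⟨1132, 3017, 1224, 1118⟩] 31 0 1237 25 1510)))
 (.node (.leaf (.mul 10 741 568 1751))
 (.leaf (.tree 0 0 0 1))))
 (.node (.node (.leaf (.mul 12 448 440 782))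
 (.leaf (.tree 0 0 0 1)))
 (.node (.leaf (.chain 0 [⟨994, 56, 1353, 605⟩, ⟨997, 1974, 1731, 533⟩] 19 0 45 19 1761))
 (.leaf (.tree 0 0 0 1))))))))

/-- Part 7 of `facts`. -/
def facts7 : FTbl :=
 (.node (.node (.node (.node (.node (.node (.leaf (.transfer 1 ⟨0, 98, 315, 6⟩ 315))
 (.leaf (.chain 1 [⟨832, 2877, 949, 854⟩, ⟨319, 2747, 2195, 1030⟩] 15 1 2 15 2226)))
 (.node (.leaf (.mul 3 518 124 855))
 (.leaf (.tree 0 0 0 1))))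
 (.node (.node (.leaf (.mul 3 262 118 657))
 (.leaf (.chain 1 [⟨1096, 3489, 1343, 1095⟩, ⟨1144, 3120, 621, 863⟩] 33 1 2 30 955)))
 (.node (.leaf (.mul 2 774 51 1552))
 (.leaf (.tree 0 0 0 1)))))
 (.node (.node (.node (.leaf (.mul 1 134 13 155))
 (.leaf (.chain 5 [⟨997, 2733, 158, 1114⟩, ⟨1079, 3467, 1977, 603⟩, ⟨997, 371, 1501, 533⟩] 21 1 40 19 2028)))
 (.node (.leaf (.chain 66 [⟨500, 302, 1520, 502⟩, ⟨515, 3114, 658, 454⟩, ⟨516, 3145, 2110, 526⟩, ⟨646, 3353, 393, 533⟩] 24 1 0 30 2078))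
 (.leaf (.tree 0 0 0 1))))
 (.node (.node (.leaf (.transfer 7 ⟨60, 2812, 762, 390⟩ 762))
 (.leaf (.tree 0 0 0 1)))
 (.node (.leaf (.mul 7 902 352 54))
 (.leaf (.tree 0 0 0 1))))))
 (.node (.node (.node (.node (.leaf (.mul 1 70 23 693))
 (.leaf (.unit 33)))
 (.node (.leaf (.mul 1 134 4 1222))
 (.leaf (.tree 0 0 0 1))))
 (.node (.node (.leaf (.mul 6 326 279 752))
 (.leaf (.tree 0 0 0 1)))
 (.node (.leaf (.mul 15 838 837 1904))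
 (.leaf (.tree 0 0 0 1)))))
 (.node (.node (.node (.leaf (.mul 1 198 4 562))
 (.leaf (.mul 33 1095 1222 1802)))
 (.node (.leaf (.mul 5 710 249 1937))
 (.leaf (.tree 0 0 0 1))))
 (.node (.node (.leaf (.mul 12 454 437 1182))
 (.leaf (.tree 0 0 0 1)))
 (.node (.leaf (.mul 5 966 227 150))
 (.leaf (.tree 0 0 0 1)))))))
 (.node (.node (.node (.node (.node (.leaf (.unit 2))
 (.leaf (.chain 1 [⟨483, 3081, 1978, 477⟩, ⟨466, 2871, 1709, 1062⟩] 16 1 2 16 2008)))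
 (.node (.leaf (.mul 1 550 4 149))
 (.leaf (.tree 0 0 0 1))))
 (.node (.node (.leaf (.mul 2 294 65 962))
 (.leaf (.tree 0 0 0 1)))
 (.node (.leaf (.chain 1 [⟨538, 2801, 550, 805⟩, ⟨182, 2778, 353, 806⟩] 9 1 2 9 593))
 (.leaf (.tree 0 0 0 1)))))
 (.node (.node (.node (.leaf (.mul 1 166 13 934))
 (.leaf (.mul 12 447 440 1745)))
 (.node (.leaf (.mul 3 678 124 489))
 (.leaf (.tree 0 0 0 1))))
 (.node (.node (.leaf (.transfer 11 ⟨194, 98, 315, 422⟩ 315))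
 (.leaf (.tree 0 0 0 1)))
 (.node (.leaf (.mul 12 628 440 304))
 (.leaf (.tree 0 0 0 1))))))
 (.node (.node (.node (.node (.leaf (.chain 0 [⟨76, 346, 1920, 95⟩, ⟨36, 0, 0, 102⟩] 3 0 0 3 64))
 (.leaf (.chain 1 [⟨1126, 3128, 937, 863⟩, ⟨949, 3355, 295, 665⟩] 29 1 1076 30 1947)))
 (.node (.leaf (.chain 0 [⟨611, 47, 1164, 610⟩, ⟨612, 1304, 1065, 614⟩] 18 0 0 17 1160))
 (.leaf (.tree 0 0 0 1))))
 (.node (.node (.leaf (.mul 2 358 51 2176))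
 (.leaf (.tree 0 0 0 1)))
 (.node (.leaf (.chain 0 [⟨864, 1201, 56, 863⟩, ⟨869, 1304, 1065, 870⟩] 29 0 0 28 831))
 (.leaf (.tree 0 0 0 1)))))
 (.node (.node (.node (.leaf (.flip ⟨38, 2764, 2191, 230⟩ 5 1 0 1 2129))
 (.leaf (.chain 9 [⟨1132, 3258, 1831, 1118⟩, ⟨1136, 184, 2075, 459⟩, ⟨1207, 2954, 603, 1034⟩] 31 0 30 32 1010)))
 (.node (.leaf (.chain 38 [⟨737, 960, 264, 732⟩, ⟨740, 3095, 1154, 742⟩, ⟨515, 2836, 2038, 436⟩, ⟨651, 674, 1569, 537⟩] 23 1 30 20 1847))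
 (.leaf (.tree 0 0 0 1))))
 (.node (.node (.leaf (.mul 12 486 443 696))
 (.leaf (.tree 0 0 0 1)))
 (.node (.leaf (.chain 6 [⟨998, 670, 677, 605⟩, ⟨954, 2801, 550, 603⟩, ⟨810, 96, 754, 699⟩] 19 1 44 18 429))
 (.leaf (.tree 0 0 0 1))))))))

/-- Part 8 of `facts`. -/
def facts8 : FTbl :=
 (.node (.node (.node (.node (.node (.node (.leaf (.mul 1 5 7 1520))
 (.leaf (.unit 27)))
 (.node (.leaf (.transfer 9 ⟨182, 2859, 649, 519⟩ 649))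
 (.leaf (.tree 0 0 0 1))))
 (.node (.node (.leaf (.chain 57 [⟨231, 2831, 269, 251⟩, ⟨37, 2781, 2147, 257⟩, ⟨172, 309, 223, 261⟩, ⟨183, 2789, 1556, 263⟩] 5 1 1 10 1584))
 (.leaf (.zero 1)))
 (.node (.leaf (.mul 2 775 65 1806))
 (.leaf (.tree 0 0 0 1)))))
 (.node (.node (.node (.leaf (.transfer 4 ⟨37, 2849, 544, 135⟩ 544))
 (.leaf (.chain 0 [⟨927, 159, 883, 937⟩, ⟨811, 602, 2145, 741⟩] 22 0 0 22 2094)))
 (.node (.leaf (.chain 9 [⟨451, 3228, 284, 446⟩, ⟨492, 741, 2200, 494⟩, ⟨647, 3461, 1542, 495⟩] 25 0 2 30 1060))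
 (.leaf (.tree 0 0 0 1))))
 (.node (.node (.leaf (.mul 7 372 391 460))
 (.leaf (.tree 0 0 0 1)))
 (.node (.leaf (.chain 4 [⟨898, 88, 1035, 490⟩, ⟨483, 2782, 1979, 899⟩, ⟨770, 455, 119, 903⟩] 16 1 29 15 1497))
 (.leaf (.tree 0 0 0 1))))))
 (.node (.node (.node (.node (.leaf (.mul 1 71 13 1730))
 (.leaf (.flip ⟨1092, 3404, 874, 1095⟩ 33 1 0 29 1740)))
 (.node (.leaf (.mul 1 583 10 956))
 (.leaf (.tree 0 0 0 1))))
 (.node (.node (.leaf (.mul 6 327 297 522))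
 (.leaf (.tree 0 0 0 1)))
 (.node (.leaf (.mul 15 839 830 100))
 (.leaf (.tree 0 0 0 1)))))
 (.node (.node (.node (.leaf (.mul 1 199 18 1171))
 (.leaf (.mul 33 1223 1222 1022)))
 (.node (.leaf (.mul 5 711 227 1643))
 (.leaf (.tree 0 0 0 1))))
 (.node (.node (.leaf (.mul 12 455 440 1544))
 (.leaf (.tree 0 0 0 1)))
 (.node (.leaf (.mul 5 967 227 1008))
 (.leaf (.tree 0 0 0 1)))))))
 (.node (.node (.node (.node (.node (.leaf (.zero 53))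
 (.leaf (.chain 1 [⟨904, 3128, 937, 472⟩, ⟨897, 2975, 1550, 857⟩] 16 1 40 16 1301)))
 (.node (.leaf (.mul 1 551 10 52))
 (.leaf (.tree 0 0 0 1))))
 (.node (.node (.leaf (.mul 2 295 41 583))
 (.leaf (.tree 0 0 0 1)))
 (.node (.leaf (.chain 1 [⟨555, 2841, 2102, 744⟩, ⟨740, 2841, 2102, 564⟩] 9 1 41 12 2098))
 (.leaf (.tree 0 0 0 1)))))
 (.node (.node (.node (.leaf (.mul 1 167 10 1260))
 (.leaf (.chain 1 [⟨451, 3162, 1364, 459⟩, ⟨435, 2946, 745, 1191⟩] 25 1 2 25 493)))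
 (.node (.leaf (.chain 0 [⟨579, 1390, 726, 578⟩, ⟨113, 1069, 106, 679⟩] 8 0 0 8 2165))
 (.leaf (.tree 0 0 0 1))))
 (.node (.node (.leaf (.mul 11 417 423 315))
 (.leaf (.tree 0 0 0 1)))
 (.node (.leaf (.chain 22 [⟨737, 571, 1379, 732⟩, ⟨740, 2844, 132, 739⟩, ⟨934, 335, 815, 935⟩, ⟨811, 194, 1015, 720⟩] 23 0 30 22 1325))
 (.leaf (.tree 0 0 0 1))))))
 (.node (.node (.node (.node (.leaf (.mul 1 28 10 469))
 (.leaf (.chain 32 [⟨1098, 719, 271, 1075⟩, ⟨1127, 3434, 221, 863⟩, ⟨950, 1372, 2103, 649⟩, ⟨1103, 243, 596, 665⟩] 32 0 41 29 2099)))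
 (.node (.leaf (.unit 17))
 (.leaf (.tree 0 0 0 1))))
 (.node (.node (.leaf (.mul 2 359 65 2031))
 (.leaf (.tree 0 0 0 1)))
 (.node (.leaf (.mul 4 212 155 451))
 (.leaf (.tree 0 0 0 1)))))
 (.node (.node (.node (.leaf (.mul 5 219 227 147))
 (.leaf (.chain 2 [⟨1121, 946, 862, 1118⟩, ⟨1082, 3128, 937, 605⟩, ⟨959, 1347, 81, 665⟩] 31 1 1 21 1161)))
 (.node (.leaf (.mul 9 521 543 2059))
 (.leaf (.tree 0 0 0 1))))
 (.node (.node (.leaf (.chain 67 [⟨483, 3057, 1667, 484⟩, ⟨407, 2758, 1522, 485⟩, ⟨218, 2999, 1933, 463⟩, ⟨435, 2826, 147, 487⟩] 16 0 0 25 1263))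
 (.leaf (.tree 0 0 0 1)))
 (.node (.leaf (.chain 68 [⟨993, 3522, 2002, 930⟩, ⟨999, 2986, 1972, 605⟩, ⟨869, 1363, 165, 643⟩, ⟨984, 3382, 1121, 665⟩] 22 1 2079 20 1423))
 (.leaf (.tree 0 0 0 1))))))))

/-- Part 9 of `facts`. -/
def facts9 : FTbl :=
 (.node (.node (.node (.node (.node (.node (.leaf (.zero 125))
 (.leaf (.transfer 27 ⟨1028, 2700, 847, 856⟩ 847)))
 (.node (.leaf (.mul 9 517 520 649))
 (.leaf (.tree 0 0 0 1))))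
 (.node (.node (.leaf (.mul 5 224 249 1543))
 (.leaf (.zero 2)))
 (.node (.leaf (.mul 2 776 51 2061))
 (.leaf (.tree 0 0 0 1)))))
 (.node (.node (.node (.leaf (.mul 4 131 136 370))
 (.leaf (.flip ⟨969, 3233, 1257, 930⟩ 22 1 1 13 1257)))
 (.node (.leaf (.unit 30))
 (.leaf (.tree 0 0 0 1))))
 (.node (.node (.leaf (.mul 7 392 362 1441))
 (.leaf (.tree 0 0 0 1)))
 (.node (.leaf (.mul 16 477 473 1715))
 (.leaf (.tree 0 0 0 1))))))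
 (.node (.node (.node (.node (.leaf (.mul 1 72 13 242))
 (.leaf (.chain 1 [⟨1094, 3128, 937, 649⟩, ⟨1096, 3526, 169, 1095⟩] 30 1 1076 29 648)))
 (.node (.leaf (.mul 1 584 18 1201))
 (.leaf (.tree 0 0 0 1))))
 (.node (.node (.leaf (.mul 6 328 305 656))
 (.leaf (.tree 0 0 0 1)))
 (.node (.leaf (.mul 6 309 283 684))
 (.leaf (.tree 0 0 0 1)))))
 (.node (.node (.node (.leaf (.mul 1 200 13 936))
 (.leaf (.mul 33 1224 1222 1874)))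
 (.node (.leaf (.mul 5 712 249 1864))
 (.leaf (.tree 0 0 0 1))))
 (.node (.node (.leaf (.mul 12 456 440 82))
 (.leaf (.tree 0 0 0 1)))
 (.node (.leaf (.chain 4 [⟨706, 489, 923, 962⟩, ⟨264, 3108, 1297, 968⟩, ⟨811, 252, 467, 742⟩] 13 1 0 22 1139))
 (.leaf (.tree 0 0 0 1)))))))
 (.node (.node (.node (.node (.node (.leaf (.transfer 2 ⟨1, 2747, 2195, 40⟩ 2195))
 (.leaf (.mul 8 591 577 1741)))
 (.node (.leaf (.mul 1 552 13 220))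
 (.leaf (.tree 0 0 0 1))))
 (.node (.node (.leaf (.transfer 6 ⟨59, 690, 196, 296⟩ 196))
 (.leaf (.tree 0 0 0 1)))
 (.node (.leaf (.mul 3 546 118 6))
 (.leaf (.tree 0 0 0 1)))))
 (.node (.node (.node (.leaf (.mul 1 168 13 1788))
 (.leaf (.chain 5 [⟨470, 1377, 1023, 450⟩, ⟨1058, 2872, 589, 489⟩, ⟨470, 754, 598, 459⟩] 25 1 41 16 1880)))
 (.node (.leaf (.mul 8 591 580 847))
 (.leaf (.tree 0 0 0 1))))
 (.node (.node (.leaf (.mul 4 175 144 557))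
 (.leaf (.tree 0 0 0 1)))
 (.node (.leaf (.mul 22 924 929 1192))
 (.leaf (.tree 0 0 0 1))))))
 (.node (.node (.node (.node (.leaf (.mul 1 104 13 880))
 (.leaf (.chain 44 [⟨666, 1151, 901, 665⟩, ⟨619, 793, 774, 867⟩, ⟨612, 216, 934, 797⟩, ⟨661, 2687, 291, 879⟩] 28 0 2 28 1292)))
 (.node (.leaf (.transfer 17 ⟨612, 155, 1136, 593⟩ 1136))
 (.leaf (.tree 0 0 0 1))))
 (.node (.node (.leaf (.mul 2 360 51 946))
 (.leaf (.tree 0 0 0 1)))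
 (.node (.leaf (.mul 4 872 144 1360))
 (.leaf (.tree 0 0 0 1)))))
 (.node (.node (.node (.leaf (.mul 5 232 227 972))
 (.leaf (.chain 1 [⟨1119, 3489, 1343, 1118⟩, ⟨1117, 2972, 1654, 736⟩] 31 1 2 31 1812)))
 (.node (.leaf (.transfer 20 ⟨651, 1341, 1638, 744⟩ 1638))
 (.leaf (.tree 0 0 0 1))))
 (.node (.node (.leaf (.mul 16 472 476 1394))
 (.leaf (.tree 0 0 0 1)))
 (.node (.leaf (.chain 2 [⟨936, 594, 1768, 736⟩, ⟨1000, 2924, 2135, 937⟩, ⟨931, 2694, 950, 652⟩] 23 1 2079 23 1750))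
 (.leaf (.tree 0 0 0 1))))))))

/-- Part 10 of `facts`. -/
def facts10 : FTbl :=
 (.node (.node (.node (.node (.node (.node (.leaf (.transfer 1 ⟨0, 125, 1199, 9⟩ 1199))
 (.leaf (.mul 27 1032 1033 847)))
 (.node (.leaf (.mul 3 84 89 853))
 (.leaf (.tree 0 0 0 1))))
 (.node (.node (.leaf (.mul 1 2 7 315))
 (.leaf (.zero 3)))
 (.node (.leaf (.mul 6 280 297 235))
 (.leaf (.tree 0 0 0 1)))))
 (.node (.node (.node (.leaf (.mul 1 128 10 1192))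
 (.leaf (.chain 11 [⟨1161, 3232, 2100, 926⟩, ⟨725, 1126, 407, 709⟩, ⟨756, 3269, 1249, 726⟩] 22 0 3 24 403)))
 (.node (.leaf (.flip ⟨646, 2934, 2209, 649⟩ 30 1 1 21 810))
 (.leaf (.tree 0 0 0 1))))
 (.node (.node (.leaf (.mul 7 393 352 1413))
 (.leaf (.tree 0 0 0 1)))
 (.node (.leaf (.chain 61 [⟨686, 3152, 1953, 746⟩, ⟨666, 1441, 1637, 665⟩, ⟨880, 3142, 612, 867⟩, ⟨904, 2860, 1882, 905⟩] 20 1 1076 15 1277))
 (.leaf (.tree 0 0 0 1))))))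
 (.node (.node (.node (.node (.leaf (.transfer 3 ⟨36, 82, 1634, 73⟩ 1634))
 (.leaf (.chain 48 [⟨1076, 1353, 1201, 1075⟩, ⟨1082, 3224, 1868, 603⟩, ⟨1083, 2023, 1804, 665⟩, ⟨1097, 3529, 2201, 649⟩] 32 0 0 29 1506)))
 (.node (.leaf (.mul 3 82 118 940))
 (.leaf (.tree 0 0 0 1))))
 (.node (.node (.leaf (.mul 6 329 297 1749))
 (.leaf (.tree 0 0 0 1)))
 (.node (.leaf (.mul 6 841 305 1372))
 (.leaf (.tree 0 0 0 1)))))
 (.node (.node (.node (.leaf (.mul 4 176 144 1269))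
 (.leaf (.mul 33 1225 1222 673)))
 (.node (.leaf (.transfer 13 ⟨240, 1097, 893, 713⟩ 893))
 (.leaf (.tree 0 0 0 1))))
 (.node (.node (.leaf (.transfer 25 ⟨435, 2786, 325, 457⟩ 325))
 (.leaf (.tree 0 0 0 1)))
 (.node (.leaf (.chain 13 [⟨700, 3100, 496, 907⟩, ⟨733, 1342, 910, 732⟩, ⟨969, 3194, 1775, 735⟩] 20 0 43 22 1393))
 (.leaf (.tree 0 0 0 1)))))))
 (.node (.node (.node (.node (.node (.leaf (.mul 2 39 41 2195))
 (.leaf (.chain 0 [⟨619, 441, 296, 865⟩, ⟨607, 883, 578, 1065⟩] 17 0 0 18 1082)))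
 (.node (.leaf (.chain 13 [⟨538, 2897, 230, 544⟩, ⟨76, 58, 870, 547⟩, ⟨38, 2764, 2191, 553⟩] 9 0 1 5 731))
 (.leaf (.tree 0 0 0 1))))
 (.node (.node (.leaf (.mul 6 291 297 1569))
 (.leaf (.tree 0 0 0 1)))
 (.node (.leaf (.chain 8 [⟨570, 2879, 231, 560⟩, ⟨113, 2693, 1657, 809⟩, ⟨800, 2776, 397, 681⟩] 10 0 0 18 2101))
 (.leaf (.tree 0 0 0 1)))))
 (.node (.node (.node (.leaf (.mul 1 169 18 1093))
 (.leaf (.chain 3 [⟨470, 491, 974, 459⟩, ⟨1063, 3121, 782, 477⟩, ⟨488, 838, 2208, 881⟩] 25 1 46 25 1463)))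
 (.node (.leaf (.mul 8 681 577 996))
 (.leaf (.tree 0 0 0 1))))
 (.node (.node (.leaf (.transfer 11 ⟨194, 737, 651, 425⟩ 651))
 (.leaf (.tree 0 0 0 1)))
 (.node (.leaf (.flip ⟨923, 2713, 525, 937⟩ 22 0 44 20 871))
 (.leaf (.tree 0 0 0 1))))))
 (.node (.node (.node (.node (.leaf (.mul 1 105 4 256))
 (.leaf (.chain 1 [⟨1087, 3128, 937, 665⟩, ⟨859, 3545, 1821, 649⟩] 28 1 40 19 1313)))
 (.node (.leaf (.mul 17 616 617 1136))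
 (.leaf (.tree 0 0 0 1))))
 (.node (.node (.leaf (.transfer 7 ⟨60, 2945, 1225, 361⟩ 1225))
 (.leaf (.tree 0 0 0 1)))
 (.node (.leaf (.mul 4 873 144 325))
 (.leaf (.tree 0 0 0 1)))))
 (.node (.node (.node (.leaf (.mul 5 233 223 1336))
 (.leaf (.chain 1 [⟨1256, 3489, 1343, 1118⟩, ⟨646, 2994, 941, 534⟩] 31 1 41 30 1039)))
 (.node (.leaf (.mul 20 652 745 1638))
 (.leaf (.tree 0 0 0 1))))
 (.node (.node (.leaf (.mul 16 489 476 304))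
 (.leaf (.tree 0 0 0 1)))
 (.node (.leaf (.chain 53 [⟨992, 3093, 843, 499⟩, ⟨1001, 3064, 1360, 732⟩, ⟨756, 3168, 1547, 736⟩, ⟨983, 1269, 1026, 502⟩] 24 1 44 24 1752))
 (.leaf (.tree 0 0 0 1))))))))

/-- Part 11 of `facts`. -/
def facts11 : FTbl :=
 (.node (.node (.node (.node (.node (.node (.leaf (.mul 1 8 10 590))
 (.leaf (.transfer 27 ⟨1028, 134, 527, 883⟩ 527)))
 (.node (.leaf (.mul 3 522 94 774))
 (.leaf (.tree 0 0 0 1))))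
 (.node (.node (.leaf (.mul 1 266 10 743))
 (.leaf (.tree 0 0 0 1)))
 (.node (.leaf (.mul 6 778 297 1279))
 (.leaf (.tree 0 0 0 1)))))
 (.node (.node (.node (.leaf (.mul 1 138 13 125))
 (.leaf (.chain 10 [⟨993, 2787, 971, 926⟩, ⟨862, 2706, 1719, 605⟩, ⟨1127, 3410, 1936, 863⟩] 22 0 42 30 1586)))
 (.node (.leaf (.tree 9 0 3 20))
 (.leaf (.tree 0 0 0 1))))
 (.node (.node (.leaf (.mul 7 394 362 505))
 (.leaf (.tree 0 0 0 1)))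
 (.node (.leaf (.mul 20 746 653 484))
 (.leaf (.tree 0 0 0 1))))))
 (.node (.node (.node (.node (.leaf (.mul 3 68 74 1634))
 (.leaf (.chain 0 [⟨1072, 901, 1359, 605⟩, ⟨1098, 1359, 1151, 1075⟩] 19 0 43 29 1809)))
 (.node (.leaf (.chain 15 [⟨579, 16, 472, 581⟩, ⟨76, 1096, 490, 582⟩, ⟨36, 196, 751, 585⟩, ⟨113, 2689, 309, 586⟩] 8 1 30 8 309))
 (.leaf (.tree 0 0 0 1))))
 (.node (.node (.leaf (.transfer 14 ⟨318, 416, 65, 330⟩ 65))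
 (.leaf (.tree 0 0 0 1)))
 (.node (.leaf (.mul 6 842 297 118))
 (.leaf (.tree 0 0 0 1)))))
 (.node (.node (.node (.leaf (.mul 2 43 41 774))
 (.leaf (.chain 45 [⟨1220, 2159, 1019, 1118⟩, ⟨1096, 2776, 397, 1226⟩, ⟨957, 2686, 1274, 863⟩, ⟨1081, 1435, 1818, 603⟩] 31 0 43 31 924)))
 (.node (.leaf (.mul 13 709 714 1231))
 (.leaf (.tree 0 0 0 1))))
 (.node (.node (.leaf (.mul 25 450 458 946))
 (.leaf (.tree 0 0 0 1)))
 (.node (.leaf (.chain 27 [⟨960, 815, 290, 863⟩, ⟨950, 1245, 194, 649⟩, ⟨689, 1072, 790, 665⟩, ⟨970, 783, 73, 907⟩] 29 1 3 22 1471))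
 (.leaf (.tree 0 0 0 1)))))))
 (.node (.node (.node (.node (.node (.leaf (.mul 2 42 41 1522))
 (.leaf (.mul 12 486 440 1224)))
 (.node (.leaf (.chain 57 [⟨538, 0, 0, 531⟩, ⟨182, 2794, 1849, 540⟩, ⟨554, 1043, 947, 544⟩, ⟨264, 3061, 783, 228⟩] 9 1 1 10 1447))
 (.leaf (.tree 0 0 0 1))))
 (.node (.node (.leaf (.mul 2 204 51 1221))
 (.leaf (.tree 0 0 0 1)))
 (.node (.leaf (.tree 10 0 3 22))
 (.leaf (.tree 0 0 0 1)))))
 (.node (.node (.node (.leaf (.chain 7 [⟨112, 58, 870, 95⟩, ⟨147, 2764, 2191, 163⟩, ⟨36, 234, 343, 170⟩] 3 1 0 3 2202))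
 (.leaf (.mul 16 489 481 1182)))
 (.node (.leaf (.chain 30 [⟨632, 2681, 853, 676⟩, ⟨611, 414, 1728, 610⟩, ⟨680, 1344, 1759, 682⟩, ⟨612, 726, 1278, 591⟩] 11 1 0 17 2155))
 (.leaf (.tree 0 0 0 1))))
 (.node (.node (.leaf (.mul 11 424 426 1231))
 (.leaf (.tree 0 0 0 1)))
 (.node (.leaf (.chain 2 [⟨938, 762, 1441, 930⟩, ⟨906, 3049, 2221, 907⟩, ⟨919, 126, 1692, 884⟩] 22 1 44 11 601))
 (.leaf (.tree 0 0 0 1))))))
 (.node (.node (.node (.node (.leaf (.mul 1 106 10 216))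
 (.leaf (.chain 7 [⟨1129, 2719, 1003, 665⟩, ⟨1130, 2773, 2019, 665⟩, ⟨1081, 2701, 171, 603⟩] 28 1 2079 31 1450)))
 (.node (.leaf (.flip ⟨612, 600, 1157, 618⟩ 17 0 1 8 1641))
 (.leaf (.tree 0 0 0 1))))
 (.node (.node (.leaf (.mul 7 353 362 1837))
 (.leaf (.tree 0 0 0 1)))
 (.node (.leaf (.mul 4 874 144 503))
 (.leaf (.tree 0 0 0 1)))))
 (.node (.node (.node (.leaf (.mul 5 234 223 141))
 (.leaf (.chain 1 [⟨1185, 3128, 937, 1118⟩, ⟨1045, 3272, 148, 333⟩] 31 1 40 28 1375)))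
 (.node (.leaf (.mul 5 232 249 1774))
 (.leaf (.tree 0 0 0 1))))
 (.node (.node (.leaf (.chain 39 [⟨334, 789, 420, 333⟩, ⟨445, 3096, 647, 323⟩, ⟨470, 1546, 665, 471⟩, ⟨488, 350, 1470, 490⟩] 26 0 41 25 779))
 (.leaf (.tree 0 0 0 1)))
 (.node (.leaf (.chain 2 [⟨754, 910, 536, 991⟩, ⟨1002, 2870, 228, 499⟩, ⟨761, 426, 208, 499⟩] 13 1 43 13 2182))
 (.leaf (.tree 0 0 0 1))))))))

/-- Part 12 of `facts`. -/
def facts12 : FTbl :=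
 (.node (.node (.node (.node (.node (.node (.leaf (.zero 126))
 (.leaf (.mul 27 1034 1035 719)))
 (.node (.leaf (.mul 3 523 124 242))
 (.leaf (.tree 0 0 0 1))))
 (.node (.node (.leaf (.mul 1 267 13 264))
 (.leaf (.tree 0 0 0 1)))
 (.node (.leaf (.chain 42 [⟨428, 1875, 384, 429⟩, ⟨189, 1096, 490, 771⟩, ⟨59, 125, 1199, 777⟩, ⟨318, 82, 1634, 779⟩] 11 1 30 14 2119))
 (.leaf (.tree 0 0 0 1)))))
 (.node (.node (.node (.leaf (.transfer 4 ⟨37, 2812, 762, 139⟩ 762))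
 (.leaf (.chain 7 [⟨927, 58, 870, 937⟩, ⟨738, 3099, 1582, 741⟩, ⟨811, 2713, 525, 569⟩] 22 1 41 22 1894)))
 (.node (.leaf (.unit 20))
 (.leaf (.tree 0 0 0 1))))
 (.node (.node (.leaf (.chain 37 [⟨338, 2037, 1327, 341⟩, ⟨307, 82, 1634, 343⟩, ⟨60, 2752, 186, 346⟩, ⟨388, 98, 315, 395⟩] 14 0 2 7 1712))
 (.leaf (.tree 0 0 0 1)))
 (.node (.leaf (.chain 39 [⟨689, 789, 420, 665⟩, ⟨906, 3184, 1771, 907⟩, ⟨849, 234, 343, 828⟩, ⟨322, 2696, 117, 332⟩] 28 0 3 26 1997))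
 (.leaf (.tree 0 0 0 1))))))
 (.node (.node (.node (.node (.leaf (.flip ⟨36, 346, 1920, 75⟩ 3 0 1 1 1633))
 (.leaf (.mul 8 581 577 785)))
 (.node (.leaf (.mul 3 262 89 245))
 (.leaf (.tree 0 0 0 1))))
 (.node (.node (.leaf (.mul 14 323 331 65))
 (.leaf (.tree 0 0 0 1)))
 (.node (.leaf (.mul 11 417 638 1839))
 (.leaf (.tree 0 0 0 1)))))
 (.node (.node (.node (.leaf (.mul 2 203 44 136))
 (.leaf (.chain 22 [⟨1138, 242, 2025, 1075⟩, ⟨1156, 3540, 889, 649⟩, ⟨1155, 129, 1659, 1118⟩, ⟨1227, 282, 1563, 1118⟩] 32 0 44 31 715)))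
 (.node (.leaf (.mul 5 265 249 1634))
 (.leaf (.tree 0 0 0 1))))
 (.node (.node (.leaf (.mul 12 452 440 891))
 (.leaf (.tree 0 0 0 1)))
 (.node (.leaf (.chain 13 [⟨859, 3430, 919, 649⟩, ⟨862, 2161, 2163, 603⟩, ⟨971, 2743, 1921, 863⟩] 30 0 45 22 849))
 (.leaf (.tree 0 0 0 1)))))))
 (.node (.node (.node (.node (.node (.leaf (.transfer 2 ⟨1, 2752, 186, 34⟩ 186))
 (.leaf (.chain 0 [⟨627, 1875, 384, 663⟩, ⟨877, 128, 71, 1067⟩] 17 0 29 17 1790)))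
 (.node (.leaf (.mul 9 531 530 82))
 (.leaf (.tree 0 0 0 1))))
 (.node (.node (.leaf (.mul 2 299 41 836))
 (.leaf (.tree 0 0 0 1)))
 (.node (.leaf (.mul 10 560 568 712))
 (.leaf (.tree 0 0 0 1)))))
 (.node (.node (.node (.leaf (.chain 9 [⟨147, 2758, 1522, 152⟩, ⟨36, 0, 0, 16⟩, ⟨171, 2752, 186, 68⟩] 4 0 2 3 839))
 (.leaf (.chain 0 [⟨1044, 1095, 1699, 910⟩, ⟨1047, 933, 1279, 1195⟩] 26 0 3 26 1479)))
 (.node (.leaf (.coin 17 673 683 1503))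
 (.leaf (.tree 0 0 0 1))))
 (.node (.node (.leaf (.flip ⟨194, 618, 1599, 427⟩ 11 0 1 4 1320))
 (.leaf (.tree 0 0 0 1)))
 (.node (.leaf (.chain 22 [⟨936, 669, 2153, 726⟩, ⟨939, 3118, 226, 937⟩, ⟨632, 2695, 1041, 676⟩, ⟨860, 328, 2023, 643⟩] 23 0 3 29 2180))
 (.leaf (.tree 0 0 0 1))))))
 (.node (.node (.node (.node (.leaf (.mul 1 107 13 1391))
 (.leaf (.flip ⟨1110, 2830, 854, 1118⟩ 31 1 46 25 676)))
 (.node (.leaf (.mul 3 82 89 1136))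
 (.leaf (.tree 0 0 0 1))))
 (.node (.node (.leaf (.mul 7 363 352 320))
 (.leaf (.tree 0 0 0 1)))
 (.node (.leaf (.mul 4 875 162 6))
 (.leaf (.tree 0 0 0 1)))))
 (.node (.node (.node (.leaf (.mul 1 26 13 1208))
 (.leaf (.chain 6 [⟨1246, 2683, 717, 1118⟩, ⟨1235, 3200, 1413, 863⟩, ⟨1246, 828, 642, 1118⟩] 31 1 17 29 1465)))
 (.node (.leaf (.mul 5 747 223 1483))
 (.leaf (.tree 0 0 0 1))))
 (.node (.node (.leaf (.tree 12 0 3 24))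
 (.leaf (.tree 0 0 0 1)))
 (.node (.leaf (.chain 0 [⟨936, 669, 2153, 736⟩, ⟨938, 664, 425, 937⟩] 23 0 17 20 449))
 (.leaf (.tree 0 0 0 1))))))))

/-- Part 13 of `facts`. -/
def facts13 : FTbl :=
 (.node (.node (.node (.node (.node (.node (.leaf (.transfer 1 ⟨0, 126, 1692, 12⟩ 1692))
 (.leaf (.flip ⟨1028, 1390, 726, 1036⟩ 27 0 1 15 1929)))
 (.node (.leaf (.transfer 9 ⟨182, 2959, 1207, 524⟩ 1207))
 (.leaf (.tree 0 0 0 1))))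
 (.node (.node (.leaf (.mul 1 268 18 1422))
 (.leaf (.tree 0 0 0 1)))
 (.node (.leaf (.mul 11 427 433 982))
 (.leaf (.tree 0 0 0 1)))))
 (.node (.node (.node (.leaf (.mul 4 137 140 1312))
 (.leaf (.chain 1 [⟨992, 3179, 1134, 986⟩, ⟨743, 2812, 762, 732⟩] 24 1 41 20 1236)))
 (.node (.leaf (.transfer 20 ⟨651, 670, 677, 537⟩ 677))
 (.leaf (.tree 0 0 0 1))))
 (.node (.node (.leaf (.mul 7 347 391 762))
 (.leaf (.tree 0 0 0 1)))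
 (.node (.leaf (.transfer 26 ⟨322, 458, 1839, 332⟩ 1839))
 (.leaf (.tree 0 0 0 1))))))
 (.node (.node (.node (.node (.leaf (.mul 1 69 4 1358))
 (.leaf (.chain 1 [⟨606, 3222, 2207, 605⟩, ⟨598, 3263, 1374, 1100⟩] 19 1 2 19 890)))
 (.node (.leaf (.mul 3 588 124 155))
 (.leaf (.tree 0 0 0 1))))
 (.node (.node (.leaf (.unit 26))
 (.leaf (.tree 0 0 0 1)))
 (.node (.leaf (.mul 11 844 426 864))
 (.leaf (.tree 0 0 0 1)))))
 (.node (.node (.node (.leaf (.mul 2 204 41 1763))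
 (.leaf (.chain 0 [⟨1217, 1201, 56, 863⟩, ⟨1228, 55, 178, 1075⟩] 29 0 40 31 808)))
 (.node (.leaf (.mul 5 716 223 1073))
 (.leaf (.tree 0 0 0 1))))
 (.node (.node (.leaf (.flip ⟨218, 2966, 1250, 460⟩ 12 1 0 4 1653))
 (.leaf (.tree 0 0 0 1)))
 (.node (.leaf (.chain 2 [⟨632, 1647, 1414, 845⟩, ⟨644, 3180, 1140, 608⟩, ⟨972, 960, 264, 649⟩] 11 1 3 22 1159))
 (.leaf (.tree 0 0 0 1)))))))
 (.node (.node (.node (.node (.node (.leaf (.mul 2 43 44 2147))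
 (.leaf (.flip ⟨632, 2698, 1703, 870⟩ 18 0 17 11 1960)))
 (.node (.leaf (.mul 9 556 530 1373))
 (.leaf (.tree 0 0 0 1))))
 (.node (.node (.leaf (.mul 2 300 51 53))
 (.leaf (.tree 0 0 0 1)))
 (.node (.leaf (.chain 1 [⟨570, 2873, 1710, 812⟩, ⟨183, 2871, 1709, 588⟩] 10 1 2 10 2008))
 (.leaf (.tree 0 0 0 1)))))
 (.node (.node (.node (.leaf (.mul 4 131 140 460))
 (.leaf (.chain 0 [⟨921, 1201, 56, 333⟩, ⟨1083, 638, 1195, 665⟩] 26 0 29 30 1057)))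
 (.node (.leaf (.mul 17 618 684 1829))
 (.leaf (.tree 0 0 0 1))))
 (.node (.node (.leaf (.mul 11 417 426 651))
 (.leaf (.tree 0 0 0 1)))
 (.node (.leaf (.chain 25 [⟨921, 1527, 274, 333⟩, ⟨689, 1599, 528, 665⟩, ⟨931, 1188, 1155, 907⟩, ⟨940, 1315, 1127, 736⟩] 26 1 0 29 1404))
 (.leaf (.tree 0 0 0 1))))))
 (.node (.node (.node (.node (.leaf (.mul 1 108 18 657))
 (.leaf (.chain 1 [⟨1131, 3128, 937, 665⟩, ⟨1132, 3132, 2171, 1118⟩] 28 1 1076 25 1318)))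
 (.node (.leaf (.mul 3 620 118 2149))
 (.leaf (.tree 0 0 0 1))))
 (.node (.node (.leaf (.mul 7 364 362 874))
 (.leaf (.tree 0 0 0 1)))
 (.node (.leaf (.chain 8 [⟨461, 2879, 231, 436⟩, ⟨194, 2693, 1657, 876⟩, ⟨673, 2776, 397, 676⟩] 12 0 0 17 431))
 (.leaf (.tree 0 0 0 1)))))
 (.node (.node (.node (.leaf (.mul 1 236 4 16))
 (.leaf (.chain 2 [⟨1227, 946, 862, 1118⟩, ⟨1132, 3098, 125, 1118⟩, ⟨1139, 1212, 1152, 446⟩] 31 1 43 31 1931)))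
 (.node (.leaf (.mul 5 748 227 478))
 (.leaf (.tree 0 0 0 1))))
 (.node (.node (.leaf (.mul 12 453 440 1233))
 (.leaf (.tree 0 0 0 1)))
 (.node (.leaf (.mul 15 883 830 1958))
 (.leaf (.tree 0 0 0 1))))))))

/-- Part 14 of `facts`. -/
def facts14 : FTbl :=
 (.node (.node (.node (.node (.node (.node (.leaf (.mul 1 11 13 629))
 (.leaf (.mul 27 1032 1035 527)))
 (.node (.leaf (.mul 9 521 525 2054))
 (.leaf (.tree 0 0 0 1))))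
 (.node (.node (.leaf (.chain 1 [⟨231, 2752, 186, 265⟩, ⟨38, 2782, 1979, 269⟩] 5 1 2 5 1598))
 (.leaf (.tree 0 0 0 1)))
 (.node (.leaf (.chain 11 [⟨407, 2883, 1016, 364⟩, ⟨194, 2689, 309, 415⟩, ⟨780, 2829, 1937, 781⟩] 7 0 3 14 1976))
 (.leaf (.tree 0 0 0 1)))))
 (.node (.node (.node (.leaf (.mul 4 141 136 125))
 (.leaf (.chain 10 [⟨1164, 3280, 68, 926⟩, ⟨1162, 522, 60, 926⟩, ⟨1165, 3166, 1639, 986⟩] 22 0 40 20 1472)))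
 (.node (.leaf (.mul 20 652 653 677))
 (.leaf (.tree 0 0 0 1))))
 (.node (.node (.leaf (.mul 7 397 376 82))
 (.leaf (.tree 0 0 0 1)))
 (.node (.leaf (.mul 26 333 909 1839))
 (.leaf (.tree 0 0 0 1))))))
 (.node (.node (.node (.node (.leaf (.mul 1 77 13 571))
 (.leaf (.chain 5 [⟨955, 1935, 1289, 605⟩, ⟨1078, 2870, 228, 605⟩, ⟨955, 1617, 741, 603⟩] 19 1 46 19 1025)))
 (.node (.leaf (.transfer 8 ⟨113, 98, 315, 589⟩ 315))
 (.leaf (.tree 0 0 0 1))))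
 (.node (.node (.leaf (.flip ⟨322, 1203, 1693, 333⟩ 26 0 1 14 2184))
 (.leaf (.tree 0 0 0 1)))
 (.node (.leaf (.mul 11 845 426 1257))
 (.leaf (.tree 0 0 0 1)))))
 (.node (.node (.node (.leaf (.mul 2 205 44 1863))
 (.leaf (.flip ⟨1209, 370, 1869, 863⟩ 29 0 17 28 76)))
 (.node (.leaf (.mul 5 717 227 1738))
 (.leaf (.tree 0 0 0 1))))
 (.node (.node (.leaf (.mul 4 150 136 82))
 (.leaf (.tree 0 0 0 1)))
 (.node (.leaf (.chain 1 [⟨461, 2930, 1558, 456⟩, ⟨218, 2871, 1709, 260⟩] 12 1 2 12 2008))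
 (.leaf (.tree 0 0 0 1)))))))
 (.node (.node (.node (.node (.node (.leaf (.mul 2 45 41 762))
 (.leaf (.chain 0 [⟨953, 267, 1094, 870⟩, ⟨810, 767, 1406, 742⟩] 18 0 1237 18 1052)))
 (.node (.leaf (.mul 9 557 543 1116))
 (.leaf (.tree 0 0 0 1))))
 (.node (.node (.leaf (.mul 2 301 41 953))
 (.leaf (.tree 0 0 0 1)))
 (.node (.leaf (.flip ⟨264, 2980, 606, 569⟩ 10 1 40 5 645))
 (.leaf (.tree 0 0 0 1)))))
 (.node (.node (.node (.leaf (.mul 4 173 136 1281))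
 (.leaf (.chain 0 [⟨491, 884, 956, 910⟩, ⟨1136, 1507, 1525, 459⟩] 26 0 44 27 1607)))
 (.node (.leaf (.chain 31 [⟨658, 2692, 589, 654⟩, ⟨664, 2059, 1381, 652⟩, ⟨666, 323, 927, 665⟩, ⟨661, 155, 1136, 685⟩] 20 1 0 28 1626))
 (.leaf (.tree 0 0 0 1))))
 (.node (.node (.leaf (.mul 4 425 144 700))
 (.leaf (.tree 0 0 0 1)))
 (.node (.leaf (.chain 33 [⟨615, 1898, 1736, 610⟩, ⟨619, 634, 866, 685⟩, ⟨680, 250, 1517, 581⟩, ⟨607, 2697, 1725, 578⟩] 18 0 30 18 365))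
 (.leaf (.tree 0 0 0 1))))))
 (.node (.node (.node (.node (.leaf (.mul 1 109 13 850))
 (.leaf (.flip ⟨445, 3210, 1715, 450⟩ 25 1 30 14 2049)))
 (.node (.leaf (.mul 3 621 124 1571))
 (.leaf (.tree 0 0 0 1))))
 (.node (.node (.leaf (.flip ⟨60, 0, 0, 365⟩ 7 1 0 2 1))
 (.leaf (.tree 0 0 0 1)))
 (.node (.leaf (.chain 6 [⟨488, 401, 168, 489⟩, ⟨451, 3133, 93, 459⟩, ⟨877, 736, 115, 448⟩] 16 1 3 17 188))
 (.leaf (.tree 0 0 0 1)))))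
 (.node (.node (.node (.leaf (.mul 1 237 18 300))
 (.leaf (.chain 2 [⟨1253, 946, 862, 1118⟩, ⟨1097, 3560, 2125, 649⟩, ⟨1124, 1014, 1684, 863⟩] 31 1 44 20 2007)))
 (.node (.leaf (.mul 13 715 714 1279))
 (.leaf (.tree 0 0 0 1))))
 (.node (.node (.leaf (.mul 12 493 440 1889))
 (.leaf (.tree 0 0 0 1)))
 (.node (.leaf (.chain 2 [⟨1004, 946, 862, 726⟩, ⟨906, 2806, 265, 746⟩, ⟨849, 126, 1692, 1005⟩] 23 1 17 14 1309))
 (.leaf (.tree 0 0 0 1))))))))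

/-- Part 15 of `facts`. -/
def facts15 : FTbl :=
 (.node (.node (.node (.node (.node (.node (.leaf (.mul 1 14 10 760))
 (.leaf (.chain 50 [⟨1037, 947, 415, 1038⟩, ⟨919, 1647, 1414, 855⟩, ⟨632, 1023, 1367, 424⟩, ⟨644, 3422, 399, 610⟩] 27 0 2 30 399)))
 (.node (.leaf (.unit 21))
 (.leaf (.tree 0 0 0 1))))
 (.node (.node (.leaf (.unit 6))
 (.leaf (.tree 0 0 0 1)))
 (.node (.leaf (.mul 7 349 362 617))
 (.leaf (.tree 0 0 0 1)))))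
 (.node (.node (.node (.leaf (.mul 1 71 18 234))
 (.leaf (.chain 3 [⟨1163, 728, 1173, 924⟩, ⟨859, 3073, 1668, 649⟩, ⟨862, 180, 1508, 603⟩] 22 1 3 29 1143)))
 (.node (.leaf (.flip ⟨651, 388, 2144, 654⟩ 20 0 1 9 2168))
 (.leaf (.tree 0 0 0 1))))
 (.node (.node (.leaf (.mul 7 398 362 1345))
 (.leaf (.tree 0 0 0 1)))
 (.node (.leaf (.mul 14 340 820 2036))
 (.leaf (.tree 0 0 0 1))))))
 (.node (.node (.node (.node (.leaf (.mul 1 78 10 89))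
 (.leaf (.chain 0 [⟨943, 1201, 56, 665⟩, ⟨860, 1920, 574, 610⟩] 28 0 45 29 863)))
 (.node (.leaf (.mul 8 575 590 315))
 (.leaf (.tree 0 0 0 1))))
 (.node (.node (.leaf (.mul 6 271 290 172))
 (.leaf (.tree 0 0 0 1)))
 (.node (.leaf (.mul 11 846 433 677))
 (.leaf (.tree 0 0 0 1)))))
 (.node (.node (.node (.leaf (.mul 2 206 41 1509))
 (.leaf (.chain 13 [⟨1104, 3302, 640, 863⟩, ⟨864, 491, 974, 863⟩, ⟨861, 3136, 2107, 870⟩] 29 0 43 29 1091)))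
 (.node (.leaf (.mul 10 696 601 2223))
 (.leaf (.tree 0 0 0 1))))
 (.node (.node (.leaf (.mul 4 462 144 783))
 (.leaf (.tree 0 0 0 1)))
 (.node (.leaf (.mul 12 628 443 278))
 (.leaf (.tree 0 0 0 1)))))))
 (.node (.node (.node (.node (.node (.leaf (.mul 2 46 44 231))
 (.leaf (.chain 2 [⟨955, 1395, 959, 605⟩, ⟨954, 2883, 1016, 603⟩, ⟨811, 267, 1094, 741⟩] 19 1 30 22 1094)))
 (.node (.leaf (.mul 9 558 525 1381))
 (.leaf (.tree 0 0 0 1))))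
 (.node (.node (.leaf (.mul 2 302 65 2080))
 (.leaf (.tree 0 0 0 1)))
 (.node (.leaf (.flip ⟨555, 2798, 411, 602⟩ 10 1 2079 9 1549))
 (.leaf (.tree 0 0 0 1)))))
 (.node (.node (.node (.leaf (.mul 4 174 140 1911))
 (.leaf (.mul 14 341 331 212)))
 (.node (.leaf (.chain 8 [⟨535, 2879, 231, 527⟩, ⟨651, 700, 664, 517⟩, ⟨686, 2993, 1807, 652⟩] 21 0 0 28 1815))
 (.leaf (.tree 0 0 0 1))))
 (.node (.node (.leaf (.mul 4 430 144 842))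
 (.leaf (.tree 0 0 0 1)))
 (.node (.leaf (.chain 20 [⟨908, 1904, 242, 665⟩, ⟨941, 3136, 2107, 910⟩, ⟨864, 2159, 1019, 863⟩, ⟨942, 317, 476, 870⟩] 28 0 42 18 721))
 (.leaf (.tree 0 0 0 1))))))
 (.node (.node (.node (.node (.leaf (.zero 68))
 (.leaf (.mul 14 1018 331 457)))
 (.node (.leaf (.mul 3 582 124 805))
 (.leaf (.tree 0 0 0 1))))
 (.node (.node (.leaf (.mul 2 355 41 460))
 (.leaf (.tree 0 0 0 1)))
 (.node (.leaf (.mul 17 616 684 1503))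
 (.leaf (.tree 0 0 0 1)))))
 (.node (.node (.node (.leaf (.chain 8 [⟨231, 2747, 2195, 235⟩, ⟨36, 1096, 490, 238⟩, ⟨182, 2998, 73, 119⟩] 5 0 0 9 73))
 (.leaf (.chain 1 [⟨1132, 3244, 851, 1118⟩, ⟨688, 3466, 1175, 450⟩] 31 1 30 28 1112)))
 (.node (.leaf (.mul 5 511 223 770))
 (.leaf (.tree 0 0 0 1))))
 (.node (.node (.leaf (.unit 24))
 (.leaf (.tree 0 0 0 1)))
 (.node (.leaf (.chain 52 [⟨988, 2894, 1348, 734⟩, ⟨1006, 2990, 2041, 736⟩, ⟨848, 2966, 1250, 323⟩, ⟨338, 720, 1901, 911⟩] 13 1 44 6 2064))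
 (.leaf (.tree 0 0 0 1))))))))

/-- Part 16 of `facts`. -/
def facts16 : FTbl :=
 (.node (.node (.node (.node (.node (.node (.leaf (.mul 1 15 13 514))
 (.leaf (.chain 3 [⟨1039, 842, 1453, 1034⟩, ⟨947, 3572, 2139, 649⟩, ⟨869, 880, 1786, 870⟩] 27 1 0 28 404)))
 (.node (.leaf (.mul 3 75 94 255))
 (.leaf (.tree 0 0 0 1))))
 (.node (.node (.leaf (.mul 2 203 41 2057))
 (.leaf (.tree 0 0 0 1)))
 (.node (.leaf (.mul 7 783 352 1330))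
 (.leaf (.tree 0 0 0 1)))))
 (.node (.node (.node (.leaf (.transfer 4 ⟨37, 2903, 279, 143⟩ 279))
 (.leaf (.mul 13 734 708 1825)))
 (.node (.leaf (.mul 9 557 520 1634))
 (.leaf (.tree 0 0 0 1))))
 (.node (.node (.leaf (.mul 7 399 352 1608))
 (.leaf (.tree 0 0 0 1)))
 (.node (.leaf (.mul 14 911 331 370))
 (.leaf (.tree 0 0 0 1))))))
 (.node (.node (.node (.node (.leaf (.mul 1 79 13 58))
 (.leaf (.chain 27 [⟨864, 1355, 750, 863⟩, ⟨611, 678, 1466, 870⟩, ⟨607, 1150, 1485, 682⟩, ⟨860, 644, 791, 610⟩] 29 1 46 29 1469)))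
 (.node (.leaf (.transfer 8 ⟨113, 458, 1839, 574⟩ 1839))
 (.leaf (.tree 0 0 0 1))))
 (.node (.node (.leaf (.transfer 14 ⟨318, 212, 1632, 335⟩ 1632))
 (.leaf (.tree 0 0 0 1)))
 (.node (.leaf (.chain 1 [⟨416, 2781, 2147, 340⟩, ⟨780, 2883, 1016, 847⟩] 14 1 2 14 1490))
 (.leaf (.tree 0 0 0 1)))))
 (.node (.node (.node (.leaf (.mul 2 207 51 1071))
 (.leaf (.chain 0 [⟨957, 1201, 56, 863⟩, ⟨1072, 109, 390, 603⟩] 29 0 44 32 338)))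
 (.node (.leaf (.mul 10 719 568 304))
 (.leaf (.tree 0 0 0 1))))
 (.node (.node (.leaf (.mul 4 463 144 2131))
 (.leaf (.tree 0 0 0 1)))
 (.node (.leaf (.chain 1 [⟨515, 3012, 1221, 975⟩, ⟨555, 3033, 1707, 692⟩] 12 1 40 10 422))
 (.leaf (.tree 0 0 0 1)))))))
 (.node (.node (.node (.node (.node (.leaf (.mul 2 47 41 1256))
 (.leaf (.tree 19 0 41 32)))
 (.node (.leaf (.unit 10))
 (.leaf (.tree 0 0 0 1))))
 (.node (.node (.leaf (.mul 2 303 51 1020))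
 (.leaf (.tree 0 0 0 1)))
 (.node (.leaf (.mul 4 196 144 1840))
 (.leaf (.tree 0 0 0 1)))))
 (.node (.node (.node (.leaf (.mul 4 175 136 242))
 (.leaf (.chain 2 [⟨334, 946, 862, 333⟩, ⟨445, 3092, 349, 1199⟩, ⟨1140, 1941, 1955, 450⟩] 26 1 1 26 1105)))
 (.node (.leaf (.chain 3 [⟨648, 1436, 954, 459⟩, ⟨650, 3380, 1838, 649⟩, ⟨687, 185, 1203, 527⟩] 25 1 3 28 666))
 (.leaf (.tree 0 0 0 1))))
 (.node (.node (.leaf (.mul 4 431 162 243))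
 (.leaf (.tree 0 0 0 1)))
 (.node (.leaf (.chain 63 [⟨629, 2798, 411, 799⟩, ⟨673, 2990, 2041, 417⟩, ⟨627, 942, 1497, 685⟩, ⟨435, 2746, 1384, 493⟩] 17 1 29 25 1724))
 (.leaf (.tree 0 0 0 1))))))
 (.node (.node (.node (.node (.leaf (.chain 37 [⟨76, 2683, 717, 84⟩, ⟨21, 0, 0, 110⟩, ⟨1, 0, 0, 111⟩, ⟨58, 58, 870, 39⟩] 3 0 2 4 2212))
 (.leaf (.chain 12 [⟨1134, 2769, 1863, 459⟩, ⟨322, 2714, 129, 1135⟩, ⟨1043, 2918, 375, 910⟩] 25 0 43 27 1652)))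
 (.node (.leaf (.mul 4 146 144 144))
 (.leaf (.tree 0 0 0 1))))
 (.node (.node (.leaf (.mul 2 367 41 2088))
 (.leaf (.tree 0 0 0 1)))
 (.node (.leaf (.flip ⟨878, 3109, 1674, 879⟩ 17 1 40 16 292))
 (.leaf (.tree 0 0 0 1)))))
 (.node (.node (.node (.leaf (.tree 5 0 3 13))
 (.leaf (.mul 33 1226 1222 931)))
 (.node (.leaf (.mul 5 751 227 1544))
 (.leaf (.tree 0 0 0 1))))
 (.node (.node (.leaf (.mul 12 454 440 2205))
 (.leaf (.tree 0 0 0 1)))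
 (.node (.leaf (.mul 6 833 283 760))
 (.leaf (.tree 0 0 0 1))))))))

/-- Part 17 of `facts`. -/
def facts17 : FTbl :=
 (.node (.node (.node (.node (.node (.node (.leaf (.zero 234))
 (.leaf (.chain 2 [⟨1028, 847, 1266, 856⟩, ⟨1040, 3444, 572, 1034⟩, ⟨689, 2731, 98, 665⟩] 15 1 3 20 1063)))
 (.node (.leaf (.mul 3 528 124 812))
 (.leaf (.tree 0 0 0 1))))
 (.node (.node (.leaf (.mul 2 272 44 1709))
 (.leaf (.tree 0 0 0 1)))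
 (.node (.leaf (.mul 7 784 362 2167))
 (.leaf (.tree 0 0 0 1)))))
 (.node (.node (.node (.leaf (.mul 4 142 144 182))
 (.leaf (.mul 13 1168 704 716)))
 (.node (.leaf (.mul 9 656 525 1942))
 (.leaf (.tree 0 0 0 1))))
 (.node (.node (.leaf (.mul 7 400 362 1182))
 (.leaf (.tree 0 0 0 1)))
 (.node (.leaf (.chain 10 [⟨848, 2747, 2195, 912⟩, ⟨338, 2683, 717, 332⟩, ⟨319, 2800, 1032, 819⟩] 14 0 42 15 668))
 (.leaf (.tree 0 0 0 1))))))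
 (.node (.node (.node (.node (.leaf (.transfer 3 ⟨36, 58, 870, 80⟩ 870))
 (.leaf (.chain 10 [⟨686, 3329, 1120, 907⟩, ⟨1103, 1065, 1870, 665⟩, ⟨1104, 2987, 1950, 863⟩] 20 0 3 29 1305)))
 (.node (.leaf (.mul 8 591 592 752))
 (.leaf (.tree 0 0 0 1))))
 (.node (.node (.leaf (.mul 14 323 336 1632))
 (.leaf (.tree 0 0 0 1)))
 (.node (.leaf (.chain 12 [⟨832, 2767, 1764, 840⟩, ⟨318, 827, 2091, 843⟩, ⟨848, 3039, 653, 821⟩] 15 0 29 14 900))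
 (.leaf (.tree 0 0 0 1)))))
 (.node (.node (.node (.leaf (.mul 2 208 65 1106))
 (.leaf (.chain 7 [⟨957, 1540, 706, 863⟩, ⟨1102, 2910, 242, 605⟩, ⟨1072, 2684, 200, 603⟩] 29 1 1 32 823)))
 (.node (.leaf (.mul 3 545 118 988))
 (.leaf (.tree 0 0 0 1))))
 (.node (.node (.leaf (.mul 4 464 162 508))
 (.leaf (.tree 0 0 0 1)))
 (.node (.leaf (.mul 5 710 227 1491))
 (.leaf (.tree 0 0 0 1)))))))
 (.node (.node (.node (.node (.node (.leaf (.mul 2 48 44 1959))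
 (.leaf (.chain 22 [⟨927, 669, 2153, 924⟩, ⟨600, 3313, 1913, 697⟩, ⟨998, 866, 1581, 603⟩, ⟨1072, 2737, 1881, 605⟩] 22 0 2 32 2076)))
 (.node (.leaf (.mul 3 82 94 206))
 (.leaf (.tree 0 0 0 1))))
 (.node (.node (.leaf (.transfer 6 ⟨59, 412, 336, 304⟩ 336))
 (.leaf (.tree 0 0 0 1)))
 (.node (.leaf (.mul 4 816 162 153))
 (.leaf (.tree 0 0 0 1)))))
 (.node (.node (.node (.leaf (.mul 4 176 155 425))
 (.leaf (.mul 15 854 830 1316)))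
 (.node (.leaf (.flip ⟨664, 2724, 1603, 665⟩ 28 0 17 20 1424))
 (.leaf (.tree 0 0 0 1))))
 (.node (.node (.leaf (.transfer 11 ⟨194, 420, 192, 432⟩ 192))
 (.leaf (.tree 0 0 0 1)))
 (.node (.leaf (.chain 0 [⟨470, 1169, 135, 471⟩, ⟨488, 1065, 1870, 905⟩] 25 0 1 25 100))
 (.leaf (.tree 0 0 0 1))))))
 (.node (.node (.node (.node (.leaf (.tree 3 0 3 8))
 (.leaf (.chain 6 [⟨950, 104, 67, 649⟩, ⟨1133, 3349, 1649, 665⟩, ⟨1136, 1272, 434, 446⟩] 30 1 30 27 342)))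
 (.node (.leaf (.mul 4 624 162 2105))
 (.leaf (.tree 0 0 0 1))))
 (.node (.node (.leaf (.mul 2 368 65 2102))
 (.leaf (.tree 0 0 0 1)))
 (.node (.leaf (.mul 16 477 481 307))
 (.leaf (.tree 0 0 0 1)))))
 (.node (.node (.node (.leaf (.mul 5 224 223 2057))
 (.leaf (.chain 3 [⟨1220, 801, 1604, 1118⟩, ⟨1096, 3515, 1381, 1264⟩, ⟨1232, 2059, 1381, 863⟩] 31 1 2079 32 1756)))
 (.node (.leaf (.mul 5 752 227 1605))
 (.leaf (.tree 0 0 0 1))))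
 (.node (.node (.leaf (.mul 12 496 443 687))
 (.leaf (.tree 0 0 0 1)))
 (.node (.leaf (.mul 6 1008 305 1621))
 (.leaf (.tree 0 0 0 1))))))))

/-- Part 18 of `facts`. -/
def facts18 : FTbl :=
 (.node (.node (.node (.node (.node (.node (.leaf (.transfer 1 ⟨0, 234, 343, 17⟩ 343))
 (.leaf (.mul 15 895 837 640)))
 (.node (.leaf (.transfer 9 ⟨182, 2937, 187, 529⟩ 187))
 (.leaf (.tree 0 0 0 1))))
 (.node (.node (.leaf (.mul 2 273 41 1983))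
 (.leaf (.tree 0 0 0 1)))
 (.node (.leaf (.mul 2 292 51 182))
 (.leaf (.tree 0 0 0 1)))))
 (.node (.node (.node (.leaf (.mul 4 145 144 874))
 (.leaf (.mul 13 1169 714 1865)))
 (.node (.leaf (.chain 0 [⟨655, 1559, 563, 654⟩, ⟨651, 2693, 1657, 657⟩] 20 0 0 20 1239))
 (.leaf (.tree 0 0 0 1))))
 (.node (.node (.leaf (.mul 7 372 348 228))
 (.leaf (.tree 0 0 0 1)))
 (.node (.leaf (.mul 14 337 331 1958))
 (.leaf (.tree 0 0 0 1))))))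
 (.node (.node (.node (.node (.leaf (.mul 3 68 81 870))
 (.leaf (.chain 60 [⟨993, 2988, 2180, 937⟩, ⟨606, 2768, 1283, 605⟩, ⟨598, 3098, 125, 682⟩, ⟨1071, 3499, 2141, 603⟩] 22 1 43 22 1762)))
 (.node (.leaf (.mul 8 593 580 950))
 (.leaf (.tree 0 0 0 1))))
 (.node (.node (.leaf (.flip ⟨318, 595, 179, 337⟩ 14 0 1 6 1635))
 (.leaf (.tree 0 0 0 1)))
 (.node (.leaf (.transfer 15 ⟨319, 2875, 1911, 335⟩ 1911))
 (.leaf (.tree 0 0 0 1)))))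
 (.node (.node (.node (.leaf (.chain 71 [⟨147, 2752, 186, 196⟩, ⟨37, 2752, 186, 201⟩, ⟨189, 1096, 490, 202⟩, ⟨60, 2826, 147, 209⟩] 4 1 1 7 1118))
 (.leaf (.chain 7 [⟨871, 1540, 706, 863⟩, ⟨1213, 2871, 1709, 665⟩, ⟨908, 2134, 992, 665⟩] 29 1 2 26 1760)))
 (.node (.leaf (.mul 3 721 124 1213))
 (.leaf (.tree 0 0 0 1))))
 (.node (.node (.leaf (.tree 7 1 3 16))
 (.leaf (.tree 0 0 0 1)))
 (.node (.leaf (.mul 5 977 227 1148))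
 (.leaf (.tree 0 0 0 1)))))))
 (.node (.node (.node (.node (.node (.leaf (.zero 114))
 (.leaf (.chain 2 [⟨957, 946, 862, 863⟩, ⟨1071, 3315, 1178, 605⟩, ⟨1073, 874, 2059, 937⟩] 29 1 41 32 1387)))
 (.node (.leaf (.mul 3 561 124 701))
 (.leaf (.tree 0 0 0 1))))
 (.node (.node (.leaf (.mul 6 298 305 1047))
 (.leaf (.tree 0 0 0 1)))
 (.node (.leaf (.chain 0 [⟨428, 1344, 1759, 429⟩, ⟨194, 2693, 1657, 817⟩] 11 0 0 11 1239))
 (.leaf (.tree 0 0 0 1)))))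
 (.node (.node (.node (.leaf (.mul 4 177 144 821))
 (.leaf (.chain 0 [⟨1037, 1300, 772, 1036⟩, ⟨1028, 531, 669, 1201⟩] 27 0 0 27 452)))
 (.node (.leaf (.mul 9 556 520 1415))
 (.leaf (.tree 0 0 0 1))))
 (.node (.node (.leaf (.mul 11 429 433 1825))
 (.leaf (.tree 0 0 0 1)))
 (.node (.leaf (.chain 39 [⟨666, 789, 420, 665⟩, ⟨944, 2859, 649, 867⟩, ⟨945, 847, 1266, 471⟩, ⟨648, 325, 1116, 459⟩] 28 0 41 30 1515))
 (.leaf (.tree 0 0 0 1))))))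
 (.node (.node (.node (.node (.leaf (.mul 1 77 10 402))
 (.leaf (.chain 46 [⟨1128, 523, 633, 1075⟩, ⟨960, 1104, 2114, 863⟩, ⟨1137, 3547, 1777, 649⟩, ⟨1039, 1191, 1498, 1038⟩] 32 0 43 30 1494)))
 (.node (.leaf (.chain 9 [⟨570, 2831, 269, 602⟩, ⟨112, 196, 751, 623⟩, ⟨218, 2814, 1963, 625⟩] 10 0 2 12 1567))
 (.leaf (.tree 0 0 0 1))))
 (.node (.node (.leaf (.mul 2 369 41 1767))
 (.leaf (.tree 0 0 0 1)))
 (.node (.leaf (.mul 15 828 853 1869))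
 (.leaf (.tree 0 0 0 1)))))
 (.node (.node (.node (.leaf (.mul 5 241 227 419))
 (.leaf (.chain 2 [⟨1253, 190, 546, 1118⟩, ⟨1242, 3302, 640, 649⟩, ⟨908, 201, 1150, 665⟩] 31 1 1076 26 1042)))
 (.node (.leaf (.chain 39 [⟨706, 2685, 402, 750⟩, ⟨264, 2910, 242, 753⟩, ⟨626, 455, 119, 730⟩, ⟨492, 686, 860, 444⟩] 13 0 41 24 788))
 (.leaf (.tree 0 0 0 1))))
 (.node (.node (.leaf (.transfer 24 ⟨492, 933, 1279, 497⟩ 1279))
 (.leaf (.tree 0 0 0 1)))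
 (.node (.leaf (.mul 6 1009 297 2216))
 (.leaf (.tree 0 0 0 1))))))))

/-- Part 19 of `facts`. -/
def facts19 : FTbl :=
 (.node (.node (.node (.node (.node (.node (.leaf (.mul 1 16 18 641))
 (.leaf (.chain 43 [⟨334, 206, 172, 910⟩, ⟨396, 737, 651, 822⟩, ⟨770, 276, 2159, 902⟩, ⟨1028, 562, 876, 1042⟩] 26 1 41 27 1275)))
 (.node (.leaf (.mul 9 517 530 187))
 (.leaf (.tree 0 0 0 1))))
 (.node (.node (.leaf (.mul 2 274 51 241))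
 (.leaf (.tree 0 0 0 1)))
 (.node (.leaf (.mul 2 786 41 166))
 (.leaf (.tree 0 0 0 1)))))
 (.node (.node (.node (.leaf (.flip ⟨37, 0, 0, 146⟩ 4 1 0 1 0))
 (.leaf (.chain 0 [⟨733, 371, 1501, 736⟩, ⟨725, 568, 884, 1170⟩] 23 0 1237 23 2126)))
 (.node (.leaf (.mul 9 656 543 1135))
 (.leaf (.tree 0 0 0 1))))
 (.node (.node (.leaf (.mul 7 402 376 151))
 (.leaf (.tree 0 0 0 1)))
 (.node (.leaf (.mul 15 855 830 1511))
 (.leaf (.tree 0 0 0 1))))))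
 (.node (.node (.node (.node (.leaf (.mul 3 82 74 838))
 (.leaf (.chain 53 [⟨1106, 2884, 1122, 930⟩, ⟨1000, 3128, 937, 930⟩, ⟨755, 3044, 1453, 746⟩, ⟨983, 611, 1935, 495⟩] 22 1 1076 24 1110)))
 (.node (.leaf (.mul 8 594 577 1731))
 (.leaf (.tree 0 0 0 1))))
 (.node (.node (.leaf (.transfer 14 ⟨318, 155, 1136, 327⟩ 1136))
 (.leaf (.tree 0 0 0 1)))
 (.node (.leaf (.mul 15 828 850 1911))
 (.leaf (.tree 0 0 0 1)))))
 (.node (.node (.node (.leaf (.mul 4 126 136 544))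
 (.leaf (.chain 71 [⟨971, 3418, 2012, 863⟩, ⟨1164, 2904, 1028, 937⟩, ⟨1166, 649, 661, 926⟩, ⟨1111, 3225, 1792, 654⟩] 29 1 40 31 1092)))
 (.node (.leaf (.mul 9 531 525 1749))
 (.leaf (.tree 0 0 0 1))))
 (.node (.node (.leaf (.mul 7 372 352 340))
 (.leaf (.tree 0 0 0 1)))
 (.node (.leaf (.mul 5 978 223 1524))
 (.leaf (.tree 0 0 0 1)))))))
 (.node (.node (.node (.node (.node (.leaf (.transfer 2 ⟨1, 2801, 550, 50⟩ 550))
 (.leaf (.unit 32)))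
 (.node (.leaf (.transfer 10 ⟨183, 3097, 1233, 562⟩ 1233))
 (.leaf (.tree 0 0 0 1))))
 (.node (.node (.leaf (.flip ⟨59, 125, 1199, 306⟩ 6 0 1 2 1430))
 (.leaf (.tree 0 0 0 1)))
 (.node (.leaf (.mul 6 308 290 950))
 (.leaf (.tree 0 0 0 1)))))
 (.node (.node (.node (.leaf (.mul 4 178 144 1919))
 (.leaf (.chain 0 [⟨1039, 1881, 1114, 1038⟩, ⟨1091, 596, 1119, 649⟩] 27 0 3 29 1860)))
 (.node (.leaf (.mul 9 690 543 2204))
 (.leaf (.tree 0 0 0 1))))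
 (.node (.node (.leaf (.tree 12 1 1 25))
 (.leaf (.tree 0 0 0 1)))
 (.node (.leaf (.flip ⟨644, 3404, 874, 649⟩ 30 1 0 18 875))
 (.leaf (.tree 0 0 0 1))))))
 (.node (.node (.node (.node (.leaf (.mul 1 114 23 1116))
 (.leaf (.chain 47 [⟨648, 2726, 1872, 450⟩, ⟨948, 294, 2068, 649⟩, ⟨859, 2899, 468, 649⟩, ⟨1081, 413, 1230, 603⟩] 25 0 3 31 1446)))
 (.node (.leaf (.chain 37 [⟨619, 1077, 1691, 618⟩, ⟨579, 234, 343, 599⟩, ⟨183, 2931, 1543, 622⟩, ⟨626, 609, 1526, 560⟩] 17 0 2 12 2065))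
 (.leaf (.tree 0 0 0 1))))
 (.node (.node (.leaf (.transfer 7 ⟨60, 2775, 774, 370⟩ 774))
 (.leaf (.tree 0 0 0 1)))
 (.node (.leaf (.mul 15 882 837 1357))
 (.leaf (.tree 0 0 0 1)))))
 (.node (.node (.node (.leaf (.mul 5 242 227 1914))
 (.leaf (.chain 22 [⟨1076, 669, 2153, 1075⟩, ⟨1082, 3071, 2048, 603⟩, ⟨1129, 195, 1944, 665⟩, ⟨1115, 1832, 833, 665⟩] 32 0 2 31 1876)))
 (.node (.leaf (.chain 15 [⟨655, 925, 352, 746⟩, ⟨554, 234, 343, 558⟩, ⟨240, 305, 557, 749⟩, ⟨754, 378, 1388, 734⟩] 20 1 30 24 162))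
 (.leaf (.tree 0 0 0 1))))
 (.node (.node (.leaf (.mul 24 495 498 1279))
 (.leaf (.tree 0 0 0 1)))
 (.node (.leaf (.chain 0 [⟨338, 2686, 1274, 914⟩, ⟨318, 2681, 853, 1010⟩] 14 0 0 14 2203))
 (.leaf (.tree 0 0 0 1))))))))

/-- Part 20 of `facts`. -/
def facts20 : FTbl :=
 (.node (.node (.node (.node (.node (.node (.leaf (.mul 1 19 13 308))
 (.leaf (.chain 10 [⟨1043, 3343, 1851, 333⟩, ⟨1037, 2051, 1168, 1036⟩, ⟨897, 2791, 1378, 856⟩] 26 0 40 16 2085)))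
 (.node (.leaf (.transfer 21 ⟨516, 3199, 2222, 531⟩ 2222))
 (.leaf (.tree 0 0 0 1))))
 (.node (.node (.leaf (.mul 2 275 65 1670))
 (.leaf (.tree 0 0 0 1)))
 (.node (.leaf (.mul 2 787 41 2228))
 (.leaf (.tree 0 0 0 1)))))
 (.node (.node (.node (.leaf (.mul 4 126 140 762))
 (.leaf (.chain 5 [⟨936, 930, 869, 732⟩, ⟨1106, 3295, 2157, 930⟩, ⟨928, 901, 1359, 937⟩] 23 1 3 23 1321)))
 (.node (.leaf (.mul 9 659 525 2033))
 (.leaf (.tree 0 0 0 1))))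
 (.node (.node (.leaf (.mul 7 403 362 1116))
 (.leaf (.tree 0 0 0 1)))
 (.node (.leaf (.mul 6 328 290 311))
 (.leaf (.tree 0 0 0 1))))))
 (.node (.node (.node (.node (.leaf (.mul 3 83 81 2025))
 (.leaf (.chain 5 [⟨923, 930, 869, 907⟩, ⟨1107, 3077, 1842, 924⟩, ⟨983, 1132, 379, 986⟩] 20 1 3 24 1878)))
 (.node (.leaf (.chain 9 [⟨538, 2820, 481, 531⟩, ⟨113, 826, 126, 574⟩, ⟨587, 2918, 375, 595⟩] 9 0 2 8 273))
 (.leaf (.tree 0 0 0 1))))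
 (.node (.node (.leaf (.mul 14 323 339 1136))
 (.leaf (.tree 0 0 0 1)))
 (.node (.leaf (.mul 6 327 290 206))
 (.leaf (.tree 0 0 0 1)))))
 (.node (.node (.node (.leaf (.mul 4 211 140 649))
 (.leaf (.chain 4 [⟨1125, 2699, 2035, 863⟩, ⟨1082, 3105, 1640, 605⟩, ⟨1209, 219, 697, 665⟩] 29 1 17 29 1442)))
 (.node (.leaf (.chain 56 [⟨570, 3078, 2228, 720⟩, ⟨171, 2782, 1979, 263⟩, ⟨182, 2812, 762, 722⟩, ⟨555, 2775, 774, 723⟩] 10 0 29 10 1354))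
 (.leaf (.tree 0 0 0 1))))
 (.node (.node (.leaf (.mul 7 467 362 1408))
 (.leaf (.tree 0 0 0 1)))
 (.node (.leaf (.chain 0 [⟨706, 573, 522, 705⟩, ⟨240, 309, 223, 979⟩] 13 0 0 13 1385))
 (.leaf (.tree 0 0 0 1)))))))
 (.node (.node (.node (.node (.node (.leaf (.mul 2 49 51 1229))
 (.leaf (.flip ⟨1072, 1203, 1693, 1075⟩ 32 0 1 19 34)))
 (.node (.leaf (.mul 10 560 563 1233))
 (.leaf (.tree 0 0 0 1))))
 (.node (.node (.leaf (.mul 6 284 279 2025))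
 (.leaf (.tree 0 0 0 1)))
 (.node (.leaf (.transfer 14 ⟨318, 664, 425, 819⟩ 425))
 (.leaf (.tree 0 0 0 1)))))
 (.node (.node (.node (.leaf (.mul 4 179 144 2023))
 (.leaf (.flip ⟨1043, 3237, 2075, 1036⟩ 27 1 30 26 709)))
 (.node (.leaf (.mul 9 691 525 1688))
 (.leaf (.tree 0 0 0 1))))
 (.node (.node (.leaf (.unit 12))
 (.leaf (.tree 0 0 0 1)))
 (.node (.leaf (.chain 11 [⟨947, 3371, 1580, 649⟩, ⟨942, 520, 1086, 610⟩, ⟨644, 3487, 1732, 870⟩] 30 0 42 30 1735))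
 (.leaf (.tree 0 0 0 1))))))
 (.node (.node (.node (.node (.leaf (.mul 1 115 13 1570))
 (.leaf (.flip ⟨491, 96, 754, 450⟩ 25 0 17 26 1747)))
 (.node (.leaf (.mul 12 436 440 1550))
 (.leaf (.tree 0 0 0 1))))
 (.node (.node (.leaf (.mul 7 347 371 774))
 (.leaf (.tree 0 0 0 1)))
 (.node (.leaf (.mul 15 883 837 1919))
 (.leaf (.tree 0 0 0 1)))))
 (.node (.node (.node (.leaf (.mul 1 197 23 906))
 (.leaf (.flip ⟨1142, 117, 1007, 1075⟩ 32 0 42 31 364)))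
 (.node (.leaf (.chain 1 [⟨743, 3128, 937, 726⟩, ⟨755, 3242, 742, 746⟩] 23 1 46 24 1033))
 (.leaf (.tree 0 0 0 1))))
 (.node (.node (.leaf (.flip ⟨492, 1004, 479, 499⟩ 24 0 1 12 1877))
 (.leaf (.tree 0 0 0 1)))
 (.node (.leaf (.mul 7 479 362 1868))
 (.leaf (.tree 0 0 0 1))))))))

/-- Part 21 of `facts`. -/
def facts21 : FTbl :=
 (.node (.node (.node (.node (.node (.node (.leaf (.flip ⟨0, 0, 0, 20⟩ 1 0 1 0 64))
 (.leaf (.chain 2 [⟨1044, 946, 862, 333⟩, ⟨878, 2816, 764, 490⟩, ⟨661, 1411, 905, 616⟩] 26 1 40 28 905)))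
 (.node (.leaf (.mul 21 527 532 2222))
 (.leaf (.tree 0 0 0 1))))
 (.node (.node (.leaf (.mul 2 276 41 1946))
 (.leaf (.tree 0 0 0 1)))
 (.node (.leaf (.mul 2 788 51 1175))
 (.leaf (.tree 0 0 0 1)))))
 (.node (.node (.node (.leaf (.mul 4 148 136 1415))
 (.leaf (.chain 23 [⟨871, 2708, 769, 863⟩, ⟨689, 2741, 513, 665⟩, ⟨664, 2705, 800, 746⟩, ⟨1103, 2709, 485, 665⟩] 29 0 2 29 1704)))
 (.node (.leaf (.tree 17 0 3 28))
 (.leaf (.tree 0 0 0 1))))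
 (.node (.node (.leaf (.mul 7 404 352 1766))
 (.leaf (.tree 0 0 0 1)))
 (.node (.leaf (.mul 6 916 305 710))
 (.leaf (.tree 0 0 0 1))))))
 (.node (.node (.node (.node (.leaf (.mul 3 84 74 752))
 (.leaf (.mul 12 460 443 1396)))
 (.node (.leaf (.mul 9 531 543 819))
 (.leaf (.tree 0 0 0 1))))
 (.node (.node (.leaf (.mul 14 340 336 206))
 (.leaf (.tree 0 0 0 1)))
 (.node (.leaf (.transfer 15 ⟨319, 2885, 1869, 852⟩ 1869))
 (.leaf (.tree 0 0 0 1)))))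
 (.node (.node (.node (.leaf (.mul 4 212 144 554))
 (.leaf (.chain 2 [⟨1125, 946, 862, 863⟩, ⟨606, 2923, 1456, 603⟩, ⟨607, 466, 1312, 575⟩] 29 1 30 18 1312)))
 (.node (.leaf (.chain 22 [⟨706, 407, 1089, 715⟩, ⟨264, 2969, 471, 718⟩, ⟨724, 350, 1470, 699⟩, ⟨693, 196, 751, 698⟩] 13 0 2 23 110))
 (.leaf (.tree 0 0 0 1))))
 (.node (.node (.leaf (.mul 7 468 352 2158))
 (.leaf (.tree 0 0 0 1)))
 (.node (.leaf (.mul 13 709 704 1789))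
 (.leaf (.tree 0 0 0 1)))))))
 (.node (.node (.node (.node (.node (.leaf (.mul 2 52 41 1235))
 (.leaf (.chain 2 [⟨860, 1004, 479, 870⟩, ⟨1074, 3011, 1509, 863⟩, ⟨1076, 100, 325, 1075⟩] 18 1 29 19 44)))
 (.node (.leaf (.mul 3 68 89 315))
 (.leaf (.tree 0 0 0 1))))
 (.node (.node (.leaf (.mul 6 308 297 1284))
 (.leaf (.tree 0 0 0 1)))
 (.node (.leaf (.mul 14 341 820 2161))
 (.leaf (.tree 0 0 0 1)))))
 (.node (.node (.node (.leaf (.chain 0 [⟨112, 247, 958, 125⟩, ⟨172, 1647, 1414, 180⟩] 3 0 29 3 608))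
 (.leaf (.chain 12 [⟨1204, 1476, 1368, 1038⟩, ⟨334, 482, 101, 910⟩, ⟨445, 3136, 2107, 1135⟩] 27 0 17 25 2113)))
 (.node (.leaf (.tree 10 0 41 23))
 (.leaf (.tree 0 0 0 1))))
 (.node (.node (.leaf (.transfer 12 ⟨218, 2961, 1503, 211⟩ 1503))
 (.leaf (.tree 0 0 0 1)))
 (.node (.leaf (.chain 26 [⟨943, 236, 1926, 665⟩, ⟨869, 1638, 1587, 610⟩, ⟨946, 405, 904, 665⟩, ⟨948, 227, 540, 649⟩] 28 1 43 30 2130))
 (.leaf (.tree 0 0 0 1))))))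
 (.node (.node (.node (.node (.leaf (.mul 1 116 13 1904))
 (.leaf (.chain 17 [⟨491, 423, 262, 333⟩, ⟨1139, 1571, 1426, 450⟩, ⟨1121, 1284, 856, 1118⟩, ⟨1072, 1718, 1723, 603⟩] 26 1 44 32 2137)))
 (.node (.leaf (.chain 7 [⟨627, 390, 635, 618⟩, ⟨461, 2904, 1028, 628⟩, ⟨194, 479, 581, 504⟩] 17 1 0 11 1778))
 (.leaf (.tree 0 0 0 1))))
 (.node (.node (.leaf (.mul 2 272 65 1933))
 (.leaf (.tree 0 0 0 1)))
 (.node (.leaf (.mul 15 884 837 1804))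
 (.leaf (.tree 0 0 0 1)))))
 (.node (.node (.node (.leaf (.mul 1 244 13 1086))
 (.leaf (.chain 0 [⟨1267, 1201, 56, 1075⟩, ⟨1142, 719, 271, 1118⟩] 32 0 29 32 1927)))
 (.node (.leaf (.chain 72 [⟨700, 3044, 1453, 652⟩, ⟨733, 494, 1077, 726⟩, ⟨725, 706, 334, 735⟩, ⟨756, 2776, 397, 726⟩] 20 0 1237 24 816))
 (.leaf (.tree 0 0 0 1))))
 (.node (.node (.leaf (.transfer 24 ⟨492, 2702, 1192, 486⟩ 1192))
 (.leaf (.tree 0 0 0 1)))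
 (.node (.leaf (.mul 7 1012 352 1799))
 (.leaf (.tree 0 0 0 1))))))))

/-- Part 22 of `facts`. -/
def facts22 : FTbl :=
 (.node (.node (.node (.node (.node (.node (.leaf (.zero 58))
 (.leaf (.chain 3 [⟨908, 1074, 253, 665⟩, ⟨1045, 3481, 435, 333⟩, ⟨908, 548, 817, 665⟩] 28 1 1 26 1906)))
 (.node (.leaf (.mul 21 533 532 1182))
 (.leaf (.tree 0 0 0 1))))
 (.node (.node (.leaf (.mul 2 277 51 155))
 (.leaf (.tree 0 0 0 1)))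
 (.node (.leaf (.mul 2 789 65 206))
 (.leaf (.tree 0 0 0 1)))))
 (.node (.node (.node (.leaf (.mul 4 149 140 647))
 (.leaf (.chain 34 [⟨1173, 1560, 484, 863⟩, ⟨1124, 215, 302, 863⟩, ⟨923, 913, 759, 654⟩, ⟨1073, 382, 984, 937⟩] 29 1 29 32 1623)))
 (.node (.leaf (.transfer 17 ⟨612, 664, 425, 594⟩ 425))
 (.leaf (.tree 0 0 0 1))))
 (.node (.node (.leaf (.mul 2 344 51 1837))
 (.leaf (.tree 0 0 0 1)))
 (.node (.leaf (.mul 6 917 297 1681))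
 (.leaf (.tree 0 0 0 1))))))
 (.node (.node (.node (.node (.leaf (.mul 1 24 13 733))
 (.leaf (.chain 54 [⟨451, 3288, 530, 471⟩, ⟨976, 2887, 1617, 1109⟩, ⟨600, 3480, 2148, 741⟩, ⟨1081, 2690, 976, 605⟩] 25 1 29 31 585)))
 (.node (.leaf (.tree 8 1 3 19))
 (.leaf (.tree 0 0 0 1))))
 (.node (.node (.leaf (.mul 6 309 290 332))
 (.leaf (.tree 0 0 0 1)))
 (.node (.leaf (.mul 15 851 853 228))
 (.leaf (.tree 0 0 0 1)))))
 (.node (.node (.node (.leaf (.mul 4 213 144 2205))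
 (.leaf (.chain 29 [⟨650, 2853, 1382, 649⟩, ⟨687, 1163, 736, 527⟩, ⟨1210, 264, 316, 665⟩, ⟨959, 497, 371, 665⟩] 30 0 41 21 917)))
 (.node (.leaf (.unit 23))
 (.leaf (.tree 0 0 0 1))))
 (.node (.node (.leaf (.chain 59 [⟨451, 2752, 186, 459⟩, ⟨461, 2837, 166, 454⟩, ⟨210, 2764, 2191, 465⟩, ⟨466, 3049, 2221, 469⟩] 25 0 0 16 1001))
 (.leaf (.tree 0 0 0 1)))
 (.node (.leaf (.mul 13 981 714 1916))
 (.leaf (.tree 0 0 0 1)))))))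
 (.node (.node (.node (.node (.node (.leaf (.mul 2 53 51 874))
 (.leaf (.chain 1 [⟨954, 3252, 312, 605⟩, ⟨600, 3024, 1219, 730⟩] 19 1 17 19 1765)))
 (.node (.leaf (.mul 3 565 94 1632))
 (.leaf (.tree 0 0 0 1))))
 (.node (.node (.leaf (.mul 6 309 305 1618))
 (.leaf (.tree 0 0 0 1)))
 (.node (.leaf (.mul 14 821 331 1743))
 (.leaf (.tree 0 0 0 1)))))
 (.node (.node (.node (.leaf (.tree 3 1 1 9))
 (.leaf (.chain 0 [⟨1205, 1217, 224, 1036⟩, ⟨1140, 1304, 1065, 446⟩] 27 0 43 26 1596)))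
 (.node (.leaf (.mul 3 567 124 544))
 (.leaf (.tree 0 0 0 1))))
 (.node (.node (.leaf (.mul 12 436 437 1503))
 (.leaf (.tree 0 0 0 1)))
 (.node (.leaf (.flip ⟨946, 1243, 58, 649⟩ 30 0 1237 28 2001))
 (.leaf (.tree 0 0 0 1))))))
 (.node (.node (.node (.node (.leaf (.transfer 3 ⟨36, 425, 700, 117⟩ 700))
 (.leaf (.chain 12 [⟨1132, 3118, 226, 1118⟩, ⟨1140, 793, 774, 450⟩, ⟨1141, 2780, 1312, 333⟩] 31 0 17 32 1826)))
 (.node (.leaf (.mul 4 418 162 1508))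
 (.leaf (.tree 0 0 0 1))))
 (.node (.node (.leaf (.mul 2 373 51 1544))
 (.leaf (.tree 0 0 0 1)))
 (.node (.leaf (.mul 15 839 837 741))
 (.leaf (.tree 0 0 0 1)))))
 (.node (.node (.node (.leaf (.mul 1 245 4 1575))
 (.leaf (.chain 23 [⟨1267, 2726, 1872, 1075⟩, ⟨1227, 1328, 1690, 1118⟩, ⟨1253, 609, 1526, 1118⟩, ⟨1123, 1335, 1481, 649⟩] 32 0 40 32 2115)))
 (.node (.leaf (.chain 39 [⟨491, 852, 1167, 333⟩, ⟨688, 3205, 1053, 450⟩, ⟨689, 2715, 1401, 665⟩, ⟨757, 559, 703, 746⟩] 26 0 43 24 1886))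
 (.leaf (.tree 0 0 0 1))))
 (.node (.node (.leaf (.mul 24 499 501 1789))
 (.leaf (.tree 0 0 0 1)))
 (.node (.leaf (.mul 7 1013 362 1460))
 (.leaf (.tree 0 0 0 1))))))))

/-- Part 23 of `facts`. -/
def facts23 : FTbl :=
 (.node (.node (.node (.node (.node (.node (.leaf (.transfer 1 ⟨0, 58, 870, 22⟩ 870))
 (.leaf (.chain 8 [⟨878, 2879, 231, 472⟩, ⟨661, 1410, 616, 616⟩, ⟨1046, 3505, 172, 665⟩] 16 0 3 26 2032)))
 (.node (.leaf (.flip ⟨516, 3255, 1828, 534⟩ 21 1 0 9 1421))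
 (.leaf (.tree 0 0 0 1))))
 (.node (.node (.leaf (.transfer 6 ⟨59, 98, 315, 278⟩ 315))
 (.leaf (.tree 0 0 0 1)))
 (.node (.leaf (.chain 1 [⟨366, 2758, 1522, 785⟩, ⟨60, 2814, 1963, 790⟩] 7 1 2 7 1567))
 (.leaf (.tree 0 0 0 1)))))
 (.node (.node (.node (.leaf (.mul 4 150 144 1578))
 (.leaf (.chain 3 [⟨940, 2144, 813, 726⟩, ⟨1174, 3562, 1058, 863⟩, ⟨1143, 1477, 412, 1075⟩] 23 1 29 32 1967)))
 (.node (.leaf (.mul 17 618 662 2036))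
 (.leaf (.tree 0 0 0 1))))
 (.node (.node (.leaf (.chain 2 [⟨388, 799, 447, 401⟩, ⟨366, 0, 0, 405⟩, ⟨58, 799, 447, 406⟩] 7 1 1 4 1573))
 (.leaf (.tree 0 0 0 1)))
 (.node (.leaf (.chain 9 [⟨832, 2793, 2118, 915⟩, ⟨318, 206, 172, 918⟩, ⟨416, 2807, 136, 332⟩] 15 0 2 11 1087))
 (.leaf (.tree 0 0 0 1))))))
 (.node (.node (.node (.node (.leaf (.mul 1 86 10 511))
 (.leaf (.chain 73 [⟨686, 3359, 1939, 654⟩, ⟨666, 28, 387, 665⟩, ⟨944, 3125, 1613, 616⟩, ⟨1110, 3336, 1419, 459⟩] 20 1 29 31 2106)))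
 (.node (.leaf (.mul 8 593 577 811))
 (.leaf (.tree 0 0 0 1))))
 (.node (.node (.leaf (.mul 6 342 305 1138))
 (.leaf (.tree 0 0 0 1)))
 (.node (.leaf (.mul 15 854 837 1026))
 (.leaf (.tree 0 0 0 1)))))
 (.node (.node (.node (.leaf (.mul 4 214 144 506))
 (.leaf (.chain 28 [⟨950, 1231, 1231, 649⟩, ⟨1129, 1414, 547, 665⟩, ⟨956, 720, 1901, 665⟩, ⟨1081, 901, 1359, 603⟩] 30 0 30 31 1583)))
 (.node (.leaf (.mul 10 602 568 1811))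
 (.leaf (.tree 0 0 0 1))))
 (.node (.node (.leaf (.mul 25 446 458 325))
 (.leaf (.tree 0 0 0 1)))
 (.node (.leaf (.chain 0 [⟨761, 455, 119, 499⟩, ⟨754, 1191, 1498, 982⟩] 24 0 44 24 1597))
 (.leaf (.tree 0 0 0 1)))))))
 (.node (.node (.node (.node (.node (.leaf (.flip ⟨1, 0, 0, 54⟩ 2 1 0 0 0))
 (.leaf (.chain 6 [⟨998, 1893, 503, 605⟩, ⟨1078, 3395, 1991, 603⟩, ⟨994, 1517, 775, 605⟩] 19 1 43 21 1686)))
 (.node (.leaf (.mul 3 566 118 647))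
 (.leaf (.tree 0 0 0 1))))
 (.node (.node (.leaf (.mul 2 45 51 353))
 (.leaf (.tree 0 0 0 1)))
 (.node (.leaf (.mul 6 271 297 196))
 (.leaf (.tree 0 0 0 1)))))
 (.node (.node (.node (.leaf (.tree 3 1 3 10))
 (.leaf (.chain 42 [⟨1206, 1226, 566, 1036⟩, ⟨758, 144, 746, 910⟩, ⟨1187, 743, 590, 495⟩, ⟨1073, 1150, 1485, 924⟩] 27 1 3 32 1461)))
 (.node (.leaf (.transfer 10 ⟨183, 2961, 1503, 694⟩ 1503))
 (.leaf (.tree 0 0 0 1))))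
 (.node (.node (.leaf (.mul 4 385 162 274))
 (.leaf (.tree 0 0 0 1)))
 (.node (.leaf (.chain 1 [⟨629, 2781, 2147, 618⟩, ⟨673, 2759, 2021, 667⟩] 17 1 2 17 575))
 (.leaf (.tree 0 0 0 1))))))
 (.node (.node (.node (.node (.leaf (.mul 3 95 118 1919))
 (.leaf (.chain 18 [⟨1138, 1441, 1637, 1075⟩, ⟨1088, 111, 1118, 649⟩, ⟨1139, 2721, 1629, 459⟩, ⟨1142, 2144, 813, 1118⟩] 32 0 45 32 2010)))
 (.node (.leaf (.mul 3 82 124 329))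
 (.leaf (.tree 0 0 0 1))))
 (.node (.node (.leaf (.mul 2 374 41 617))
 (.leaf (.tree 0 0 0 1)))
 (.node (.leaf (.mul 6 852 297 1084))
 (.leaf (.tree 0 0 0 1)))))
 (.node (.node (.node (.leaf (.mul 1 246 10 704))
 (.leaf (.flip ⟨1122, 961, 1376, 1075⟩ 32 0 17 23 682)))
 (.node (.leaf (.mul 5 751 223 228))
 (.leaf (.tree 0 0 0 1))))
 (.node (.node (.leaf (.mul 4 142 155 187))
 (.leaf (.tree 0 0 0 1)))
 (.node (.leaf (.mul 4 173 162 1441))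
 (.leaf (.tree 0 0 0 1))))))))

/-- Part 24 of `facts`. -/
def facts24 : FTbl :=
 (.node (.node (.node (.node (.node (.node (.leaf (.mul 1 2 23 870))
 (.leaf (.mul 16 490 481 1252)))
 (.node (.leaf (.mul 9 531 520 228))
 (.leaf (.tree 0 0 0 1))))
 (.node (.node (.leaf (.mul 6 271 279 315))
 (.leaf (.tree 0 0 0 1)))
 (.node (.leaf (.mul 7 377 362 2071))
 (.leaf (.tree 0 0 0 1)))))
 (.node (.node (.node (.leaf (.mul 4 151 144 664))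
 (.leaf (.chain 5 [⟨936, 976, 1264, 732⟩, ⟨1107, 2859, 649, 924⟩, ⟨761, 1065, 1870, 502⟩] 23 1 1076 13 1661)))
 (.node (.leaf (.chain 44 [⟨655, 860, 858, 654⟩, ⟨596, 678, 1466, 660⟩, ⟨612, 2695, 1041, 613⟩, ⟨661, 959, 1915, 663⟩] 20 0 2 28 1928))
 (.leaf (.tree 0 0 0 1))))
 (.node (.node (.leaf (.mul 7 397 348 451))
 (.leaf (.tree 0 0 0 1)))
 (.node (.leaf (.chain 0 [⟨913, 209, 708, 914⟩, ⟨919, 540, 398, 886⟩] 14 0 45 11 2146))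
 (.leaf (.tree 0 0 0 1))))))
 (.node (.node (.node (.node (.leaf (.mul 1 87 13 445))
 (.leaf (.chain 1 [⟨1108, 3260, 886, 907⟩, ⟨987, 3074, 1330, 499⟩] 20 1 17 22 1757)))
 (.node (.leaf (.chain 57 [⟨570, 2897, 230, 564⟩, ⟨182, 2868, 1646, 572⟩, ⟨596, 237, 237, 597⟩, ⟨598, 2743, 1921, 599⟩] 10 1 1 19 951))
 (.leaf (.tree 0 0 0 1))))
 (.node (.node (.leaf (.mul 2 203 65 1543))
 (.leaf (.tree 0 0 0 1)))
 (.node (.leaf (.mul 15 855 837 793))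
 (.leaf (.tree 0 0 0 1)))))
 (.node (.node (.node (.leaf (.mul 4 215 162 1136))
 (.leaf (.flip ⟨647, 3076, 2047, 649⟩ 30 1 40 24 2207)))
 (.node (.leaf (.transfer 23 ⟨693, 1341, 1638, 727⟩ 1638))
 (.leaf (.tree 0 0 0 1))))
 (.node (.node (.leaf (.unit 16))
 (.leaf (.tree 0 0 0 1)))
 (.node (.leaf (.flip ⟨686, 3179, 1134, 665⟩ 28 1 0 20 1995))
 (.leaf (.tree 0 0 0 1)))))))
 (.node (.node (.node (.node (.node (.leaf (.mul 2 39 44 186))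
 (.leaf (.chain 1 [⟨1077, 3128, 937, 608⟩, ⟨1079, 3500, 969, 605⟩] 18 1 40 21 1957)))
 (.node (.leaf (.transfer 10 ⟨183, 3182, 712, 567⟩ 712))
 (.leaf (.tree 0 0 0 1))))
 (.node (.node (.leaf (.mul 2 311 65 1053))
 (.leaf (.tree 0 0 0 1)))
 (.node (.leaf (.mul 6 823 290 1779))
 (.leaf (.tree 0 0 0 1)))))
 (.node (.node (.node (.leaf (.mul 1 26 4 752))
 (.leaf (.chain 6 [⟨1205, 907, 672, 1038⟩, ⟨688, 3354, 2215, 459⟩, ⟨946, 1813, 577, 665⟩] 27 1 40 30 2154)))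
 (.node (.leaf (.mul 10 560 695 1503))
 (.leaf (.tree 0 0 0 1))))
 (.node (.node (.leaf (.transfer 12 ⟨218, 2975, 1550, 439⟩ 1550))
 (.leaf (.tree 0 0 0 1)))
 (.node (.leaf (.chain 3 [⟨615, 235, 1272, 610⟩, ⟨951, 2855, 1505, 865⟩, ⟨619, 567, 1611, 685⟩] 18 1 46 8 1739))
 (.leaf (.tree 0 0 0 1))))))
 (.node (.node (.node (.node (.leaf (.mul 1 97 13 60))
 (.leaf (.chain 7 [⟨957, 1611, 1658, 863⟩, ⟨1082, 3217, 427, 603⟩, ⟨1083, 1984, 144, 665⟩] 29 1 43 30 1652)))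
 (.node (.leaf (.chain 44 [⟨428, 206, 172, 427⟩, ⟨172, 737, 651, 630⟩, ⟨113, 407, 1089, 631⟩, ⟨607, 374, 524, 595⟩] 11 0 2 18 1232))
 (.leaf (.tree 0 0 0 1))))
 (.node (.node (.leaf (.transfer 7 ⟨60, 2897, 230, 375⟩ 230))
 (.leaf (.tree 0 0 0 1)))
 (.node (.leaf (.mul 6 887 297 1644))
 (.leaf (.tree 0 0 0 1)))))
 (.node (.node (.node (.leaf (.mul 1 247 18 233))
 (.leaf (.chain 0 [⟨1138, 308, 318, 1075⟩, ⟨1238, 1604, 521, 649⟩] 32 0 1237 21 1810)))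
 (.node (.leaf (.mul 5 759 227 1655))
 (.leaf (.tree 0 0 0 1))))
 (.node (.node (.leaf (.mul 4 503 144 1189))
 (.leaf (.tree 0 0 0 1)))
 (.node (.leaf (.chain 69 [⟨396, 879, 743, 914⟩, ⟨407, 2877, 949, 1014⟩, ⟨194, 196, 751, 1015⟩, ⟨780, 3051, 2218, 417⟩] 14 0 29 14 2014))
 (.leaf (.tree 0 0 0 1))))))))

/-- Part 25 of `facts`. -/
def facts25 : FTbl :=
 (.node (.node (.node (.node (.node (.node (.leaf (.mul 1 24 4 838))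
 (.leaf (.mul 7 1023 376 1634)))
 (.node (.leaf (.mul 9 536 525 874))
 (.leaf (.tree 0 0 0 1))))
 (.node (.node (.leaf (.mul 2 62 44 2112))
 (.leaf (.tree 0 0 0 1)))
 (.node (.leaf (.mul 4 126 162 1225))
 (.leaf (.tree 0 0 0 1)))))
 (.node (.node (.node (.leaf (.mul 1 70 7 842))
 (.leaf (.chain 0 [⟨500, 159, 883, 986⟩, ⟨492, 602, 2145, 457⟩] 24 0 0 24 2094)))
 (.node (.leaf (.unit 28))
 (.leaf (.tree 0 0 0 1))))
 (.node (.node (.leaf (.mul 7 408 376 923))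
 (.leaf (.tree 0 0 0 1)))
 (.node (.leaf (.chain 44 [⟨334, 405, 904, 910⟩, ⟨920, 101, 1612, 340⟩, ⟨632, 934, 1197, 847⟩, ⟨869, 1304, 1065, 870⟩] 26 0 2 28 1680))
 (.leaf (.tree 0 0 0 1))))))
 (.node (.node (.node (.node (.leaf (.transfer 3 ⟨36, 98, 315, 88⟩ 315))
 (.leaf (.chain 1 [⟨906, 3008, 2213, 907⟩, ⟨1041, 2814, 1963, 1042⟩] 20 1 2079 20 1146)))
 (.node (.leaf (.transfer 10 ⟨183, 2828, 82, 523⟩ 82))
 (.leaf (.tree 0 0 0 1))))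
 (.node (.node (.leaf (.mul 2 344 41 265))
 (.leaf (.tree 0 0 0 1)))
 (.node (.leaf (.mul 15 856 830 1688))
 (.leaf (.tree 0 0 0 1)))))
 (.node (.node (.node (.leaf (.chain 1 [⟨147, 2781, 2147, 216⟩, ⟨37, 2747, 2195, 169⟩] 4 1 2 4 2226))
 (.leaf (.chain 1 [⟨1240, 3244, 851, 649⟩, ⟨647, 3445, 1521, 499⟩] 30 1 29 30 681)))
 (.node (.leaf (.mul 23 726 728 1638))
 (.leaf (.tree 0 0 0 1))))
 (.node (.node (.leaf (.transfer 16 ⟨466, 2776, 397, 403⟩ 397))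
 (.leaf (.tree 0 0 0 1)))
 (.node (.leaf (.chain 68 [⟨647, 3522, 2002, 502⟩, ⟨947, 2962, 259, 649⟩, ⟨869, 2740, 670, 610⟩, ⟨984, 3036, 1994, 665⟩] 24 1 2079 20 1484))
 (.leaf (.tree 0 0 0 1)))))))
 (.node (.node (.node (.node (.node (.leaf (.zero 0))
 (.leaf (.tree 19 0 3 31)))
 (.node (.leaf (.mul 10 564 568 891))
 (.leaf (.tree 0 0 0 1))))
 (.node (.node (.leaf (.mul 2 312 51 249))
 (.leaf (.tree 0 0 0 1)))
 (.node (.leaf (.mul 6 824 305 881))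
 (.leaf (.tree 0 0 0 1)))))
 (.node (.node (.node (.leaf (.mul 1 184 7 1839))
 (.leaf (.chain 0 [⟨956, 308, 318, 665⟩, ⟨862, 1093, 1254, 605⟩] 28 0 1237 29 2034)))
 (.node (.leaf (.mul 10 696 563 782))
 (.leaf (.tree 0 0 0 1))))
 (.node (.node (.leaf (.mul 12 438 440 1887))
 (.leaf (.tree 0 0 0 1)))
 (.node (.leaf (.chain 13 [⟨952, 2945, 1225, 643⟩, ⟨579, 230, 1868, 599⟩, ⟨183, 2842, 1651, 567⟩] 18 0 43 10 1808))
 (.leaf (.tree 0 0 0 1))))))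
 (.node (.node (.node (.node (.leaf (.mul 1 120 10 1437))
 (.leaf (.chain 0 [⟨1086, 1201, 56, 649⟩, ⟨908, 264, 316, 665⟩] 30 0 29 26 1142)))
 (.node (.leaf (.mul 4 148 155 180))
 (.leaf (.tree 0 0 0 1))))
 (.node (.node (.leaf (.mul 7 372 376 125))
 (.leaf (.tree 0 0 0 1)))
 (.node (.leaf (.mul 6 888 305 1329))
 (.leaf (.tree 0 0 0 1)))))
 (.node (.node (.node (.leaf (.transfer 5 ⟨38, 2793, 2118, 248⟩ 2118))
 (.leaf (.chain 20 [⟨1138, 893, 542, 1075⟩, ⟨1244, 3047, 1814, 649⟩, ⟨946, 2707, 553, 665⟩, ⟨1123, 1576, 1616, 649⟩] 32 0 30 32 795)))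
 (.node (.leaf (.chain 39 [⟨500, 2685, 402, 499⟩, ⟨515, 2913, 251, 497⟩, ⟨554, 234, 343, 691⟩, ⟨240, 827, 2091, 760⟩] 24 0 41 13 1650))
 (.leaf (.tree 0 0 0 1))))
 (.node (.node (.leaf (.mul 4 504 144 591))
 (.leaf (.tree 0 0 0 1)))
 (.node (.leaf (.chain 2 [⟨338, 743, 590, 340⟩, ⟨762, 2956, 2137, 321⟩, ⟨754, 540, 398, 709⟩] 14 1 1 24 625))
 (.leaf (.tree 0 0 0 1))))))))

/-- Part 26 of `facts`. -/
def facts26 : FTbl :=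
 (.node (.node (.node (.node (.node (.node (.leaf (.mul 1 25 23 2025))
 (.leaf (.mul 7 1049 352 1807)))
 (.node (.leaf (.flip ⟨182, 0, 0, 537⟩ 9 1 0 3 1))
 (.leaf (.tree 0 0 0 1))))
 (.node (.node (.leaf (.mul 2 281 65 939))
 (.leaf (.tree 0 0 0 1)))
 (.node (.leaf (.chain 1 [⟨407, 2877, 949, 792⟩, ⟨210, 2778, 353, 793⟩] 7 1 41 7 1125))
 (.leaf (.tree 0 0 0 1)))))
 (.node (.node (.node (.leaf (.mul 1 153 10 206))
 (.leaf (.chain 4 [⟨1044, 2699, 2035, 333⟩, ⟨1058, 3307, 1695, 490⟩, ⟨1139, 1258, 1067, 450⟩] 26 1 3 31 498)))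
 (.node (.leaf (.flip ⟨661, 1203, 1693, 665⟩ 28 0 1 17 2184))
 (.leaf (.tree 0 0 0 1))))
 (.node (.node (.leaf (.mul 7 409 352 1362))
 (.leaf (.tree 0 0 0 1)))
 (.node (.leaf (.mul 9 517 525 1207))
 (.leaf (.tree 0 0 0 1))))))
 (.node (.node (.node (.node (.leaf (.mul 3 85 89 1839))
 (.leaf (.mul 21 534 532 2083)))
 (.node (.leaf (.mul 10 564 601 425))
 (.leaf (.tree 0 0 0 1))))
 (.node (.node (.leaf (.mul 2 345 51 1267))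
 (.leaf (.tree 0 0 0 1)))
 (.node (.leaf (.chain 0 [⟨827, 219, 697, 639⟩, ⟨849, 1405, 1350, 857⟩] 11 0 43 14 1934))
 (.leaf (.tree 0 0 0 1)))))
 (.node (.node (.node (.leaf (.tree 4 1 3 12))
 (.leaf (.chain 1 [⟨859, 3489, 1343, 649⟩, ⟨1082, 3513, 1548, 603⟩] 30 1 17 28 1011)))
 (.node (.leaf (.mul 10 697 568 1745))
 (.leaf (.tree 0 0 0 1))))
 (.node (.node (.leaf (.mul 16 472 473 397))
 (.leaf (.tree 0 0 0 1)))
 (.node (.leaf (.mul 24 495 501 1192))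
 (.leaf (.tree 0 0 0 1)))))))
 (.node (.node (.node (.node (.node (.leaf (.chain 8 [⟨55, 0, 0, 56⟩, ⟨0, 0, 0, 57⟩, ⟨37, 2752, 186, 2⟩] 2 0 0 4 186))
 (.leaf (.chain 36 [⟨645, 3455, 1749, 603⟩, ⟨948, 1043, 947, 649⟩, ⟨859, 3240, 1541, 649⟩, ⟨958, 1560, 484, 603⟩] 19 1 41 28 2140)))
 (.node (.leaf (.flip ⟨183, 2966, 1250, 569⟩ 10 1 0 3 1653))
 (.leaf (.tree 0 0 0 1))))
 (.node (.node (.leaf (.mul 2 313 41 1429))
 (.leaf (.tree 0 0 0 1)))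
 (.node (.leaf (.mul 6 825 297 1021))
 (.leaf (.tree 0 0 0 1)))))
 (.node (.node (.node (.leaf (.mul 1 185 10 757))
 (.leaf (.chain 0 [⟨689, 1201, 56, 665⟩, ⟨664, 2694, 950, 654⟩] 28 0 30 28 263)))
 (.node (.leaf (.mul 10 697 601 278))
 (.leaf (.tree 0 0 0 1))))
 (.node (.node (.leaf (.mul 4 174 155 151))
 (.leaf (.tree 0 0 0 1)))
 (.node (.leaf (.flip ⟨600, 3119, 965, 605⟩ 19 1 3 10 1512))
 (.leaf (.tree 0 0 0 1))))))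
 (.node (.node (.node (.node (.leaf (.mul 1 121 13 307))
 (.leaf (.chain 2 [⟨1098, 946, 862, 1075⟩, ⟨1144, 3443, 1908, 863⟩, ⟨1145, 1773, 491, 649⟩] 32 1 0 26 680)))
 (.node (.leaf (.mul 4 633 144 1453))
 (.leaf (.tree 0 0 0 1))))
 (.node (.node (.leaf (.mul 2 367 44 120))
 (.leaf (.tree 0 0 0 1)))
 (.node (.leaf (.mul 2 367 65 1852))
 (.leaf (.tree 0 0 0 1)))))
 (.node (.node (.node (.leaf (.mul 5 243 249 1224))
 (.leaf (.chain 2 [⟨1076, 946, 862, 1075⟩, ⟨999, 3122, 868, 605⟩, ⟨860, 1285, 1422, 610⟩] 32 1 1 29 1422)))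
 (.node (.leaf (.chain 14 [⟨318, 2037, 1327, 321⟩, ⟨322, 925, 352, 332⟩, ⟨758, 2742, 650, 333⟩, ⟨761, 388, 2144, 499⟩] 6 1 3 13 1049))
 (.leaf (.tree 0 0 0 1))))
 (.node (.node (.leaf (.mul 4 505 144 967))
 (.leaf (.tree 0 0 0 1)))
 (.node (.leaf (.mul 14 323 820 425))
 (.leaf (.tree 0 0 0 1))))))))

/-- Part 27 of `facts`. -/
def facts27 : FTbl :=
 (.node (.node (.node (.node (.node (.node (.leaf (.mul 1 26 10 1441))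
 (.leaf (.mul 7 1050 362 1834)))
 (.node (.leaf (.mul 3 68 94 469))
 (.leaf (.tree 0 0 0 1))))
 (.node (.node (.leaf (.transfer 6 ⟨59, 82, 1634, 282⟩ 1634))
 (.leaf (.tree 0 0 0 1)))
 (.node (.leaf (.chain 13 [⟨587, 3044, 1453, 595⟩, ⟨680, 1174, 985, 575⟩, ⟨587, 2873, 1710, 682⟩] 8 0 17 8 1729))
 (.leaf (.tree 0 0 0 1)))))
 (.node (.node (.node (.leaf (.transfer 4 ⟨37, 2885, 1869, 154⟩ 1869))
 (.leaf (.chain 1 [⟨1046, 3489, 1343, 665⟩, ⟨1178, 2929, 1302, 910⟩] 28 1 41 31 932)))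
 (.node (.leaf (.mul 11 429 638 1198))
 (.leaf (.tree 0 0 0 1))))
 (.node (.node (.leaf (.mul 7 410 362 1783))
 (.leaf (.tree 0 0 0 1)))
 (.node (.leaf (.chain 22 [⟨655, 571, 1379, 907⟩, ⟨555, 2826, 147, 922⟩, ⟨724, 196, 751, 730⟩, ⟨811, 1386, 1062, 699⟩] 20 0 30 22 993))
 (.leaf (.tree 0 0 0 1))))))
 (.node (.node (.node (.node (.leaf (.mul 1 8 13 1433))
 (.leaf (.chain 32 [⟨956, 2214, 1363, 665⟩, ⟨1102, 3274, 2011, 605⟩, ⟨955, 1780, 654, 603⟩, ⟨1081, 2025, 1904, 605⟩] 28 0 44 31 1988)))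
 (.node (.leaf (.unit 19))
 (.leaf (.tree 0 0 0 1))))
 (.node (.node (.leaf (.unit 7))
 (.leaf (.tree 0 0 0 1)))
 (.node (.leaf (.flip ⟨645, 2771, 1294, 649⟩ 30 1 3 19 1903))
 (.leaf (.tree 0 0 0 1)))))
 (.node (.node (.node (.leaf (.unit 5))
 (.leaf (.chain 2 [⟨1116, 946, 862, 649⟩, ⟨1119, 3291, 1555, 1118⟩, ⟨940, 1395, 959, 729⟩] 30 1 43 29 1696)))
 (.node (.leaf (.transfer 23 ⟨693, 670, 677, 730⟩ 677))
 (.leaf (.tree 0 0 0 1))))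
 (.node (.node (.leaf (.mul 7 403 352 2152))
 (.leaf (.tree 0 0 0 1)))
 (.node (.leaf (.chain 2 [⟨983, 1115, 1753, 502⟩, ⟨985, 3299, 1534, 986⟩, ⟨923, 581, 1004, 746⟩] 24 1 1076 22 1866))
 (.leaf (.tree 0 0 0 1)))))))
 (.node (.node (.node (.node (.node (.leaf (.tree 2 0 3 6))
 (.leaf (.chain 69 [⟨908, 2216, 152, 665⟩, ⟨941, 3165, 2229, 333⟩, ⟨864, 619, 236, 863⟩, ⟨644, 2802, 2057, 643⟩] 28 0 40 30 1912)))
 (.node (.leaf (.mul 3 83 118 1176))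
 (.leaf (.tree 0 0 0 1))))
 (.node (.node (.leaf (.mul 2 314 65 1037))
 (.leaf (.tree 0 0 0 1)))
 (.node (.leaf (.chain 12 [⟨780, 3038, 1793, 668⟩, ⟨338, 1062, 1475, 822⟩, ⟨319, 2822, 2112, 826⟩] 11 0 17 15 1340))
 (.leaf (.tree 0 0 0 1)))))
 (.node (.node (.node (.leaf (.mul 1 186 18 81))
 (.leaf (.chain 1 [⟨984, 3489, 1343, 665⟩, ⟨686, 2812, 762, 654⟩] 28 1 2 28 1884)))
 (.node (.leaf (.mul 10 698 568 687))
 (.leaf (.tree 0 0 0 1))))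
 (.node (.node (.leaf (.transfer 12 ⟨218, 2776, 397, 442⟩ 397))
 (.leaf (.tree 0 0 0 1)))
 (.node (.leaf (.chain 64 [⟨954, 3305, 891, 603⟩, ⟨814, 2924, 2135, 564⟩, ⟨264, 3016, 1394, 511⟩, ⟨600, 3209, 2077, 699⟩] 19 0 17 19 2143))
 (.leaf (.tree 0 0 0 1))))))
 (.node (.node (.node (.node (.leaf (.mul 1 122 18 457))
 (.leaf (.mul 6 823 283 1192)))
 (.node (.leaf (.mul 4 634 144 1791))
 (.leaf (.tree 0 0 0 1))))
 (.node (.node (.leaf (.mul 2 378 41 1286))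
 (.leaf (.tree 0 0 0 1)))
 (.node (.leaf (.mul 2 890 65 1648))
 (.leaf (.tree 0 0 0 1)))))
 (.node (.node (.node (.leaf (.mul 5 250 249 2215))
 (.leaf (.chain 27 [⟨1143, 815, 290, 1075⟩, ⟨1273, 270, 1238, 1075⟩, ⟨1228, 1561, 270, 1075⟩, ⟨1252, 385, 222, 1118⟩] 32 1 3 31 1606)))
 (.node (.leaf (.mul 7 408 352 1873))
 (.leaf (.tree 0 0 0 1))))
 (.node (.node (.leaf (.mul 4 506 162 245))
 (.leaf (.tree 0 0 0 1)))
 (.node (.leaf (.mul 11 429 426 138))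
 (.leaf (.tree 0 0 0 1))))))))

/-- Part 28 of `facts`. -/
def facts28 : FTbl :=
 (.node (.node (.node (.node (.node (.node (.leaf (.mul 1 27 7 1464))
 (.leaf (.mul 7 1051 352 906)))
 (.node (.leaf (.mul 3 539 118 1226))
 (.leaf (.tree 0 0 0 1))))
 (.node (.node (.leaf (.mul 6 280 283 853))
 (.leaf (.tree 0 0 0 1)))
 (.node (.leaf (.mul 8 613 580 138))
 (.leaf (.tree 0 0 0 1)))))
 (.node (.node (.node (.leaf (.mul 4 131 155 1233))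
 (.leaf (.chain 8 [⟨647, 3001, 1380, 499⟩, ⟨1086, 719, 271, 649⟩, ⟨1179, 3570, 1708, 665⟩] 24 0 2 31 1965)))
 (.node (.leaf (.mul 11 667 433 898))
 (.leaf (.tree 0 0 0 1))))
 (.node (.node (.leaf (.mul 4 126 155 1869))
 (.leaf (.tree 0 0 0 1)))
 (.node (.leaf (.unit 22))
 (.leaf (.tree 0 0 0 1))))))
 (.node (.node (.node (.node (.leaf (.mul 1 91 10 547))
 (.leaf (.chain 0 [⟨950, 308, 318, 649⟩, ⟨1115, 328, 2023, 665⟩] 30 0 43 31 628)))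
 (.node (.leaf (.transfer 19 ⟨598, 3531, 2177, 595⟩ 2177))
 (.leaf (.tree 0 0 0 1))))
 (.node (.node (.leaf (.transfer 7 ⟨60, 2763, 1989, 54⟩ 1989))
 (.leaf (.tree 0 0 0 1)))
 (.node (.leaf (.tree 18 0 3 29))
 (.leaf (.tree 0 0 0 1)))))
 (.node (.node (.node (.leaf (.mul 1 185 13 541))
 (.leaf (.chain 1 [⟨1243, 2839, 1349, 649⟩, ⟨1126, 3032, 632, 863⟩] 30 1 44 28 456)))
 (.node (.leaf (.mul 23 729 731 484))
 (.leaf (.tree 0 0 0 1))))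
 (.node (.node (.leaf (.transfer 16 ⟨466, 3016, 1394, 475⟩ 1394))
 (.leaf (.tree 0 0 0 1)))
 (.node (.leaf (.chain 3 [⟨754, 1335, 1481, 982⟩, ⟨987, 2790, 1173, 986⟩, ⟨928, 1535, 1138, 924⟩] 13 1 3 23 1296))
 (.leaf (.tree 0 0 0 1)))))))
 (.node (.node (.node (.node (.node (.leaf (.tree 2 1 1 7))
 (.leaf (.chain 1 [⟨947, 3489, 1343, 649⟩, ⟨644, 3263, 1374, 643⟩] 30 1 2 30 890)))
 (.node (.leaf (.mul 3 571 124 829))
 (.leaf (.tree 0 0 0 1))))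
 (.node (.node (.leaf (.mul 2 315 51 889))
 (.leaf (.tree 0 0 0 1)))
 (.node (.leaf (.unit 15))
 (.leaf (.tree 0 0 0 1)))))
 (.node (.node (.node (.leaf (.mul 1 187 13 959))
 (.leaf (.chain 3 [⟨943, 728, 1173, 665⟩, ⟨644, 2790, 1173, 610⟩, ⟨1085, 1173, 182, 649⟩] 28 1 3 27 1722)))
 (.node (.leaf (.chain 6 [⟨655, 654, 410, 654⟩, ⟨555, 349, 1848, 692⟩, ⟨693, 1017, 820, 699⟩] 20 1 46 23 2081))
 (.leaf (.tree 0 0 0 1))))
 (.node (.node (.leaf (.mul 12 441 443 425))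
 (.leaf (.tree 0 0 0 1)))
 (.node (.leaf (.chain 35 [⟨943, 248, 773, 665⟩, ⟨953, 1129, 597, 870⟩, ⟨600, 2924, 2135, 569⟩, ⟨955, 2685, 402, 603⟩] 28 0 43 19 1702))
 (.leaf (.tree 0 0 0 1))))))
 (.node (.node (.node (.node (.leaf (.transfer 3 ⟨36, 228, 82, 123⟩ 82))
 (.leaf (.chain 15 [⟨334, 820, 914, 910⟩, ⟨338, 968, 355, 821⟩, ⟨318, 1805, 629, 1147⟩, ⟨322, 2689, 309, 1018⟩] 26 1 30 26 309)))
 (.node (.leaf (.mul 4 635 144 1119))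
 (.leaf (.tree 0 0 0 1))))
 (.node (.node (.leaf (.mul 2 379 44 1962))
 (.leaf (.tree 0 0 0 1)))
 (.node (.leaf (.mul 2 891 51 1748))
 (.leaf (.tree 0 0 0 1)))))
 (.node (.node (.node (.leaf (.mul 1 96 7 552))
 (.leaf (.chain 1 [⟨1274, 3489, 1343, 1075⟩, ⟨1233, 3519, 1610, 863⟩] 32 1 41 32 623)))
 (.node (.leaf (.mul 7 763 362 1323))
 (.leaf (.tree 0 0 0 1))))
 (.node (.node (.leaf (.mul 1 198 10 577))
 (.leaf (.tree 0 0 0 1)))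
 (.node (.leaf (.chain 6 [⟨920, 172, 254, 1018⟩, ⟨973, 3203, 72, 1019⟩, ⟨928, 115, 1163, 930⟩] 14 1 3 23 1615))
 (.leaf (.tree 0 0 0 1))))))))

/-- Part 29 of `facts`. -/
def facts29 : FTbl :=
 (.node (.node (.node (.node (.node (.node (.leaf (.mul 1 28 13 1188))
 (.leaf (.mul 7 347 376 230)))
 (.node (.leaf (.mul 3 85 94 183))
 (.leaf (.tree 0 0 0 1))))
 (.node (.node (.leaf (.mul 2 43 51 1016))
 (.leaf (.tree 0 0 0 1)))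
 (.node (.leaf (.mul 8 796 577 888))
 (.leaf (.tree 0 0 0 1)))))
 (.node (.node (.node (.leaf (.mul 4 156 144 1862))
 (.leaf (.chain 10 [⟨1165, 3242, 742, 502⟩, ⟨757, 864, 990, 907⟩, ⟨1165, 3202, 778, 502⟩] 24 0 3 20 1108)))
 (.node (.leaf (.mul 4 149 155 862))
 (.leaf (.tree 0 0 0 1))))
 (.node (.node (.leaf (.mul 4 412 144 1754))
 (.leaf (.tree 0 0 0 1)))
 (.node (.leaf (.transfer 22 ⟨811, 933, 1279, 699⟩ 1279))
 (.leaf (.tree 0 0 0 1))))))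
 (.node (.node (.node (.node (.leaf (.mul 1 92 13 313))
 (.leaf (.chain 4 [⟨737, 198, 1373, 729⟩, ⟨600, 349, 1848, 727⟩, ⟨1081, 967, 305, 605⟩] 23 1 0 31 340)))
 (.node (.leaf (.mul 19 603 604 2177))
 (.leaf (.tree 0 0 0 1))))
 (.node (.node (.leaf (.mul 7 347 348 1989))
 (.leaf (.tree 0 0 0 1)))
 (.node (.leaf (.chain 41 [⟨611, 1191, 1498, 608⟩, ⟨795, 2692, 589, 593⟩, ⟨607, 730, 1356, 796⟩, ⟨860, 684, 520, 610⟩] 18 1 0 29 1440))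
 (.leaf (.tree 0 0 0 1)))))
 (.node (.node (.node (.leaf (.mul 1 220 4 841))
 (.leaf (.chain 1 [⟨1137, 3128, 937, 649⟩, ⟨1207, 3212, 551, 1032⟩] 30 1 46 32 1223)))
 (.node (.leaf (.flip ⟨725, 1711, 936, 732⟩ 23 0 43 13 1899))
 (.leaf (.tree 0 0 0 1))))
 (.node (.node (.leaf (.mul 16 474 476 1677))
 (.leaf (.tree 0 0 0 1)))
 (.node (.leaf (.mul 13 715 708 615))
 (.leaf (.tree 0 0 0 1)))))))
 (.node (.node (.node (.node (.node (.leaf (.mul 2 42 44 2191))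
 (.leaf (.flip ⟨1039, 219, 697, 649⟩ 30 0 0 27 1636)))
 (.node (.leaf (.mul 3 545 94 172))
 (.leaf (.tree 0 0 0 1))))
 (.node (.node (.leaf (.chain 0 [⟨307, 58, 870, 310⟩, ⟨59, 879, 743, 316⟩] 6 0 0 6 766))
 (.leaf (.tree 0 0 0 1)))
 (.node (.leaf (.mul 6 768 297 320))
 (.leaf (.tree 0 0 0 1)))))
 (.node (.node (.node (.leaf (.chain 8 [⟨147, 2752, 186, 142⟩, ⟨21, 0, 0, 188⟩, ⟨1, 0, 0, 57⟩] 4 0 0 2 0))
 (.leaf (.chain 1 [⟨1212, 3489, 1343, 665⟩, ⟨1040, 3429, 1577, 1032⟩] 28 1 17 28 1068)))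
 (.node (.leaf (.unit 13))
 (.leaf (.tree 0 0 0 1))))
 (.node (.node (.leaf (.chain 65 [⟨416, 2930, 1558, 332⟩, ⟨428, 1344, 1759, 434⟩, ⟨218, 2794, 1849, 131⟩, ⟨435, 3037, 367, 444⟩] 14 1 29 25 1084))
 (.leaf (.tree 0 0 0 1)))
 (.node (.leaf (.chain 22 [⟨871, 669, 2153, 863⟩, ⟨949, 2809, 1389, 665⟩, ⟨950, 59, 2187, 649⟩, ⟨956, 1940, 2136, 665⟩] 29 0 41 19 1594))
 (.leaf (.tree 0 0 0 1))))))
 (.node (.node (.node (.node (.leaf (.mul 3 119 124 1288))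
 (.leaf (.chain 58 [⟨1148, 3319, 1591, 910⟩, ⟨334, 1388, 2070, 333⟩, ⟨445, 2871, 1709, 323⟩, ⟨1110, 2989, 734, 459⟩] 26 1 43 31 1896)))
 (.node (.leaf (.mul 4 636 162 65))
 (.leaf (.tree 0 0 0 1))))
 (.node (.node (.leaf (.mul 2 380 51 471))
 (.leaf (.tree 0 0 0 1)))
 (.node (.leaf (.chain 8 [⟨832, 2826, 147, 886⟩, ⟨307, 82, 1634, 889⟩, ⟨60, 2764, 2191, 892⟩] 15 0 0 7 2191))
 (.leaf (.tree 0 0 0 1)))))
 (.node (.node (.node (.leaf (.mul 1 252 10 172))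
 (.leaf (.chain 2 [⟨1269, 946, 862, 1075⟩, ⟨1146, 2942, 1256, 1075⟩, ⟨1198, 344, 145, 333⟩] 32 1 29 27 659)))
 (.node (.leaf (.mul 2 206 65 926))
 (.leaf (.tree 0 0 0 1))))
 (.node (.node (.leaf (.mul 1 508 13 624))
 (.leaf (.tree 0 0 0 1)))
 (.node (.leaf (.mul 15 856 837 726))
 (.leaf (.tree 0 0 0 1))))))))

/-- Part 30 of `facts`. -/
def facts30 : FTbl :=
 (.node (.node (.node (.node (.node (.node (.leaf (.mul 1 29 10 845))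
 (.leaf (.mul 7 1053 352 1200)))
 (.node (.leaf (.mul 3 541 124 938))
 (.leaf (.tree 0 0 0 1))))
 (.node (.node (.leaf (.mul 2 285 41 1225))
 (.leaf (.tree 0 0 0 1)))
 (.node (.leaf (.chain 13 [⟨587, 2746, 1384, 797⟩, ⟨579, 491, 974, 681⟩, ⟨182, 2865, 1081, 574⟩] 8 0 43 9 1518))
 (.leaf (.tree 0 0 0 1)))))
 (.node (.node (.node (.leaf (.mul 4 157 144 1288))
 (.leaf (.chain 9 [⟨1119, 3228, 284, 1118⟩, ⟨940, 663, 1624, 732⟩, ⟨1126, 3108, 1297, 863⟩] 31 0 2 28 2000)))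
 (.node (.leaf (.mul 4 669 144 1026))
 (.leaf (.tree 0 0 0 1))))
 (.node (.node (.leaf (.mul 4 413 144 2054))
 (.leaf (.tree 0 0 0 1)))
 (.node (.leaf (.mul 22 924 925 1279))
 (.leaf (.tree 0 0 0 1))))))
 (.node (.node (.node (.node (.leaf (.transfer 3 ⟨36, 2682, 469, 93⟩ 469))
 (.leaf (.unit 31)))
 (.node (.leaf (.flip ⟨598, 2954, 603, 605⟩ 19 1 0 8 1930))
 (.leaf (.tree 0 0 0 1))))
 (.node (.node (.leaf (.mul 2 292 41 1032))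
 (.leaf (.tree 0 0 0 1)))
 (.node (.leaf (.chain 13 [⟨606, 3178, 2197, 605⟩, ⟨607, 768, 1234, 613⟩, ⟨861, 3142, 612, 643⟩] 19 0 1 29 2199))
 (.leaf (.tree 0 0 0 1)))))
 (.node (.node (.node (.leaf (.mul 1 221 18 361))
 (.leaf (.chain 18 [⟨1227, 1441, 1637, 1118⟩, ⟨1142, 754, 598, 1118⟩, ⟨1076, 574, 346, 1075⟩, ⟨862, 2682, 469, 603⟩] 31 0 45 29 1816)))
 (.node (.leaf (.mul 13 701 714 893))
 (.leaf (.tree 0 0 0 1))))
 (.node (.node (.leaf (.mul 16 477 476 572))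
 (.leaf (.tree 0 0 0 1)))
 (.node (.leaf (.mul 13 989 704 285))
 (.leaf (.tree 0 0 0 1)))))))
 (.node (.node (.node (.node (.node (.leaf (.mul 2 61 41 1979))
 (.leaf (.chain 8 [⟨1084, 2879, 231, 649⟩, ⟨1085, 1438, 1059, 649⟩, ⟨1040, 3290, 1499, 1032⟩] 30 0 2 28 428)))
 (.node (.leaf (.mul 3 573 124 65))
 (.leaf (.tree 0 0 0 1))))
 (.node (.node (.leaf (.tree 6 0 2 14))
 (.leaf (.tree 0 0 0 1)))
 (.node (.leaf (.transfer 15 ⟨319, 2945, 1225, 829⟩ 1225))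
 (.leaf (.tree 0 0 0 1)))))
 (.node (.node (.node (.leaf (.mul 4 141 162 639))
 (.leaf (.chain 2 [⟨1115, 946, 862, 665⟩, ⟨1119, 3276, 324, 1118⟩, ⟨940, 145, 1038, 732⟩] 28 1 44 29 2017)))
 (.node (.leaf (.mul 5 228 249 1608))
 (.leaf (.tree 0 0 0 1))))
 (.node (.node (.leaf (.unit 25))
 (.leaf (.tree 0 0 0 1)))
 (.node (.leaf (.chain 8 [⟨606, 2879, 231, 603⟩, ⟨612, 1546, 665, 681⟩, ⟨866, 2790, 1173, 865⟩] 19 0 0 28 803))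
 (.leaf (.tree 0 0 0 1))))))
 (.node (.node (.node (.node (.leaf (.unit 4))
 (.leaf (.chain 1 [⟨1146, 3489, 1343, 1075⟩, ⟨1149, 3567, 1147, 910⟩] 32 1 2 31 2084)))
 (.node (.leaf (.transfer 11 ⟨194, 458, 1839, 637⟩ 1839))
 (.leaf (.tree 0 0 0 1))))
 (.node (.node (.leaf (.mul 2 381 65 1737))
 (.leaf (.tree 0 0 0 1)))
 (.node (.leaf (.mul 15 851 837 554))
 (.leaf (.tree 0 0 0 1)))))
 (.node (.node (.node (.leaf (.mul 1 253 13 1444))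
 (.leaf (.chain 1 [⟨1277, 3128, 937, 1075⟩, ⟨1208, 3344, 1527, 1036⟩] 32 1 40 30 1331)))
 (.node (.leaf (.mul 2 765 51 1314))
 (.leaf (.tree 0 0 0 1))))
 (.node (.node (.leaf (.mul 1 509 18 618))
 (.leaf (.tree 0 0 0 1)))
 (.node (.leaf (.mul 15 1021 830 2036))
 (.leaf (.tree 0 0 0 1))))))))

/-- Part 31 of `facts`. -/
def facts31 : FTbl :=
 (.node (.node (.node (.node (.node (.node (.leaf (.mul 1 30 13 526))
 (.leaf (.mul 7 1054 362 2045)))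
 (.node (.leaf (.transfer 9 ⟨182, 3100, 496, 542⟩ 496))
 (.leaf (.tree 0 0 0 1))))
 (.node (.node (.leaf (.mul 2 286 51 1917))
 (.leaf (.tree 0 0 0 1)))
 (.node (.leaf (.mul 17 663 684 1482))
 (.leaf (.tree 0 0 0 1)))))
 (.node (.node (.node (.leaf (.mul 4 158 144 2039))
 (.leaf (.chain 0 [⟨334, 1201, 56, 333⟩, ⟨322, 728, 1173, 341⟩] 26 0 0 26 1055)))
 (.node (.leaf (.mul 4 670 144 1207))
 (.leaf (.tree 0 0 0 1))))
 (.node (.node (.leaf (.mul 4 414 144 1644))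
 (.leaf (.tree 0 0 0 1)))
 (.node (.leaf (.flip ⟨811, 1004, 479, 926⟩ 22 0 1 10 1877))
 (.leaf (.tree 0 0 0 1))))))
 (.node (.node (.node (.node (.leaf (.mul 3 90 94 923))
 (.leaf (.flip ⟨1117, 2996, 1514, 1118⟩ 31 1 0 23 1620)))
 (.node (.leaf (.tree 8 0 3 18))
 (.leaf (.tree 0 0 0 1))))
 (.node (.node (.leaf (.mul 2 350 65 1985))
 (.leaf (.tree 0 0 0 1)))
 (.node (.leaf (.unit 29))
 (.leaf (.tree 0 0 0 1)))))
 (.node (.node (.node (.leaf (.transfer 5 ⟨38, 2758, 1522, 222⟩ 1522))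
 (.leaf (.chain 16 [⟨1246, 1656, 1602, 1118⟩, ⟨1124, 457, 6, 863⟩, ⟨923, 2037, 1327, 746⟩, ⟨1073, 1238, 1561, 924⟩] 31 1 3 32 1529)))
 (.node (.leaf (.mul 13 734 714 1468))
 (.leaf (.tree 0 0 0 1))))
 (.node (.node (.leaf (.mul 7 349 376 862))
 (.leaf (.tree 0 0 0 1)))
 (.node (.leaf (.mul 13 990 714 2214))
 (.leaf (.tree 0 0 0 1)))))))
 (.node (.node (.node (.node (.node (.leaf (.mul 2 62 41 764))
 (.leaf (.chain 7 [⟨956, 2719, 1003, 665⟩, ⟨645, 3453, 489, 605⟩, ⟨948, 1357, 1185, 649⟩] 28 1 29 30 1109)))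
 (.node (.leaf (.unit 8))
 (.leaf (.tree 0 0 0 1))))
 (.node (.node (.leaf (.tree 6 1 0 15))
 (.leaf (.tree 0 0 0 1)))
 (.node (.leaf (.mul 15 828 830 1225))
 (.leaf (.tree 0 0 0 1)))))
 (.node (.node (.node (.leaf (.mul 2 42 65 2118))
 (.leaf (.chain 14 [⟨868, 1554, 400, 665⟩, ⟨1129, 1511, 2055, 665⟩, ⟨666, 936, 636, 665⟩, ⟨661, 1067, 1539, 799⟩] 28 1 30 28 1539)))
 (.node (.leaf (.mul 5 702 223 606))
 (.leaf (.tree 0 0 0 1))))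
 (.node (.node (.leaf (.mul 12 438 443 2222))
 (.leaf (.tree 0 0 0 1)))
 (.node (.leaf (.flip ⟨687, 930, 869, 665⟩ 28 0 29 21 556))
 (.leaf (.tree 0 0 0 1))))))
 (.node (.node (.node (.node (.leaf (.mul 1 5 10 2158))
 (.leaf (.chain 6 [⟨1143, 90, 1568, 1075⟩, ⟨1150, 3373, 1644, 1075⟩, ⟨1142, 2732, 825, 1118⟩] 32 1 44 32 2162)))
 (.node (.leaf (.mul 11 427 638 1625))
 (.leaf (.tree 0 0 0 1))))
 (.node (.node (.leaf (.mul 2 382 51 1723))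
 (.leaf (.tree 0 0 0 1)))
 (.node (.leaf (.mul 15 894 837 1743))
 (.leaf (.tree 0 0 0 1)))))
 (.node (.node (.node (.leaf (.mul 1 254 13 2136))
 (.leaf (.chain 1 [⟨1275, 3489, 1343, 1075⟩, ⟨1260, 3413, 1824, 1118⟩] 32 1 17 29 1844)))
 (.node (.leaf (.mul 2 766 41 1116))
 (.leaf (.tree 0 0 0 1))))
 (.node (.node (.leaf (.mul 5 219 249 2118))
 (.leaf (.tree 0 0 0 1)))
 (.node (.leaf (.mul 7 392 348 1767))
 (.leaf (.tree 0 0 0 1))))))))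

/-- The table `facts`. -/
def facts : FTbl :=
 (.node (.node (.node (.node (.node facts0 facts16) (.node facts8 facts24)) (.node (.node facts4 facts20) (.node facts12 facts28))) (.node (.node (.node facts2 facts18) (.node facts10 facts26)) (.node (.node facts6 facts22) (.node facts14 facts30)))) (.node (.node (.node (.node facts1 facts17) (.node facts9 facts25)) (.node (.node facts5 facts21) (.node facts13 facts29))) (.node (.node (.node facts3 facts19) (.node facts11 facts27)) (.node (.node facts7 facts23) (.node facts15 facts31)))))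

end CfsgLib.HeUnique.He.Dat
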