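import Cfsg.Agent.Lib.HeUnique.Cert.Defs
import Cfsg.Agent.Lib.HeUnique.He.DataCodes0
import Cfsg.Agent.Lib.HeUnique.He.DataCodes1
import Cfsg.Agent.Lib.HeUnique.He.DataCodes2
import Cfsg.Agent.Lib.HeUnique.He.DataCodes3
import Cfsg.Agent.Lib.HeUnique.He.DataCodes4
import Cfsg.Agent.Lib.HeUnique.He.DataCodes5
import Cfsg.Agent.Lib.HeUnique.He.DataCodes6
import Cfsg.Agent.Lib.HeUnique.He.DataCodes7

/-!
The table of nodes
(generated, see coord/notes/S1659_He_helper49).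
-/

set_option autoImplicit false
set_option maxRecDepth 100000

namespace CfsgLib.HeUnique.He.Dat

open CfsgLib.CoThreeUnique.Bound (Tbl)
open CfsgLib.HeUnique.Cert

/-- The codes of the nodes. -/
def codes : Tbl := (.node (.node (.node codes0_ codes4_) (.node codes2_ codes6_)) (.node (.node codes1_ codes5_) (.node codes3_ codes7_)))

/-- Part 0 of `par`. -/
def par0 : Tbl :=
 (.node (.node (.node (.node (.node (.node (.node (.node (.leaf 0)
 (.leaf 3645442))
 (.node (.leaf 4522000)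
 (.leaf 25157981)))
 (.node (.node (.leaf 1646631)
 (.leaf 20964306))
 (.node (.leaf 12574762)
 (.leaf 12107821))))
 (.node (.node (.node (.leaf 2088976)
 (.leaf 18866694))
 (.node (.leaf 3285037)
 (.leaf 27255133)))
 (.node (.node (.leaf 6283280)
 (.leaf 23061956))
 (.node (.leaf 10321965)
 (.leaf 0)))))
 (.node (.node (.node (.node (.leaf 1040423)
 (.leaf 17817601))
 (.node (.leaf 9429008)
 (.leaf 23602628)))
 (.node (.node (.leaf 3170332)
 (.leaf 16687143))
 (.node (.leaf 13623341)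
 (.leaf 0))))
 (.node (.node (.node (.leaf 3137575)
 (.leaf 19915124))
 (.node (.leaf 11526145)
 (.leaf 23290375)))
 (.node (.node (.leaf 7331841)
 (.leaf 24109575))
 (.node (.leaf 15720487)
 (.leaf 0))))))
 (.node (.node (.node (.node (.node (.leaf 516097)
 (.leaf 17293354))
 (.node (.leaf 1261569)
 (.leaf 25682269)))
 (.node (.node (.leaf 3776540)
 (.leaf 21489089))
 (.node (.leaf 9420839)
 (.leaf 0))))
 (.node (.node (.node (.leaf 2613276)
 (.leaf 19390982))
 (.node (.leaf 4538396)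
 (.leaf 27402759)))
 (.node (.node (.leaf 1966123)
 (.leaf 22651229))
 (.node (.leaf 8265744)
 (.leaf 0)))))
 (.node (.node (.node (.node (.leaf 1564688)
 (.leaf 18342345))
 (.node (.leaf 9953281)
 (.leaf 24191495)))
 (.node (.node (.leaf 655388)
 (.leaf 22537668))
 (.node (.leaf 14147612)
 (.leaf 0))))
 (.node (.node (.node (.leaf 2678800)
 (.leaf 20439526))
 (.node (.leaf 7847982)
 (.leaf 28296644)))
 (.node (.node (.leaf 7856167)
 (.leaf 24315332))
 (.node (.leaf 2777127)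
 (.leaf 0)))))))
 (.node (.node (.node (.node (.node (.node (.leaf 253955)
 (.leaf 6864898))
 (.node (.leaf 2506754)
 (.leaf 25421252)))
 (.node (.node (.leaf 4448272)
 (.leaf 21128641))
 (.node (.leaf 12263463)
 (.leaf 0))))
 (.node (.node (.node (.leaf 2351132)
 (.leaf 19128692))
 (.node (.leaf 10739728)
 (.leaf 25454020)))
 (.node (.node (.leaf 6545447)
 (.leaf 23324100))
 (.node (.leaf 409629)
 (.leaf 0)))))
 (.node (.node (.node (.node (.leaf 1302556)
 (.leaf 5849116))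
 (.node (.leaf 9691175)
 (.leaf 26469828)))
 (.node (.node (.leaf 5496848)
 (.leaf 15360016))
 (.node (.leaf 2269186)
 (.leaf 0))))
 (.node (.node (.node (.leaf 3399708)
 (.leaf 20177414))
 (.node (.leaf 1949726)
 (.leaf 27713885)))
 (.node (.node (.leaf 3153936)
 (.leaf 23347719))
 (.node (.leaf 10772496)
 (.leaf 0))))))
 (.node (.node (.node (.node (.node (.leaf 778268)
 (.leaf 8142887))
 (.node (.leaf 3121181)
 (.leaf 23978503)))
 (.node (.node (.leaf 4972546)
 (.leaf 21750738))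
 (.node (.leaf 13361180)
 (.leaf 0))))
 (.node (.node (.node (.leaf 2875420)
 (.leaf 3047796))
 (.node (.leaf 8929296)
 (.leaf 28042692)))
 (.node (.node (.leaf 6881308)
 (.leaf 23847261))
 (.node (.leaf 8437761)
 (.leaf 0)))))
 (.node (.node (.node (.node (.leaf 1826855)
 (.leaf 18604260))
 (.node (.leaf 1138727)
 (.leaf 24929732)))
 (.node (.node (.leaf 6021159)
 (.leaf 22799812))
 (.node (.leaf 5750785)
 (.leaf 0))))
 (.node (.node (.node (.leaf 3923997)
 (.leaf 20701702))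
 (.node (.leaf 2613264)
 (.leaf 29090141)))
 (.node (.node (.leaf 1556496)
 (.leaf 23963076))
 (.node (.leaf 16506919)
 (.leaf 0))))))))
 (.node (.node (.node (.node (.node (.node (.node (.leaf 122882)
 (.leaf 4071453))
 (.node (.leaf 8364071)
 (.leaf 25289053)))
 (.node (.node (.leaf 2031655)
 (.leaf 20980346))
 (.node (.leaf 12705794)
 (.leaf 0))))
 (.node (.node (.node (.leaf 2220071)
 (.leaf 18997734))
 (.node (.leaf 8798210)
 (.leaf 26960391)))
 (.node (.node (.leaf 2998300)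
 (.leaf 22798685))
 (.node (.leaf 8265773)
 (.leaf 0)))))
 (.node (.node (.node (.node (.leaf 1171495)
 (.leaf 8519709))
 (.node (.leaf 5955623)
 (.leaf 26338756)))
 (.node (.node (.leaf 5365799)
 (.leaf 13754396))
 (.node (.leaf 7479336)
 (.leaf 0))))
 (.node (.node (.node (.leaf 2965520)
 (.leaf 20046196))
 (.node (.leaf 4735005)
 (.leaf 25289223)))
 (.node (.node (.leaf 7462940)
 (.leaf 24240477))
 (.node (.leaf 4431917)
 (.leaf 0))))))
 (.node (.node (.node (.node (.node (.leaf 647196)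
 (.leaf 11739181))
 (.node (.leaf 9035792)
 (.leaf 23643588)))
 (.node (.node (.leaf 4841488)
 (.leaf 21619322))
 (.node (.leaf 7176208)
 (.leaf 0))))
 (.node (.node (.node (.leaf 2744336)
 (.leaf 19522022))
 (.node (.leaf 5185575)
 (.leaf 27525469)))
 (.node (.node (.leaf 6938664)
 (.leaf 23717316))
 (.node (.leaf 3842087)
 (.leaf 0)))))
 (.node (.node (.node (.node (.leaf 1695760)
 (.leaf 18473115))
 (.node (.leaf 3170334)
 (.leaf 24307140)))
 (.node (.node (.leaf 5890076)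
 (.leaf 2859527))
 (.node (.leaf 3293223)
 (.leaf 0))))
 (.node (.node (.node (.leaf 2088999)
 (.leaf 20570598))
 (.node (.leaf 5070876)
 (.leaf 24372676)))
 (.node (.node (.leaf 7987216)
 (.leaf 24765892))
 (.node (.leaf 8110121)
 (.leaf 0)))))))
 (.node (.node (.node (.node (.node (.node (.leaf 385040)
 (.leaf 3891242))
 (.node (.leaf 7356444)
 (.leaf 24584541)))
 (.node (.node (.leaf 4579356)
 (.leaf 21357522))
 (.node (.leaf 6782978)
 (.leaf 0))))
 (.node (.node (.node (.leaf 2482177)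
 (.leaf 18833780))
 (.node (.leaf 5890064)
 (.leaf 26222941)))
 (.node (.node (.leaf 6676520)
 (.leaf 23454215))
 (.node (.leaf 2736156)
 (.leaf 0)))))
 (.node (.node (.node (.node (.leaf 1433629)
 (.leaf 778282))
 (.node (.leaf 5185537)
 (.leaf 26599773)))
 (.node (.node (.leaf 786460)
 (.leaf 10928156))
 (.node (.leaf 14016529)
 (.leaf 0))))
 (.node (.node (.node (.leaf 679975)
 (.leaf 19448294))
 (.node (.leaf 2588714)
 (.leaf 27533831)))
 (.node (.node (.leaf 393244)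
 (.leaf 24502791))
 (.node (.leaf 5529616)
 (.leaf 0))))))
 (.node (.node (.node (.node (.node (.leaf 909340)
 (.leaf 10805276))
 (.node (.leaf 1777703)
 (.leaf 26076612)))
 (.node (.node (.leaf 5095463)
 (.leaf 21881810))
 (.node (.leaf 13492269)
 (.leaf 0))))
 (.node (.node (.node (.leaf 3006480)
 (.leaf 19784166))
 (.node (.leaf 2744359)
 (.leaf 22552925)))
 (.node (.node (.leaf 7200784)
 (.leaf 23978333))
 (.node (.leaf 3776528)
 (.leaf 0)))))
 (.node (.node (.node (.node (.leaf 1957904)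
 (.leaf 18587702))
 (.node (.leaf 5939216)
 (.leaf 27124061)))
 (.node (.node (.leaf 4407335)
 (.leaf 22929927))
 (.node (.leaf 9805869)
 (.leaf 0))))
 (.node (.node (.node (.leaf 4055056)
 (.leaf 20833234))
 (.node (.leaf 7888912)
 (.leaf 27632135)))
 (.node (.node (.leaf 8249346)
 (.leaf 25028036))
 (.node (.leaf 11452419)
 (.leaf 0)))))))))

/-- Part 1 of `par`. -/
def par1 : Tbl :=
 (.node (.node (.node (.node (.node (.node (.node (.node (.leaf 0)
 (.leaf 1548328))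
 (.node (.leaf 8388649)
 (.leaf 23348676)))
 (.node (.node (.leaf 4194332)
 (.leaf 20915649))
 (.node (.leaf 7323649)
 (.leaf 737282))))
 (.node (.node (.node (.leaf 2097180)
 (.leaf 18874886))
 (.node (.leaf 4800528)
 (.leaf 23225796)))
 (.node (.node (.leaf 6291495)
 (.leaf 22896989))
 (.node (.leaf 13336605)
 (.leaf 0)))))
 (.node (.node (.node (.node (.leaf 1048604)
 (.leaf 2564098))
 (.node (.leaf 9437213)
 (.leaf 25715037)))
 (.node (.node (.leaf 5242908)
 (.leaf 6086672))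
 (.node (.leaf 5914663)
 (.leaf 0))))
 (.node (.node (.node (.leaf 3145756)
 (.leaf 19923430))
 (.node (.leaf 9519143)
 (.leaf 28313028)))
 (.node (.node (.leaf 1458215)
 (.leaf 24118724))
 (.node (.leaf 729130)
 (.leaf 0))))))
 (.node (.node (.node (.node (.node (.leaf 229404)
 (.leaf 12910609))
 (.node (.leaf 6496284)
 (.leaf 23126365)))
 (.node (.node (.leaf 4718620)
 (.leaf 21496442))
 (.node (.leaf 13107244)
 (.leaf 0))))
 (.node (.node (.node (.leaf 499740)
 (.leaf 19399142))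
 (.node (.leaf 11010076)
 (.leaf 27787783)))
 (.node (.node (.leaf 3711015)
 (.leaf 23594436))
 (.node (.leaf 15204354)
 (.leaf 0)))))
 (.node (.node (.node (.node (.leaf 868368)
 (.leaf 18317467))
 (.node (.leaf 1777692)
 (.leaf 26739207)))
 (.node (.node (.leaf 5767207)
 (.leaf 22513092))
 (.node (.leaf 11542571)
 (.leaf 0))))
 (.node (.node (.node (.leaf 3670046)
 (.leaf 20447750))
 (.node (.leaf 1064961)
 (.leaf 23609693)))
 (.node (.node (.leaf 827431)
 (.leaf 23168452))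
 (.node (.leaf 2260993)
 (.leaf 0)))))))
 (.node (.node (.node (.node (.node (.node (.leaf 262147)
 (.leaf 12419115))
 (.node (.leaf 8044546)
 (.leaf 25428317)))
 (.node (.node (.leaf 4456464)
 (.leaf 21235137))
 (.node (.leaf 12845072)
 (.leaf 0))))
 (.node (.node (.node (.leaf 2359341)
 (.leaf 19137030))
 (.node (.leaf 10747945)
 (.leaf 27526596)))
 (.node (.node (.leaf 6553639)
 (.leaf 23331165))
 (.node (.leaf 1630236)
 (.leaf 0)))))
 (.node (.node (.node (.node (.leaf 1310736)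
 (.leaf 5070877))
 (.node (.leaf 9699367)
 (.leaf 25265604)))
 (.node (.node (.leaf 5505054)
 (.leaf 15597596))
 (.node (.leaf 12656641)
 (.leaf 0))))
 (.node (.node (.node (.leaf 3407900)
 (.leaf 20185606))
 (.node (.leaf 9232412)
 (.leaf 28575172)))
 (.node (.node (.leaf 7413777)
 (.leaf 24380868))
 (.node (.leaf 15990829)
 (.leaf 0))))))
 (.node (.node (.node (.node (.node (.leaf 786448)
 (.leaf 14409744))
 (.node (.leaf 2613250)
 (.leaf 23363933)))
 (.node (.node (.leaf 3350556)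
 (.leaf 21759425))
 (.node (.leaf 13369373)
 (.leaf 0))))
 (.node (.node (.node (.leaf 2883629)
 (.leaf 19661286))
 (.node (.leaf 11272208)
 (.leaf 25575773)))
 (.node (.node (.leaf 5685287)
 (.leaf 23856580))
 (.node (.leaf 4022314)
 (.leaf 0)))))
 (.node (.node (.node (.node (.leaf 1835047)
 (.leaf 18614382))
 (.node (.leaf 10223617)
 (.leaf 27002308)))
 (.node (.node (.leaf 2080807)
 (.leaf 22808004))
 (.node (.leaf 5546026)
 (.leaf 0))))
 (.node (.node (.node (.leaf 3063850)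
 (.leaf 5194362))
 (.node (.leaf 12320813)
 (.leaf 28181956)))
 (.node (.node (.leaf 8126505)
 (.leaf 24904199))
 (.node (.leaf 16515074)
 (.leaf 0))))))))
 (.node (.node (.node (.node (.node (.node (.node (.leaf 16387)
 (.leaf 6094849))
 (.node (.leaf 8519708)
 (.leaf 25297415)))
 (.node (.node (.leaf 4325392)
 (.leaf 21103570))
 (.node (.leaf 2310147)
 (.leaf 0))))
 (.node (.node (.node (.leaf 2228270)
 (.leaf 18817510))
 (.node (.leaf 2523181)
 (.leaf 22947268)))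
 (.node (.node (.leaf 6422556)
 (.leaf 23201220))
 (.node (.leaf 426028)
 (.leaf 0)))))
 (.node (.node (.node (.node (.leaf 1179664)
 (.leaf 15876141))
 (.node (.leaf 9568284)
 (.leaf 26345991)))
 (.node (.node (.leaf 4472848)
 (.leaf 22151196))
 (.node (.leaf 1835024)
 (.leaf 0))))
 (.node (.node (.node (.leaf 3276839)
 (.leaf 20054502))
 (.node (.leaf 2146332)
 (.leaf 24232285)))
 (.node (.node (.leaf 7471120)
 (.leaf 24249796))
 (.node (.leaf 2588717)
 (.leaf 0))))))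
 (.node (.node (.node (.node (.node (.leaf 655399)
 (.leaf 7020586))
 (.node (.leaf 9044012)
 (.leaf 25821703)))
 (.node (.node (.leaf 4849709)
 (.leaf 21627514))
 (.node (.leaf 13238300)
 (.leaf 0))))
 (.node (.node (.node (.leaf 2752528)
 (.leaf 19407366))
 (.node (.leaf 11141159)
 (.leaf 27919812)))
 (.node (.node (.leaf 1744938)
 (.leaf 23724381))
 (.node (.leaf 4915201)
 (.leaf 0)))))
 (.node (.node (.node (.node (.leaf 1703975)
 (.leaf 18481609))
 (.node (.leaf 5324839)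
 (.leaf 26871236)))
 (.node (.node (.leaf 5898284)
 (.leaf 22675975))
 (.node (.leaf 9125889)
 (.leaf 0))))
 (.node (.node (.node (.leaf 3801116)
 (.leaf 20578822))
 (.node (.leaf 12189699)
 (.leaf 28967431)))
 (.node (.node (.leaf 6266919)
 (.leaf 22479367))
 (.node (.leaf 13590572)
 (.leaf 0)))))))
 (.node (.node (.node (.node (.node (.node (.leaf 393255)
 (.leaf 9412653))
 (.node (.leaf 8781869)
 (.leaf 24322397)))
 (.node (.node (.leaf 4587549)
 (.leaf 21365370))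
 (.node (.leaf 2293761)
 (.leaf 0))))
 (.node (.node (.node (.leaf 1695783)
 (.leaf 19268102))
 (.node (.leaf 10878992)
 (.leaf 24724932)))
 (.node (.node (.leaf 6488080)
 (.leaf 23463364))
 (.node (.leaf 4276252)
 (.leaf 0)))))
 (.node (.node (.node (.node (.leaf 450599)
 (.leaf 8577069))
 (.node (.leaf 4988967)
 (.leaf 26609092)))
 (.node (.node (.leaf 5636135)
 (.leaf 11329552))
 (.node (.leaf 7217194)
 (.leaf 0))))
 (.node (.node (.node (.leaf 3538972)
 (.leaf 19145222))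
 (.node (.leaf 7807015)
 (.leaf 28706244)))
 (.node (.node (.leaf 7733287)
 (.leaf 24510813))
 (.node (.leaf 16121885)
 (.leaf 0))))))
 (.node (.node (.node (.node (.node (.leaf 917532)
 (.leaf 17694736))
 (.node (.leaf 9306140)
 (.leaf 26083677)))
 (.node (.node (.leaf 5111852)
 (.leaf 21890002))
 (.node (.leaf 2580508)
 (.leaf 0))))
 (.node (.node (.node (.leaf 3014695)
 (.leaf 19792358))
 (.node (.leaf 11403267)
 (.leaf 28180829)))
 (.node (.node (.leaf 7208999)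
 (.leaf 23986525))
 (.node (.leaf 9797660)
 (.leaf 0)))))
 (.node (.node (.node (.node (.leaf 1966122)
 (.leaf 18745454))
 (.node (.leaf 2498603)
 (.leaf 27132423)))
 (.node (.node (.leaf 1056784)
 (.leaf 22471005))
 (.node (.leaf 7094273)
 (.leaf 0))))
 (.node (.node (.node (.leaf 4063248)
 (.leaf 20841921))
 (.node (.leaf 6627373)
 (.leaf 29230532)))
 (.node (.node (.leaf 8101927)
 (.leaf 25035271))
 (.node (.leaf 3874855)
 (.leaf 0)))))))))

/-- Part 2 of `par`. -/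
def par2 : Tbl :=
 (.node (.node (.node (.node (.node (.node (.node (.node (.leaf 0)
 (.leaf 14221329))
 (.node (.leaf 5201948)
 (.leaf 25175492)))
 (.node (.node (.leaf 4202524)
 (.leaf 20981185))
 (.node (.leaf 2514983)
 (.leaf 6348842))))
 (.node (.node (.node (.leaf 2105373)
 (.leaf 18883078))
 (.node (.leaf 10493980)
 (.leaf 25994692)))
 (.node (.node (.leaf 6299650)
 (.leaf 23077383))
 (.node (.leaf 2138141)
 (.leaf 0)))))
 (.node (.node (.node (.node (.leaf 1056807)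
 (.leaf 4784170))
 (.node (.leaf 6004778)
 (.leaf 26224068)))
 (.node (.node (.leaf 5251111)
 (.leaf 5292060))
 (.node (.leaf 8585232)
 (.leaf 0))))
 (.node (.node (.node (.leaf 3153921)
 (.leaf 19931622))
 (.node (.leaf 11542567)
 (.leaf 27206151)))
 (.node (.node (.leaf 7348252)
 (.leaf 23167495))
 (.node (.leaf 13967389)
 (.leaf 0))))))
 (.node (.node (.node (.node (.node (.leaf 532508)
 (.leaf 14147600))
 (.node (.leaf 2523164)
 (.leaf 25698823)))
 (.node (.node (.leaf 2744348)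
 (.leaf 21242490))
 (.node (.leaf 7651356)
 (.leaf 0))))
 (.node (.node (.node (.leaf 2629648)
 (.leaf 19407220))
 (.node (.leaf 2875431)
 (.leaf 27796932)))
 (.node (.node (.leaf 6823982)
 (.leaf 23601671))
 (.node (.leaf 10297383)
 (.leaf 0)))))
 (.node (.node (.node (.node (.leaf 1581084)
 (.leaf 18358729))
 (.node (.leaf 9969692)
 (.leaf 23037380)))
 (.node (.node (.leaf 2973735)
 (.leaf 22554052))
 (.node (.leaf 2924572)
 (.leaf 0))))
 (.node (.node (.node (.leaf 548903)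
 (.leaf 20382214))
 (.node (.leaf 1531943)
 (.leaf 23315908)))
 (.node (.node (.leaf 7872541)
 (.leaf 24650247))
 (.node (.leaf 15073296)
 (.leaf 0)))))))
 (.node (.node (.node (.node (.node (.node (.leaf 270337)
 (.leaf 9068583))
 (.node (.leaf 2351105)
 (.leaf 23273821)))
 (.node (.node (.leaf 565276)
 (.leaf 21242834))
 (.node (.leaf 6783004)
 (.leaf 0))))
 (.node (.node (.node (.leaf 2195484)
 (.leaf 19145190))
 (.node (.leaf 9068589)
 (.leaf 23675399)))
 (.node (.node (.leaf 6561808)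
 (.leaf 23160260))
 (.node (.leaf 3924013)
 (.leaf 0)))))
 (.node (.node (.node (.node (.leaf 1318956)
 (.leaf 9519105))
 (.node (.leaf 3547152)
 (.leaf 25944583)))
 (.node (.node (.leaf 2727975)
 (.leaf 5914640))
 (.node (.leaf 663554)
 (.leaf 0))))
 (.node (.node (.node (.leaf 3416080)
 (.leaf 20193798))
 (.node (.leaf 11804689)
 (.leaf 24577476)))
 (.node (.node (.leaf 6348839)
 (.leaf 24388103))
 (.node (.leaf 8364034)
 (.leaf 0))))))
 (.node (.node (.node (.node (.node (.leaf 794663)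
 (.leaf 9945105))
 (.node (.leaf 6471722)
 (.leaf 25961924)))
 (.node (.node (.leaf 2498576)
 (.leaf 21046721))
 (.node (.leaf 8126492)
 (.leaf 0))))
 (.node (.node (.node (.leaf 753680)
 (.leaf 19669478))
 (.node (.leaf 11280413)
 (.leaf 28058119)))
 (.node (.node (.leaf 7086119)
 (.leaf 23011677))
 (.node (.leaf 9486375)
 (.leaf 0)))))
 (.node (.node (.node (.node (.leaf 1843245)
 (.leaf 18581614))
 (.node (.leaf 8142850)
 (.leaf 27009373)))
 (.node (.node (.leaf 6037505)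
 (.leaf 22815239))
 (.node (.leaf 2285611)
 (.leaf 0))))
 (.node (.node (.node (.leaf 1040400)
 (.leaf 20719041))
 (.node (.leaf 10281001)
 (.leaf 29106695)))
 (.node (.node (.leaf 4685852)
 (.leaf 24913348))
 (.node (.leaf 4186128)
 (.leaf 0))))))))
 (.node (.node (.node (.node (.node (.node (.node (.leaf 139266)
 (.leaf 13492266))
 (.node (.leaf 2072605)
 (.leaf 25305607)))
 (.node (.node (.leaf 4333610)
 (.leaf 20767698))
 (.node (.leaf 12615696)
 (.leaf 0))))
 (.node (.node (.node (.leaf 1089552)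
 (.leaf 19014150))
 (.node (.leaf 5046288)
 (.leaf 27403716)))
 (.node (.node (.leaf 6430759)
 (.leaf 23208455))
 (.node (.leaf 8519721)
 (.leaf 0)))))
 (.node (.node (.node (.node (.leaf 1187868)
 (.leaf 16252956))
 (.node (.leaf 7307280)
 (.leaf 26355140)))
 (.node (.node (.leaf 3801117)
 (.leaf 8929308))
 (.node (.leaf 5292048)
 (.leaf 0))))
 (.node (.node (.node (.leaf 3285008)
 (.leaf 20062726))
 (.node (.leaf 3383312)
 (.leaf 28451165)))
 (.node (.node (.leaf 1253392)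
 (.leaf 22553095))
 (.node (.leaf 4489255)
 (.leaf 0))))))
 (.node (.node (.node (.node (.node (.leaf 663580)
 (.leaf 1933354))
 (.node (.leaf 1105959)
 (.leaf 25829725)))
 (.node (.node (.leaf 4759580)
 (.leaf 21636050))
 (.node (.leaf 4104231)
 (.leaf 0))))
 (.node (.node (.node (.leaf 2760705)
 (.leaf 19538292))
 (.node (.leaf 11149313)
 (.leaf 27927047)))
 (.node (.node (.leaf 2531367)
 (.leaf 22626653))
 (.node (.leaf 15155240)
 (.leaf 0)))))
 (.node (.node (.node (.node (.leaf 1712144)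
 (.leaf 18448841))
 (.node (.leaf 6602768)
 (.leaf 26673671)))
 (.node (.node (.leaf 5595164)
 (.leaf 22685124))
 (.node (.leaf 6520860)
 (.leaf 0))))
 (.node (.node (.node (.leaf 3809296)
 (.leaf 20251110))
 (.node (.leaf 606237)
 (.leaf 27091463)))
 (.node (.node (.leaf 8003585)
 (.leaf 24781149))
 (.node (.leaf 1835050)
 (.leaf 0)))))))
 (.node (.node (.node (.node (.node (.node (.leaf 401447)
 (.leaf 13205544))
 (.node (.leaf 2211879)
 (.leaf 23290205)))
 (.node (.node (.leaf 2048016)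
 (.leaf 21374401))
 (.node (.leaf 10469418)
 (.leaf 0))))
 (.node (.node (.node (.leaf 2498588)
 (.leaf 19276294))
 (.node (.leaf 9527297)
 (.leaf 23405063)))
 (.node (.node (.leaf 6692880)
 (.leaf 23249415))
 (.node (.leaf 15081473)
 (.leaf 0)))))
 (.node (.node (.node (.node (.leaf 1450023)
 (.leaf 6725634))
 (.node (.leaf 9838593)
 (.leaf 26133956)))
 (.node (.node (.leaf 5644327)
 (.leaf 4046864))
 (.node (.leaf 10190893)
 (.leaf 0))))
 (.node (.node (.node (.leaf 3547175)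
 (.leaf 20324838))
 (.node (.leaf 11935745)
 (.leaf 27854276)))
 (.node (.node (.leaf 7741456)
 (.leaf 23798109))
 (.node (.leaf 9912336)
 (.leaf 0))))))
 (.node (.node (.node (.node (.node (.leaf 925738)
 (.leaf 1777705))
 (.node (.leaf 9314320)
 (.leaf 24946116)))
 (.node (.node (.leaf 1982503)
 (.leaf 20989377))
 (.node (.leaf 1032234)
 (.leaf 0))))
 (.node (.node (.node (.leaf 3022864)
 (.leaf 19800436))
 (.node (.leaf 6692909)
 (.leaf 28180999)))
 (.node (.node (.leaf 827420)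
 (.leaf 22577501))
 (.node (.leaf 15605763)
 (.leaf 0)))))
 (.node (.node (.node (.node (.leaf 1458192)
 (.leaf 6342766))
 (.node (.leaf 9060380)
 (.leaf 26501469)))
 (.node (.node (.leaf 6168592)
 (.leaf 22880605))
 (.node (.leaf 1695788)
 (.leaf 0))))
 (.node (.node (.node (.leaf 4071470)
 (.leaf 20849274))
 (.node (.leaf 8445997)
 (.leaf 29237767)))
 (.node (.node (.leaf 8265757)
 (.leaf 24953351))
 (.node (.leaf 12656670)
 (.leaf 0)))))))))

/-- Part 3 of `par`. -/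
def par3 : Tbl :=
 (.node (.node (.node (.node (.node (.node (.node (.node (.leaf 0)
 (.leaf 16597020))
 (.node (.leaf 7421980)
 (.leaf 23045572)))
 (.node (.node (.leaf 1679399)
 (.leaf 20988882))
 (.node (.leaf 4538384)
 (.leaf 22429725))))
 (.node (.node (.node (.leaf 466989)
 (.leaf 18891238))
 (.node (.leaf 4702209)
 (.leaf 27280836)))
 (.node (.node (.leaf 3964967)
 (.leaf 23085405))
 (.node (.leaf 7757863)
 (.leaf 0)))))
 (.node (.node (.node (.node (.leaf 1064999)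
 (.leaf 11067421))
 (.node (.leaf 7684112)
 (.leaf 26231303)))
 (.node (.node (.leaf 5259293)
 (.leaf 3473447))
 (.node (.leaf 13647901)
 (.leaf 0))))
 (.node (.node (.node (.leaf 3121191)
 (.leaf 19939846))
 (.node (.leaf 3137564)
 (.leaf 28329412)))
 (.node (.node (.leaf 5603356)
 (.leaf 24135108))
 (.node (.leaf 8093735)
 (.leaf 0))))))
 (.node (.node (.node (.node (.node (.leaf 540711)
 (.leaf 17317891))
 (.node (.leaf 8929326)
 (.leaf 25485831)))
 (.node (.node (.leaf 1933341)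
 (.leaf 21513665))
 (.node (.leaf 3989532)
 (.leaf 0))))
 (.node (.node (.node (.leaf 2637840)
 (.leaf 19415558))
 (.node (.leaf 11026460)
 (.leaf 27803997)))
 (.node (.node (.leaf 3874844)
 (.leaf 23610820))
 (.node (.leaf 15220775)
 (.leaf 0)))))
 (.node (.node (.node (.node (.leaf 1589264)
 (.leaf 16680546))
 (.node (.leaf 7643138)
 (.leaf 26723780)))
 (.node (.node (.leaf 999463)
 (.leaf 22561287))
 (.node (.leaf 9134108)
 (.leaf 0))))
 (.node (.node (.node (.leaf 3686428)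
 (.leaf 20464134))
 (.node (.leaf 12075024)
 (.leaf 22488516)))
 (.node (.node (.leaf 2605095)
 (.leaf 24659396))
 (.node (.leaf 16269340)
 (.leaf 0)))))))
 (.node (.node (.node (.node (.node (.node (.leaf 278530)
 (.leaf 17055789))
 (.node (.leaf 2531344)
 (.leaf 25445828)))
 (.node (.node (.leaf 4472871)
 (.leaf 21251026))
 (.node (.leaf 4169744)
 (.leaf 0))))
 (.node (.node (.node (.leaf 2375719)
 (.leaf 19153414))
 (.node (.leaf 4235303)
 (.leaf 27542980)))
 (.node (.node (.leaf 6570030)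
 (.leaf 23347549))
 (.node (.leaf 7421991)
 (.leaf 0)))))
 (.node (.node (.node (.node (.leaf 737319)
 (.leaf 11821101))
 (.node (.leaf 9715728)
 (.leaf 26494404)))
 (.node (.node (.leaf 5521436)
 (.leaf 14925852))
 (.node (.leaf 12550183)
 (.leaf 0))))
 (.node (.node (.node (.leaf 3424301)
 (.leaf 19128838))
 (.node (.leaf 9469991)
 (.leaf 28591556)))
 (.node (.node (.leaf 7618562)
 (.leaf 24396295))
 (.node (.leaf 3809308)
 (.leaf 0))))))
 (.node (.node (.node (.node (.node (.leaf 442407)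
 (.leaf 9723949))
 (.node (.leaf 8413200)
 (.leaf 25968989)))
 (.node (.node (.leaf 4997159)
 (.leaf 21775809))
 (.node (.leaf 13385757)
 (.leaf 0))))
 (.node (.node (.node (.leaf 2899996)
 (.leaf 19677556))
 (.node (.leaf 9855004)
 (.leaf 28067268)))
 (.node (.node (.leaf 7094300)
 (.leaf 23872007))
 (.node (.leaf 15482908)
 (.leaf 0)))))
 (.node (.node (.node (.node (.leaf 1392668)
 (.leaf 18589806))
 (.node (.leaf 7618577)
 (.leaf 23781895)))
 (.node (.node (.leaf 2383874)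
 (.leaf 22824388))
 (.node (.leaf 10862621)
 (.leaf 0))))
 (.node (.node (.node (.leaf 3948583)
 (.leaf 20726394))
 (.node (.leaf 1302567)
 (.leaf 25502045)))
 (.node (.node (.leaf 8142876)
 (.leaf 22618461))
 (.node (.leaf 1925165)
 (.leaf 0))))))))
 (.node (.node (.node (.node (.node (.node (.node (.leaf 147457)
 (.leaf 10436636))
 (.node (.leaf 8118311)
 (.leaf 24822279)))
 (.node (.node (.leaf 2998288)
 (.leaf 12067450))
 (.node (.leaf 12730410)
 (.leaf 0))))
 (.node (.node (.node (.leaf 2244647)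
 (.leaf 19022310))
 (.node (.leaf 10633217)
 (.leaf 27410951)))
 (.node (.node (.leaf 6438914)
 (.leaf 23217604))
 (.node (.leaf 4489261)
 (.leaf 0)))))
 (.node (.node (.node (.node (.leaf 1196033)
 (.leaf 17973250))
 (.node (.leaf 9584679)
 (.leaf 25010695)))
 (.node (.node (.leaf 3276817)
 (.leaf 22167580))
 (.node (.leaf 13778945)
 (.leaf 0))))
 (.node (.node (.node (.leaf 3293187)
 (.leaf 20070918))
 (.node (.leaf 6062108)
 (.leaf 28139869)))
 (.node (.node (.leaf 7487527)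
 (.leaf 24266180))
 (.node (.leaf 15876138)
 (.leaf 0))))))
 (.node (.node (.node (.node (.node (.leaf 630812)
 (.leaf 12599335))
 (.node (.leaf 1925159)
 (.leaf 25839044)))
 (.node (.node (.leaf 4866076)
 (.leaf 8012754))
 (.node (.leaf 13254684)
 (.leaf 0))))
 (.node (.node (.node (.leaf 1490983)
 (.leaf 19546598))
 (.node (.leaf 8306704)
 (.leaf 24487364)))
 (.node (.node (.leaf 6963242)
 (.leaf 23740765))
 (.node (.leaf 1007655)
 (.leaf 0)))))
 (.node (.node (.node (.node (.leaf 1720348)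
 (.leaf 18268315))
 (.node (.leaf 6430749)
 (.leaf 26887620)))
 (.node (.node (.leaf 5914652)
 (.leaf 22693316))
 (.node (.leaf 14303276)
 (.leaf 0))))
 (.node (.node (.node (.leaf 3817511)
 (.leaf 20595060))
 (.node (.leaf 2310145)
 (.leaf 28983645)))
 (.node (.node (.leaf 2850855)
 (.leaf 24790468))
 (.node (.leaf 13951021)
 (.leaf 0)))))))
 (.node (.node (.node (.node (.node (.node (.leaf 409639)
 (.leaf 6004776))
 (.node (.leaf 3760144)
 (.leaf 25576900)))
 (.node (.node (.leaf 409616)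
 (.leaf 20718202))
 (.node (.leaf 5226524)
 (.leaf 0))))
 (.node (.node (.node (.leaf 2506780)
 (.leaf 19284340))
 (.node (.leaf 6004737)
 (.leaf 27673095)))
 (.node (.node (.leaf 6701084)
 (.leaf 23478621))
 (.node (.leaf 3686402)
 (.leaf 0)))))
 (.node (.node (.node (.node (.leaf 1458204)
 (.leaf 835601))
 (.node (.leaf 1794087)
 (.leaf 26256836)))
 (.node (.node (.leaf 5652525)
 (.leaf 401424))
 (.node (.leaf 2727978)
 (.leaf 0))))
 (.node (.node (.node (.leaf 3555373)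
 (.leaf 20333030))
 (.node (.leaf 1179687)
 (.leaf 25789892)))
 (.node (.node (.leaf 4767760)
 (.leaf 24527367))
 (.node (.leaf 16138268)
 (.leaf 0))))))
 (.node (.node (.node (.node (.node (.leaf 319504)
 (.leaf 15015975))
 (.node (.leaf 6242305)
 (.leaf 26034695)))
 (.node (.node (.leaf 5128193)
 (.leaf 21906881))
 (.node (.leaf 4014122)
 (.leaf 0))))
 (.node (.node (.node (.leaf 3031056)
 (.leaf 19808774))
 (.node (.leaf 1064976)
 (.leaf 28197383)))
 (.node (.node (.leaf 7225360)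
 (.leaf 23175517))
 (.node (.leaf 5783568)
 (.leaf 0)))))
 (.node (.node (.node (.node (.leaf 868380)
 (.leaf 3047910))
 (.node (.leaf 5275693)
 (.leaf 27149764)))
 (.node (.node (.leaf 6176797)
 (.leaf 12091911))
 (.node (.leaf 8560679)
 (.leaf 0))))
 (.node (.node (.node (.leaf 2457628)
 (.leaf 20857810))
 (.node (.leaf 10469415)
 (.leaf 28811613)))
 (.node (.node (.leaf 7520259)
 (.leaf 25051485))
 (.node (.leaf 5038096)
 (.leaf 0)))))))))

/-- Part 4 of `par`. -/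
def par4 : Tbl :=
 (.node (.node (.node (.node (.node (.node (.node (.node (.leaf 24578)
 (.leaf 16801820))
 (.node (.leaf 5873693)
 (.leaf 25190919)))
 (.node (.node (.leaf 4218909)
 (.leaf 20996730))
 (.node (.leaf 1982492)
 (.leaf 7798829))))
 (.node (.node (.node (.leaf 1703964)
 (.leaf 18899462))
 (.node (.leaf 10076199)
 (.leaf 24675780)))
 (.node (.node (.leaf 6316060)
 (.leaf 23094724))
 (.node (.leaf 14704668)
 (.leaf 0)))))
 (.node (.node (.node (.node (.leaf 1073181)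
 (.leaf 1482754))
 (.node (.leaf 3956764)
 (.leaf 23667207)))
 (.node (.node (.leaf 3153948)
 (.leaf 4284455))
 (.node (.leaf 3186717)
 (.leaf 0))))
 (.node (.node (.node (.leaf 3170343)
 (.leaf 19948006))
 (.node (.leaf 11558928)
 (.leaf 28336477)))
 (.node (.node (.leaf 7364653)
 (.leaf 24142343))
 (.node (.leaf 15753232)
 (.leaf 0))))))
 (.node (.node (.node (.node (.node (.leaf 548893)
 (.leaf 4759591))
 (.node (.leaf 737322)
 (.leaf 25715207)))
 (.node (.node (.leaf 639004)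
 (.leaf 21521018))
 (.node (.leaf 13131804)
 (.leaf 0))))
 (.node (.node (.node (.leaf 2646061)
 (.leaf 19423718))
 (.node (.leaf 11034626)
 (.leaf 22660548)))
 (.node (.node (.leaf 6840365)
 (.leaf 22487559))
 (.node (.leaf 15228973)
 (.leaf 0)))))
 (.node (.node (.node (.node (.leaf 1597468)
 (.leaf 18374811))
 (.node (.leaf 1368080)
 (.leaf 26763613)))
 (.node (.node (.leaf 5791772)
 (.leaf 22569309))
 (.node (.leaf 1368109)
 (.leaf 0))))
 (.node (.node (.node (.leaf 3694593)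
 (.leaf 18973158))
 (.node (.leaf 9322538)
 (.leaf 28861892)))
 (.node (.node (.leaf 7888924)
 (.leaf 24363527))
 (.node (.leaf 8585245)
 (.leaf 0)))))))
 (.node (.node (.node (.node (.node (.node (.leaf 286721)
 (.leaf 1720337))
 (.node (.leaf 8675368)
 (.leaf 25452893)))
 (.node (.node (.leaf 4481063)
 (.leaf 21259713))
 (.node (.leaf 12869660)
 (.leaf 0))))
 (.node (.node (.node (.leaf 2383889)
 (.leaf 19161574))
 (.node (.leaf 10772508)
 (.leaf 27550045)))
 (.node (.node (.leaf 5529628)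
 (.leaf 23355911))
 (.node (.leaf 14966785)
 (.leaf 0)))))
 (.node (.node (.node (.node (.leaf 1335312)
 (.leaf 4735021))
 (.node (.leaf 9723943)
 (.leaf 26501639)))
 (.node (.node (.leaf 5529603)
 (.leaf 17571868))
 (.node (.leaf 1933351)
 (.leaf 0))))
 (.node (.node (.node (.leaf 2449436)
 (.leaf 20210150))
 (.node (.leaf 11821095)
 (.leaf 28598791)))
 (.node (.node (.leaf 7454722)
 (.leaf 24405444))
 (.node (.leaf 10879015)
 (.leaf 0))))))
 (.node (.node (.node (.node (.node (.leaf 811047)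
 (.leaf 2023469))
 (.node (.leaf 9199644)
 (.leaf 25977351)))
 (.node (.node (.leaf 5005328)
 (.leaf 21783162))
 (.node (.leaf 1318941)
 (.leaf 0))))
 (.node (.node (.node (.leaf 2908202)
 (.leaf 19226996))
 (.node (.leaf 11296810)
 (.leaf 25755997)))
 (.node (.node (.leaf 7102509)
 (.leaf 23880199))
 (.node (.leaf 5554205)
 (.leaf 0)))))
 (.node (.node (.node (.node (.leaf 1859623)
 (.leaf 7061732))
 (.node (.leaf 9011242)
 (.leaf 24077764)))
 (.node (.node (.leaf 2703388)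
 (.leaf 22831453))
 (.node (.leaf 10879005)
 (.leaf 0))))
 (.node (.node (.node (.leaf 3956752)
 (.leaf 20734930))
 (.node (.leaf 12345360)
 (.leaf 24658269)))
 (.node (.node (.leaf 8151079)
 (.leaf 24928605))
 (.node (.leaf 6217744)
 (.leaf 0))))))))
 (.node (.node (.node (.node (.node (.node (.node (.leaf 155651)
 (.leaf 16932880))
 (.node (.leaf 8544258)
 (.leaf 25321821)))
 (.node (.node (.leaf 4349968)
 (.leaf 21128146))
 (.node (.leaf 11509762)
 (.leaf 0))))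
 (.node (.node (.node (.leaf 2252816)
 (.leaf 19030502))
 (.node (.leaf 10223655)
 (.leaf 27418973)))
 (.node (.node (.leaf 2703404)
 (.leaf 23224839))
 (.node (.leaf 10649602)
 (.leaf 0)))))
 (.node (.node (.node (.node (.leaf 466986)
 (.leaf 10772482))
 (.node (.leaf 3260432)
 (.leaf 26370397)))
 (.node (.node (.leaf 2056208)
 (.leaf 3555344))
 (.node (.leaf 13344784)
 (.leaf 0))))
 (.node (.node (.node (.leaf 1146897)
 (.leaf 20079110))
 (.node (.leaf 11689985)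
 (.leaf 28467719)))
 (.node (.node (.leaf 7495719)
 (.leaf 24273245))
 (.node (.leaf 7233552)
 (.leaf 0))))))
 (.node (.node (.node (.node (.node (.leaf 679952)
 (.leaf 8724519))
 (.node (.leaf 9068587)
 (.leaf 25846279)))
 (.node (.node (.leaf 565287)
 (.leaf 21652929))
 (.node (.leaf 13262849)
 (.leaf 0))))
 (.node (.node (.node (.leaf 2777089)
 (.leaf 4243828))
 (.node (.leaf 11165698)
 (.leaf 27943431)))
 (.node (.node (.leaf 1417232)
 (.leaf 22774279))
 (.node (.leaf 15360017)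
 (.leaf 0)))))
 (.node (.node (.node (.node (.leaf 1728551)
 (.leaf 18506185))
 (.node (.leaf 2457617)
 (.leaf 26894685)))
 (.node (.node (.leaf 499751)
 (.leaf 22700551))
 (.node (.leaf 7209005)
 (.leaf 0))))
 (.node (.node (.node (.leaf 3825665)
 (.leaf 18776436))
 (.node (.leaf 7594000)
 (.leaf 28647773)))
 (.node (.node (.leaf 8019984)
 (.leaf 24797703))
 (.node (.leaf 8044560)
 (.leaf 0)))))))
 (.node (.node (.node (.node (.node (.node (.leaf 417808)
 (.leaf 1613826))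
 (.node (.leaf 8806444)
 (.leaf 25585092)))
 (.node (.node (.leaf 4612124)
 (.leaf 21390785))
 (.node (.leaf 10084391)
 (.leaf 0))))
 (.node (.node (.node (.leaf 950311)
 (.leaf 19292678))
 (.node (.leaf 10731548)
 (.leaf 27681117)))
 (.node (.node (.leaf 4055079)
 (.leaf 23487940))
 (.node (.leaf 1957928)
 (.leaf 0)))))
 (.node (.node (.node (.node (.leaf 1466407)
 (.leaf 14131245))
 (.node (.leaf 9854977)
 (.leaf 26632711)))
 (.node (.node (.leaf 540716)
 (.leaf 22437904))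
 (.node (.leaf 1499175)
 (.leaf 0))))
 (.node (.node (.node (.leaf 606224)
 (.leaf 19505524))
 (.node (.leaf 11952129)
 (.leaf 24461831)))
 (.node (.node (.leaf 7757826)
 (.leaf 24535559))
 (.node (.leaf 16146474)
 (.leaf 0))))))
 (.node (.node (.node (.node (.node (.leaf 942108)
 (.leaf 9895979))
 (.node (.leaf 7864365)
 (.leaf 26108423)))
 (.node (.node (.leaf 1064962)
 (.leaf 21914234))
 (.node (.leaf 4366366)
 (.leaf 0))))
 (.node (.node (.node (.leaf 3039274)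
 (.leaf 19816934))
 (.node (.leaf 11427885)
 (.leaf 24527197)))
 (.node (.node (.leaf 5406759)
 (.leaf 22741341))
 (.node (.leaf 15622186)
 (.leaf 0)))))
 (.node (.node (.node (.node (.leaf 1990695)
 (.leaf 18768390))
 (.node (.leaf 1466369)
 (.leaf 27083101)))
 (.node (.node (.leaf 1671196)
 (.leaf 22963652))
 (.node (.leaf 4931623)
 (.leaf 0))))
 (.node (.node (.node (.leaf 4087853)
 (.leaf 20866002))
 (.node (.leaf 3113005)
 (.leaf 28189191)))
 (.node (.node (.leaf 5316624)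
 (.leaf 25059677))
 (.node (.leaf 11935783)
 (.leaf 0)))))))))

/-- Part 5 of `par`. -/
def par5 : Tbl :=
 (.node (.node (.node (.node (.node (.node (.node (.node (.leaf 32771)
 (.leaf 16810026))
 (.node (.leaf 4677677)
 (.leaf 24281437)))
 (.node (.node (.leaf 3465232)
 (.leaf 21005266))
 (.node (.leaf 12615682)
 (.leaf 0))))
 (.node (.node (.node (.leaf 2129948)
 (.leaf 18907622))
 (.node (.leaf 8069148)
 (.leaf 26730845)))
 (.node (.node (.leaf 3653648)
 (.leaf 23101789))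
 (.node (.leaf 8601639)
 (.leaf 0)))))
 (.node (.node (.node (.node (.leaf 598032)
 (.leaf 7274524))
 (.node (.leaf 9469980)
 (.leaf 22980036)))
 (.node (.node (.leaf 5275688)
 (.leaf 6340636))
 (.node (.leaf 9273389)
 (.leaf 0))))
 (.node (.node (.node (.leaf 3178512)
 (.leaf 19956230))
 (.node (.leaf 11567105)
 (.leaf 28344839)))
 (.node (.node (.leaf 4767772)
 (.leaf 24151492))
 (.node (.leaf 15761437)
 (.leaf 0))))))
 (.node (.node (.node (.node (.node (.leaf 483356)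
 (.leaf 17334288))
 (.node (.leaf 1253404)
 (.leaf 23479748)))
 (.node (.node (.leaf 4751376)
 (.leaf 12067794))
 (.node (.leaf 10805277)
 (.leaf 0))))
 (.node (.node (.node (.leaf 2424871)
 (.leaf 19382644))
 (.node (.leaf 7577642)
 (.leaf 27821508)))
 (.node (.node (.leaf 5488656)
 (.leaf 23626247))
 (.node (.leaf 11804673)
 (.leaf 0)))))
 (.node (.node (.node (.node (.leaf 598044)
 (.leaf 18268617))
 (.node (.leaf 9994242)
 (.leaf 26771975)))
 (.node (.node (.leaf 5799977)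
 (.leaf 22578628))
 (.node (.leaf 12009500)
 (.leaf 0))))
 (.node (.node (.node (.leaf 1900583)
 (.leaf 20480518))
 (.node (.leaf 6660112)
 (.leaf 28868957)))
 (.node (.node (.leaf 7897117)
 (.leaf 24117597))
 (.node (.leaf 9314332)
 (.leaf 0)))))))
 (.node (.node (.node (.node (.node (.node (.leaf 294914)
 (.leaf 5210158))
 (.node (.leaf 2400272)
 (.leaf 25461085)))
 (.node (.node (.leaf 4489244)
 (.leaf 21267905))
 (.node (.leaf 12877825)
 (.leaf 0))))
 (.node (.node (.node (.leaf 606247)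
 (.leaf 19169652))
 (.node (.leaf 8364048)
 (.leaf 27558407)))
 (.node (.node (.leaf 2523152)
 (.leaf 23364103))
 (.node (.leaf 4431914)
 (.leaf 0)))))
 (.node (.node (.node (.node (.leaf 1343527)
 (.leaf 8577066))
 (.node (.leaf 4571175)
 (.leaf 26509831)))
 (.node (.node (.leaf 5316636)
 (.leaf 9224220))
 (.node (.leaf 13926402)
 (.leaf 0))))
 (.node (.node (.node (.leaf 3440656)
 (.leaf 20218374))
 (.node (.leaf 11083820)
 (.leaf 28606813)))
 (.node (.node (.leaf 4751399)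
 (.leaf 23365060))
 (.node (.leaf 3235886)
 (.leaf 0))))))
 (.node (.node (.node (.node (.node (.leaf 819228)
 (.leaf 11526183))
 (.node (.leaf 9207825)
 (.leaf 22758852)))
 (.node (.node (.leaf 5013532)
 (.leaf 21791698))
 (.node (.leaf 5636112)
 (.leaf 0))))
 (.node (.node (.node (.leaf 2613287)
 (.leaf 19693940))
 (.node (.leaf 5251100)
 (.leaf 28083652)))
 (.node (.node (.leaf 2670608)
 (.leaf 23889348))
 (.node (.leaf 7430160)
 (.leaf 0)))))
 (.node (.node (.node (.node (.leaf 1867815)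
 (.leaf 18647150))
 (.node (.leaf 6692906)
 (.leaf 23635396)))
 (.node (.node (.leaf 6062096)
 (.leaf 22840772))
 (.node (.leaf 4202513)
 (.leaf 0))))
 (.node (.node (.node (.leaf 3964944)
 (.leaf 20743617))
 (.node (.leaf 5161005)
 (.leaf 29132228)))
 (.node (.node (.leaf 6234140)
 (.leaf 24936967))
 (.node (.leaf 16547841)
 (.leaf 0))))))))
 (.node (.node (.node (.node (.node (.node (.node (.leaf 163842)
 (.leaf 4349980))
 (.node (.leaf 3637287)
 (.leaf 24494429)))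
 (.node (.node (.leaf 4358172)
 (.leaf 21136338))
 (.node (.leaf 7364636)
 (.leaf 0))))
 (.node (.node (.node (.leaf 2261020)
 (.leaf 18940422))
 (.node (.leaf 10649640)
 (.leaf 27427165)))
 (.node (.node (.leaf 6111260)
 (.leaf 22676932))
 (.node (.leaf 516124)
 (.leaf 0)))))
 (.node (.node (.node (.node (.leaf 1130512)
 (.leaf 1671210))
 (.node (.leaf 9601063)
 (.leaf 26379716)))
 (.node (.node (.leaf 5406736)
 (.leaf 6430736))
 (.node (.leaf 8290332)
 (.leaf 0))))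
 (.node (.node (.node (.leaf 2457616)
 (.leaf 20087270))
 (.node (.leaf 8978474)
 (.leaf 28475911)))
 (.node (.node (.leaf 2351148)
 (.leaf 24282564))
 (.node (.leaf 6496295)
 (.leaf 0))))))
 (.node (.node (.node (.node (.node (.leaf 688156)
 (.leaf 17465389))
 (.node (.leaf 7053315)
 (.leaf 23716189)))
 (.node (.node (.leaf 4882460)
 (.leaf 21660282))
 (.node (.leaf 6856743)
 (.leaf 0))))
 (.node (.node (.node (.leaf 2023440)
 (.leaf 19563014))
 (.node (.leaf 8560656)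
 (.leaf 27952580)))
 (.node (.node (.leaf 6979623)
 (.leaf 23757319))
 (.node (.leaf 9871400)
 (.leaf 0)))))
 (.node (.node (.node (.node (.leaf 729127)
 (.leaf 18318946))
 (.node (.leaf 925742)
 (.leaf 22496708)))
 (.node (.node (.leaf 5931036)
 (.leaf 22709700))
 (.node (.leaf 2564124)
 (.leaf 0))))
 (.node (.node (.node (.leaf 614416)
 (.leaf 20611558))
 (.node (.leaf 573441)
 (.leaf 22765917)))
 (.node (.node (.leaf 8028189)
 (.leaf 22906308))
 (.node (.leaf 16416807)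
 (.leaf 0)))))))
 (.node (.node (.node (.node (.node (.node (.leaf 426029)
 (.leaf 3768366))
 (.node (.leaf 7200807)
 (.leaf 25592157)))
 (.node (.node (.leaf 778279)
 (.leaf 21398977))
 (.node (.leaf 13008898)
 (.leaf 0))))
 (.node (.node (.node (.leaf 2523175)
 (.leaf 19227142))
 (.node (.leaf 10911745)
 (.leaf 22864221)))
 (.node (.node (.leaf 6717456)
 (.leaf 22544733))
 (.node (.leaf 12075009)
 (.leaf 0)))))
 (.node (.node (.node (.node (.leaf 1474588)
 (.leaf 14131242))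
 (.node (.leaf 507943)
 (.leaf 26584516)))
 (.node (.node (.leaf 491536)
 (.leaf 6127644))
 (.node (.leaf 14057500)
 (.leaf 0))))
 (.node (.node (.node (.leaf 3571740)
 (.leaf 20349446))
 (.node (.leaf 9748526)
 (.leaf 28738055)))
 (.node (.node (.leaf 2187309)
 (.leaf 24544708))
 (.node (.leaf 1097756)
 (.leaf 0))))))
 (.node (.node (.node (.node (.node (.leaf 950288)
 (.leaf 7716865))
 (.node (.leaf 6135847)
 (.leaf 26117572)))
 (.node (.node (.leaf 1613840)
 (.leaf 20841082))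
 (.node (.leaf 4898846)
 (.leaf 0))))
 (.node (.node (.node (.leaf 1400860)
 (.leaf 19399028))
 (.node (.leaf 9576449)
 (.leaf 28009924)))
 (.node (.node (.leaf 1957890)
 (.leaf 24019463))
 (.node (.leaf 4448295)
 (.leaf 0)))))
 (.node (.node (.node (.node (.leaf 1998887)
 (.leaf 18776582))
 (.node (.leaf 6029351)
 (.leaf 27165191)))
 (.node (.node (.leaf 6193191)
 (.leaf 22970717))
 (.node (.leaf 14581805)
 (.leaf 0))))
 (.node (.node (.node (.leaf 2973724)
 (.leaf 20742778))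
 (.node (.leaf 6823975)
 (.leaf 26043844)))
 (.node (.node (.leaf 8290343)
 (.leaf 25068039))
 (.node (.leaf 7970844)
 (.leaf 0)))))))))

/-- Part 6 of `par`. -/
def par6 : Tbl :=
 (.node (.node (.node (.node (.node (.node (.node (.node (.leaf 40963)
 (.leaf 14745628))
 (.node (.leaf 3227687)
 (.leaf 25158151)))
 (.node (.node (.leaf 4235265)
 (.leaf 21013458))
 (.node (.leaf 3538945)
 (.leaf 0))))
 (.node (.node (.node (.leaf 2138128)
 (.leaf 3047942))
 (.node (.leaf 10526749)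
 (.leaf 26052036)))
 (.node (.node (.leaf 3571751)
 (.leaf 23110151))
 (.node (.leaf 14721040)
 (.leaf 0)))))
 (.node (.node (.node (.node (.leaf 1089564)
 (.leaf 8175658))
 (.node (.leaf 7798823)
 (.leaf 26255709)))
 (.node (.node (.leaf 4259868)
 (.leaf 9469968))
 (.node (.leaf 2899969)
 (.leaf 0))))
 (.node (.node (.node (.leaf 3186727)
 (.leaf 19964390))
 (.node (.leaf 9601052)
 (.leaf 24028612)))
 (.node (.node (.leaf 1990672)
 (.leaf 22978909))
 (.node (.leaf 5783591)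
 (.leaf 0))))))
 (.node (.node (.node (.node (.node (.leaf 565264)
 (.leaf 17342509))
 (.node (.leaf 8953872)
 (.leaf 25732548)))
 (.node (.node (.leaf 3948560)
 (.leaf 21538241))
 (.node (.leaf 12951592)
 (.leaf 0))))
 (.node (.node (.node (.leaf 393232)
 (.leaf 19440102))
 (.node (.leaf 2187280)
 (.leaf 24125959)))
 (.node (.node (.leaf 6856720)
 (.leaf 22946311))
 (.node (.leaf 3129360)
 (.leaf 0)))))
 (.node (.node (.node (.node (.leaf 1613852)
 (.leaf 6342242))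
 (.node (.leaf 5562407)
 (.leaf 23413085)))
 (.node (.node (.leaf 614439)
 (.leaf 22585863))
 (.node (.leaf 1556522)
 (.leaf 0))))
 (.node (.node (.node (.leaf 3710992)
 (.leaf 20488710))
 (.node (.leaf 12099623)
 (.leaf 27337053)))
 (.node (.node (.leaf 5005351)
 (.leaf 23691613))
 (.node (.leaf 16293917)
 (.leaf 0)))))))
 (.node (.node (.node (.node (.node (.node (.leaf 303107)
 (.leaf 2940970))
 (.node (.leaf 8691740)
 (.leaf 23003485)))
 (.node (.node (.leaf 4497437)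
 (.leaf 21234298))
 (.node (.leaf 1138704)
 (.leaf 0))))
 (.node (.node (.node (.leaf 2400284)
 (.leaf 18924006))
 (.node (.leaf 10788907)
 (.leaf 27566599)))
 (.node (.node (.leaf 6594599)
 (.leaf 23373252))
 (.node (.leaf 974876)
 (.leaf 0)))))
 (.node (.node (.node (.node (.leaf 1351682)
 (.leaf 13951015))
 (.node (.leaf 9740304)
 (.leaf 24331716)))
 (.node (.node (.leaf 5546023)
 (.leaf 2228263))
 (.node (.leaf 3637277)
 (.leaf 0))))
 (.node (.node (.node (.leaf 3448876)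
 (.leaf 20226566))
 (.node (.leaf 11280427)
 (.leaf 28615005)))
 (.node (.node (.leaf 7643152)
 (.leaf 24420871))
 (.node (.leaf 13918236)
 (.leaf 0))))))
 (.node (.node (.node (.node (.node (.leaf 827408)
 (.leaf 8306730))
 (.node (.leaf 7086108)
 (.leaf 25993565)))
 (.node (.node (.leaf 5021736)
 (.leaf 20833729))
 (.node (.leaf 13410343)
 (.leaf 0))))
 (.node (.node (.node (.leaf 2924574)
 (.leaf 19702132))
 (.node (.leaf 2473986)
 (.leaf 24912221)))
 (.node (.node (.leaf 7118887)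
 (.leaf 23896583))
 (.node (.leaf 15507497)
 (.leaf 0)))))
 (.node (.node (.node (.node (.leaf 1876007)
 (.leaf 7063662))
 (.node (.leaf 9412624)
 (.leaf 26559940)))
 (.node (.node (.leaf 3334146)
 (.leaf 22610269))
 (.node (.leaf 2457601)
 (.leaf 0))))
 (.node (.node (.node (.leaf 3973149)
 (.leaf 20750970))
 (.node (.leaf 4603907)
 (.leaf 29139463)))
 (.node (.node (.leaf 8167440)
 (.leaf 23241053))
 (.node (.leaf 7225383)
 (.leaf 0))))))))
 (.node (.node (.node (.node (.node (.node (.node (.leaf 172033)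
 (.leaf 16949264))
 (.node (.leaf 8560643)
 (.leaf 24978884)))
 (.node (.node (.leaf 4366381)
 (.leaf 21144186))
 (.node (.leaf 12754986)
 (.leaf 0))))
 (.node (.node (.node (.leaf 2269226)
 (.leaf 19046886))
 (.node (.leaf 6856749)
 (.leaf 24813917)))
 (.node (.node (.leaf 1261596)
 (.leaf 23241223))
 (.node (.leaf 14852141)
 (.leaf 0)))))
 (.node (.node (.node (.node (.leaf 1220650)
 (.leaf 17317917))
 (.node (.leaf 5447719)
 (.leaf 24511940)))
 (.node (.node (.leaf 1294352)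
 (.leaf 22003751))
 (.node (.leaf 13803523)
 (.leaf 0))))
 (.node (.node (.node (.leaf 3317799)
 (.leaf 19882502))
 (.node (.leaf 2351144)
 (.leaf 27779591)))
 (.node (.node (.leaf 4898832)
 (.leaf 24290756))
 (.node (.leaf 15900711)
 (.leaf 0))))))
 (.node (.node (.node (.node (.node (.leaf 696348)
 (.leaf 15253532))
 (.node (.leaf 2547753)
 (.leaf 25862493)))
 (.node (.node (.leaf 4890663)
 (.leaf 21668818))
 (.node (.leaf 7020573)
 (.leaf 0))))
 (.node (.node (.node (.leaf 2793475)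
 (.leaf 19571174))
 (.node (.leaf 11182082)
 (.leaf 24830301)))
 (.node (.node (.leaf 6987778)
 (.leaf 23249245))
 (.node (.leaf 3784721)
 (.leaf 0)))))
 (.node (.node (.node (.node (.leaf 1744924)
 (.leaf 18465225))
 (.node (.leaf 3399696)
 (.leaf 26911239)))
 (.node (.node (.leaf 5939228)
 (.leaf 22716765))
 (.node (.leaf 13066270)
 (.leaf 0))))
 (.node (.node (.node (.leaf 3842050)
 (.leaf 20619636))
 (.node (.leaf 9740329)
 (.leaf 29009348)))
 (.node (.node (.leaf 4628508)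
 (.leaf 24814087))
 (.node (.leaf 16424962)
 (.leaf 0)))))))
 (.node (.node (.node (.node (.node (.node (.leaf 131088)
 (.leaf 1556525))
 (.node (.leaf 753692)
 (.leaf 25215325)))
 (.node (.node (.leaf 4628496)
 (.leaf 21406330))
 (.node (.leaf 7413776)
 (.leaf 0))))
 (.node (.node (.node (.leaf 466983)
 (.leaf 19309062))
 (.node (.leaf 1499152)
 (.leaf 27698628)))
 (.node (.node (.leaf 5939239)
 (.leaf 23503367))
 (.node (.leaf 7307309)
 (.leaf 0)))))
 (.node (.node (.node (.node (.leaf 942119)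
 (.leaf 6342644))
 (.node (.leaf 9871388)
 (.leaf 26649095)))
 (.node (.node (.leaf 5677095)
 (.leaf 4841511))
 (.node (.leaf 14065680)
 (.leaf 0))))
 (.node (.node (.node (.leaf 3579946)
 (.leaf 20357492))
 (.node (.leaf 7053314)
 (.leaf 25420125)))
 (.node (.node (.leaf 3883047)
 (.leaf 24551773))
 (.node (.leaf 16162844)
 (.leaf 0))))))
 (.node (.node (.node (.node (.node (.leaf 958492)
 (.leaf 3055655))
 (.node (.leaf 9347074)
 (.leaf 23266756)))
 (.node (.node (.leaf 5152807)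
 (.leaf 21930962))
 (.node (.leaf 4972573)
 (.leaf 0))))
 (.node (.node (.node (.leaf 3055644)
 (.leaf 19833318))
 (.node (.leaf 8626215)
 (.leaf 28221959)))
 (.node (.node (.leaf 4333613)
 (.leaf 24027655))
 (.node (.leaf 15638567)
 (.leaf 0)))))
 (.node (.node (.node (.node (.leaf 1695772)
 (.leaf 18784742))
 (.node (.leaf 4677671)
 (.leaf 27173383)))
 (.node (.node (.leaf 4399143)
 (.leaf 22979079))
 (.node (.leaf 3211292)
 (.leaf 0))))
 (.node (.node (.node (.leaf 4104220)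
 (.leaf 20882881))
 (.node (.leaf 12492816)
 (.leaf 29270365)))
 (.node (.node (.leaf 3596316)
 (.leaf 24036804))
 (.node (.leaf 16687133)
 (.leaf 0)))))))))

/-- Part 7 of `par`. -/
def par7 : Tbl :=
 (.node (.node (.node (.node (.node (.node (.node (.node (.leaf 49153)
 (.leaf 2252839))
 (.node (.leaf 8437788)
 (.leaf 23569860)))
 (.node (.node (.leaf 2646058)
 (.leaf 21022145))
 (.node (.leaf 6774786)
 (.leaf 0))))
 (.node (.node (.node (.leaf 2146321)
 (.leaf 18924038))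
 (.node (.leaf 3211303)
 (.leaf 27001181)))
 (.node (.node (.leaf 1220624)
 (.leaf 22528349))
 (.node (.leaf 14729217)
 (.leaf 0)))))
 (.node (.node (.node (.node (.leaf 1097744)
 (.leaf 12107805))
 (.node (.leaf 9486378)
 (.leaf 25642436)))
 (.node (.node (.leaf 5292071)
 (.leaf 5881895))
 (.node (.leaf 7864362)
 (.leaf 0))))
 (.node (.node (.node (.leaf 1245223)
 (.leaf 19276262))
 (.node (.leaf 7643164)
 (.leaf 28361223)))
 (.node (.node (.leaf 7389223)
 (.leaf 22611396))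
 (.node (.leaf 7995434)
 (.leaf 0))))))
 (.node (.node (.node (.node (.node (.leaf 573468)
 (.leaf 12787754))
 (.node (.leaf 5677084)
 (.leaf 23528900)))
 (.node (.node (.leaf 4767786)
 (.leaf 21545594))
 (.node (.leaf 11395089)
 (.leaf 0))))
 (.node (.node (.node (.leaf 2670631)
 (.leaf 19448326))
 (.node (.leaf 11059216)
 (.leaf 27550215)))
 (.node (.node (.leaf 2457629)
 (.leaf 23642631))
 (.node (.leaf 15065090)
 (.leaf 0)))))
 (.node (.node (.node (.node (.leaf 1622032)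
 (.leaf 18399387))
 (.node (.leaf 2736157)
 (.leaf 26789316)))
 (.node (.node (.leaf 5816359)
 (.leaf 4251997))
 (.node (.leaf 3375149)
 (.leaf 0))))
 (.node (.node (.node (.leaf 3719207)
 (.leaf 20496756))
 (.node (.leaf 12107816)
 (.leaf 22536541)))
 (.node (.node (.leaf 7913488)
 (.leaf 24691207))
 (.node (.leaf 13852701)
 (.leaf 0)))))))
 (.node (.node (.node (.node (.node (.node (.leaf 311298)
 (.leaf 5890087))
 (.node (.leaf 4186141)
 (.leaf 25478596)))
 (.node (.node (.leaf 2883626)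
 (.leaf 21284289))
 (.node (.leaf 12894247)
 (.leaf 0))))
 (.node (.node (.node (.leaf 2408450)
 (.leaf 19186150))
 (.node (.leaf 2973712)
 (.leaf 24281607)))
 (.node (.node (.leaf 6602781)
 (.leaf 23380317))
 (.node (.leaf 14991402)
 (.leaf 0)))))
 (.node (.node (.node (.node (.leaf 581671)
 (.leaf 8560682))
 (.node (.leaf 5382183)
 (.leaf 26526215)))
 (.node (.node (.leaf 794652)
 (.leaf 16580636))
 (.node (.leaf 12009488)
 (.leaf 0))))
 (.node (.node (.node (.leaf 3276828)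
 (.leaf 20234758))
 (.node (.leaf 7397378)
 (.leaf 24019293)))
 (.node (.node (.leaf 4325416)
 (.leaf 24428893))
 (.node (.leaf 1761282)
 (.leaf 0))))))
 (.node (.node (.node (.node (.node (.leaf 835623)
 (.leaf 4735004))
 (.node (.leaf 4931600)
 (.leaf 26002884)))
 (.node (.node (.leaf 3784732)
 (.leaf 21808082))
 (.node (.leaf 3170306)
 (.leaf 0))))
 (.node (.node (.node (.leaf 1048615)
 (.leaf 19710470))
 (.node (.leaf 5423143)
 (.leaf 28100036)))
 (.node (.node (.leaf 6930449)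
 (.leaf 22520157))
 (.node (.leaf 2482204)
 (.leaf 0)))))
 (.node (.node (.node (.node (.leaf 1703937)
 (.leaf 18563126))
 (.node (.leaf 10272807)
 (.leaf 25052612)))
 (.node (.node (.leaf 2244636)
 (.leaf 22856199))
 (.node (.leaf 8364060)
 (.leaf 0))))
 (.node (.node (.node (.leaf 2023463)
 (.leaf 20759506))
 (.node (.leaf 3645468)
 (.leaf 26001757)))
 (.node (.node (.leaf 8175644)
 (.leaf 24953181))
 (.node (.leaf 16564263)
 (.leaf 0))))))))
 (.node (.node (.node (.node (.node (.node (.node (.leaf 180227)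
 (.leaf 6774812))
 (.node (.leaf 4890640)
 (.leaf 25347524)))
 (.node (.node (.leaf 2129936)
 (.leaf 21153217))
 (.node (.leaf 12263440)
 (.leaf 0))))
 (.node (.node (.node (.leaf 417820)
 (.leaf 19054964))
 (.node (.leaf 9551911)
 (.leaf 27443719)))
 (.node (.node (.leaf 6471719)
 (.leaf 23250372))
 (.node (.leaf 4636674)
 (.leaf 0)))))
 (.node (.node (.node (.node (.leaf 319527)
 (.leaf 6086673))
 (.node (.leaf 9617453)
 (.leaf 23208285)))
 (.node (.node (.leaf 5423120)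
 (.leaf 16457767))
 (.node (.leaf 9166876)
 (.leaf 0))))
 (.node (.node (.node (.leaf 3325980)
 (.leaf 20103540))
 (.node (.leaf 2875408)
 (.leaf 28493252)))
 (.node (.node (.leaf 7520285)
 (.leaf 23676356))
 (.node (.leaf 786471)
 (.leaf 0))))))
 (.node (.node (.node (.node (.node (.leaf 704557)
 (.leaf 17481730))
 (.node (.leaf 3112977)
 (.leaf 25871812)))
 (.node (.node (.leaf 4382748)
 (.leaf 21677010))
 (.node (.leaf 9994282)
 (.leaf 0))))
 (.node (.node (.node (.leaf 1818663)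
 (.leaf 19579398))
 (.node (.leaf 2637863)
 (.leaf 23561668)))
 (.node (.node (.leaf 6021148)
 (.leaf 23773533))
 (.node (.leaf 2850844)
 (.leaf 0)))))
 (.node (.node (.node (.node (.leaf 1753127)
 (.leaf 444526))
 (.node (.leaf 6504449)
 (.leaf 26919431)))
 (.node (.node (.leaf 1490960)
 (.leaf 22726084))
 (.node (.leaf 614445)
 (.leaf 0))))
 (.node (.node (.node (.leaf 1097729)
 (.leaf 20627942))
 (.node (.leaf 1916944)
 (.leaf 27715012)))
 (.node (.node (.leaf 8044572)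
 (.leaf 24822109))
 (.node (.leaf 7045162)
 (.leaf 0)))))))
 (.node (.node (.node (.node (.node (.node (.leaf 442384)
 (.leaf 11223068))
 (.node (.leaf 5095453)
 (.leaf 23019869)))
 (.node (.node (.leaf 4636711)
 (.leaf 21415361))
 (.node (.leaf 13025281)
 (.leaf 0))))
 (.node (.node (.node (.leaf 2539559)
 (.leaf 19317108))
 (.node (.leaf 10928167)
 (.leaf 24905156)))
 (.node (.node (.leaf 6733867)
 (.leaf 23511559))
 (.node (.leaf 2670609)
 (.leaf 0)))))
 (.node (.node (.node (.node (.leaf 1490972)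
 (.leaf 18269794))
 (.node (.leaf 9879580)
 (.leaf 26658244)))
 (.node (.node (.leaf 5685276)
 (.leaf 2860484))
 (.node (.leaf 12509200)
 (.leaf 0))))
 (.node (.node (.node (.leaf 2777104)
 (.leaf 19661172))
 (.node (.leaf 11313198)
 (.leaf 24069572)))
 (.node (.node (.leaf 7782442)
 (.leaf 23724551))
 (.node (.leaf 16171037)
 (.leaf 0))))))
 (.node (.node (.node (.node (.node (.leaf 966695)
 (.leaf 15605761))
 (.node (.leaf 2261032)
 (.leaf 26132829)))
 (.node (.node (.leaf 5160976)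
 (.leaf 21939154))
 (.node (.leaf 4661249)
 (.leaf 0))))
 (.node (.node (.node (.leaf 3063853)
 (.leaf 19841542))
 (.node (.leaf 1875984)
 (.leaf 28229981)))
 (.node (.node (.leaf 4366378)
 (.leaf 24035677))
 (.node (.leaf 15646736)
 (.leaf 0)))))
 (.node (.node (.node (.node (.leaf 2015271)
 (.leaf 18792820))
 (.node (.leaf 10403882)
 (.leaf 27182532)))
 (.node (.node (.leaf 6209564)
 (.leaf 22987271))
 (.node (.leaf 14598145)
 (.leaf 0))))
 (.node (.node (.node (.leaf 4112423)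
 (.leaf 20891073))
 (.node (.leaf 1654800)
 (.leaf 3973123)))
 (.node (.node (.leaf 8306716)
 (.leaf 25084253))
 (.node (.leaf 8970268)
 (.leaf 0)))))))))

/-- Part 8 of `par`. -/
def par8 : Tbl :=
 (.node (.node (.node (.node (.node (.node (.node (.node (.leaf 57347)
 (.leaf 4907036))
 (.node (.leaf 8445994)
 (.leaf 25223687)))
 (.node (.node (.leaf 819216)
 (.leaf 5194706))
 (.node (.leaf 4579373)
 (.leaf 0))))
 (.node (.node (.node (.leaf 1146896)
 (.leaf 18932198))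
 (.node (.leaf 10543120)
 (.leaf 27320669)))
 (.node (.node (.leaf 5865511)
 (.leaf 23127492))
 (.node (.leaf 3112976)
 (.leaf 0)))))
 (.node (.node (.node (.node (.leaf 1105921)
 (.leaf 2662440))
 (.node (.leaf 4333569)
 (.leaf 26272263)))
 (.node (.node (.leaf 5300269)
 (.leaf 4825116))
 (.node (.leaf 13025308)
 (.leaf 0))))
 (.node (.node (.node (.leaf 3203100)
 (.leaf 19980774))
 (.node (.leaf 5046273)
 (.leaf 28370372)))
 (.node (.node (.leaf 7397404)
 (.leaf 24175111))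
 (.node (.leaf 6668318)
 (.leaf 0))))))
 (.node (.node (.node (.node (.node (.leaf 581674)
 (.leaf 794640))
 (.node (.leaf 8970256)
 (.leaf 25747975)))
 (.node (.node (.leaf 3579943)
 (.leaf 21554130))
 (.node (.leaf 10436609)
 (.leaf 0))))
 (.node (.node (.node (.leaf 2678812)
 (.leaf 19456486))
 (.node (.leaf 11067395)
 (.leaf 27844957)))
 (.node (.node (.leaf 6774800)
 (.leaf 23651780))
 (.node (.leaf 9699329)
 (.leaf 0)))))
 (.node (.node (.node (.node (.leaf 1630247)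
 (.leaf 7784034))
 (.node (.leaf 9601025)
 (.leaf 26796551)))
 (.node (.node (.leaf 5824557)
 (.leaf 22603204))
 (.node (.leaf 1409040)
 (.leaf 0))))
 (.node (.node (.node (.leaf 507946)
 (.leaf 19923316))
 (.node (.leaf 7979036)
 (.leaf 28894660)))
 (.node (.node (.leaf 3088423)
 (.leaf 24699399))
 (.node (.leaf 6783005)
 (.leaf 0)))))))
 (.node (.node (.node (.node (.node (.node (.leaf 8195)
 (.leaf 17096706))
 (.node (.leaf 696336)
 (.leaf 22913373)))
 (.node (.node (.leaf 2965532)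
 (.leaf 21038529))
 (.node (.leaf 1335335)
 (.leaf 0))))
 (.node (.node (.node (.leaf 1908752)
 (.leaf 19194374))
 (.node (.leaf 10805288)
 (.leaf 25387357)))
 (.node (.node (.leaf 6127658)
 (.leaf 22962525))
 (.node (.leaf 7462951)
 (.leaf 0)))))
 (.node (.node (.node (.node (.leaf 1368103)
 (.leaf 3768348))
 (.node (.leaf 9756700)
 (.leaf 26535364)))
 (.node (.node (.leaf 5562370)
 (.leaf 7856144))
 (.node (.leaf 2998301)
 (.leaf 0))))
 (.node (.node (.node (.leaf 3465244)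
 (.leaf 19014004))
 (.node (.leaf 6422567)
 (.leaf 28631559)))
 (.node (.node (.leaf 2605084)
 (.leaf 24438212))
 (.node (.leaf 2850845)
 (.leaf 0))))))
 (.node (.node (.node (.node (.node (.leaf 843804)
 (.leaf 17620993))
 (.node (.leaf 1548327)
 (.leaf 24576349)))
 (.node (.node (.leaf 2293776)
 (.leaf 21816274))
 (.node (.leaf 6914093)
 (.leaf 0))))
 (.node (.node (.node (.leaf 2940956)
 (.leaf 18841972))
 (.node (.leaf 11329537)
 (.leaf 23209412)))
 (.node (.node (.leaf 4317212)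
 (.leaf 23912967))
 (.node (.leaf 15523870)
 (.leaf 0)))))
 (.node (.node (.node (.node (.leaf 532496)
 (.leaf 18671726))
 (.node (.leaf 10280989)
 (.leaf 27058695)))
 (.node (.node (.leaf 2506791)
 (.leaf 22864391))
 (.node (.leaf 7061520)
 (.leaf 0))))
 (.node (.node (.node (.leaf 3989520)
 (.leaf 8012410))
 (.node (.leaf 5079084)
 (.leaf 27451741)))
 (.node (.node (.leaf 8183853)
 (.leaf 24961543))
 (.node (.leaf 4685863)
 (.leaf 0))))))))
 (.node (.node (.node (.node (.node (.node (.node (.leaf 188419)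
 (.leaf 7839745))
 (.node (.leaf 8577052)
 (.leaf 23896413)))
 (.node (.node (.leaf 4382759)
 (.leaf 21160914))
 (.node (.leaf 12771344)
 (.leaf 0))))
 (.node (.node (.node (.leaf 1941532)
 (.leaf 19063302))
 (.node (.leaf 10674215)
 (.leaf 27451911)))
 (.node (.node (.leaf 2015248)
 (.leaf 23257437))
 (.node (.leaf 6348803)
 (.leaf 0)))))
 (.node (.node (.node (.node (.leaf 1237020)
 (.leaf 10436647))
 (.node (.leaf 9035815)
 (.leaf 26403335)))
 (.node (.node (.leaf 5431312)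
 (.leaf 7381020))
 (.node (.leaf 13819932)
 (.leaf 0))))
 (.node (.node (.node (.leaf 417794)
 (.leaf 20111846))
 (.node (.leaf 11722780)
 (.leaf 26477063)))
 (.node (.node (.leaf 1703952)
 (.leaf 24306013))
 (.node (.leaf 15917095)
 (.leaf 0))))))
 (.node (.node (.node (.node (.node (.leaf 131100)
 (.leaf 7757852))
 (.node (.leaf 5972012)
 (.leaf 25878877)))
 (.node (.node (.leaf 4907047)
 (.leaf 21685697))
 (.node (.leaf 5013520)
 (.leaf 0))))
 (.node (.node (.node (.leaf 2809872)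
 (.leaf 19587558))
 (.node (.leaf 11198493)
 (.leaf 27976199)))
 (.node (.node (.leaf 4235292)
 (.leaf 23512516))
 (.node (.leaf 15392811)
 (.leaf 0)))))
 (.node (.node (.node (.node (.leaf 1761296)
 (.leaf 6341470))
 (.node (.leaf 6520834)
 (.leaf 26927453)))
 (.node (.node (.leaf 5955600)
 (.leaf 12092868))
 (.node (.leaf 4874281)
 (.leaf 0))))
 (.node (.node (.node (.leaf 1237008)
 (.leaf 20636134))
 (.node (.leaf 12247068)
 (.leaf 29024775)))
 (.node (.node (.leaf 8052775)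
 (.leaf 24831428))
 (.node (.leaf 7331869)
 (.leaf 0)))))))
 (.node (.node (.node (.node (.node (.node (.leaf 450588)
 (.leaf 7421998))
 (.node (.leaf 2940944)
 (.leaf 25616733)))
 (.node (.node (.leaf 4644892)
 (.leaf 21423058))
 (.node (.leaf 1466396)
 (.leaf 0))))
 (.node (.node (.node (.leaf 2547754)
 (.leaf 19325446))
 (.node (.leaf 10936365)
 (.leaf 27714055)))
 (.node (.node (.leaf 1695745)
 (.leaf 22962695))
 (.node (.leaf 9732141)
 (.leaf 0)))))
 (.node (.node (.node (.node (.leaf 1499164)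
 (.leaf 18276809))
 (.node (.leaf 2621456)
 (.leaf 24536516)))
 (.node (.node (.leaf 5693482)
 (.leaf 22471175))
 (.node (.leaf 14082049)
 (.leaf 0))))
 (.node (.node (.node (.leaf 3596289)
 (.leaf 20374022))
 (.node (.leaf 5496860)
 (.leaf 28763588)))
 (.node (.node (.leaf 1048592)
 (.leaf 23282013))
 (.node (.leaf 9256989)
 (.leaf 0))))))
 (.node (.node (.node (.node (.node (.leaf 974849)
 (.leaf 13107240))
 (.node (.leaf 4464679)
 (.leaf 24528324)))
 (.node (.node (.leaf 5169154)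
 (.leaf 21947346))
 (.node (.leaf 10805264)
 (.leaf 0))))
 (.node (.node (.node (.leaf 1122343)
 (.leaf 19849734))
 (.node (.leaf 11460651)
 (.leaf 25609668)))
 (.node (.node (.leaf 5955612)
 (.leaf 24044996))
 (.node (.leaf 3899421)
 (.leaf 0)))))
 (.node (.node (.node (.node (.leaf 2023452)
 (.leaf 18801126))
 (.node (.leaf 9969703)
 (.leaf 25429444)))
 (.node (.node (.leaf 6217756)
 (.leaf 22675805))
 (.node (.leaf 5185564)
 (.leaf 0))))
 (.node (.node (.node (.leaf 4120615)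
 (.leaf 20898426))
 (.node (.leaf 8241168)
 (.leaf 2293762)))
 (.node (.node (.leaf 6422573)
 (.leaf 25092615))
 (.node (.leaf 15392807)
 (.leaf 0)))))))))

/-- Part 9 of `par`. -/
def par9 : Tbl :=
 (.node (.node (.node (.node (.node (.node (.node (.node (.leaf 65538)
 (.leaf 16842754))
 (.node (.leaf 6225960)
 (.leaf 25231709)))
 (.node (.node (.leaf 4259879)
 (.leaf 21037690))
 (.node (.leaf 5005340)
 (.leaf 0))))
 (.node (.node (.node (.leaf 2162733)
 (.leaf 18940390))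
 (.node (.leaf 688167)
 (.leaf 22570436)))
 (.node (.node (.leaf 6357031)
 (.leaf 23134557))
 (.node (.leaf 3285034)
 (.leaf 0)))))
 (.node (.node (.node (.node (.leaf 720935)
 (.leaf 7856170))
 (.node (.leaf 4767745)
 (.leaf 26280285)))
 (.node (.node (.leaf 1392656)
 (.leaf 5693479))
 (.node (.leaf 13697040)
 (.leaf 0))))
 (.node (.node (.node (.leaf 3211280)
 (.leaf 19382790))
 (.node (.leaf 614428)
 (.leaf 28377437)))
 (.node (.node (.leaf 1818640)
 (.leaf 24184260))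
 (.node (.leaf 4317224)
 (.leaf 0))))))
 (.node (.node (.node (.node (.node (.leaf 483344)
 (.leaf 17367056))
 (.node (.leaf 8978460)
 (.leaf 25757124)))
 (.node (.node (.leaf 4784129)
 (.leaf 21562817))
 (.node (.leaf 8560668)
 (.leaf 0))))
 (.node (.node (.node (.leaf 778256)
 (.leaf 19464564))
 (.node (.leaf 5931047)
 (.leaf 25117021)))
 (.node (.node (.leaf 6881319)
 (.leaf 23659015))
 (.node (.leaf 2687004)
 (.leaf 0)))))
 (.node (.node (.node (.node (.leaf 1130535)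
 (.leaf 18416073))
 (.node (.leaf 9936924)
 (.leaf 25174365)))
 (.node (.node (.leaf 966672)
 (.leaf 22610439))
 (.node (.leaf 6332445)
 (.leaf 0))))
 (.node (.node (.node (.leaf 475164)
 (.leaf 20513254))
 (.node (.leaf 7053328)
 (.leaf 28688733)))
 (.node (.node (.leaf 7929901)
 (.leaf 24651204))
 (.node (.leaf 14966823)
 (.leaf 0)))))))
 (.node (.node (.node (.node (.node (.node (.leaf 16385)
 (.leaf 3751938))
 (.node (.leaf 8716316)
 (.leaf 25494980)))
 (.node (.node (.leaf 4522023)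
 (.leaf 21299834))
 (.node (.leaf 10575873)
 (.leaf 0))))
 (.node (.node (.node (.leaf 2424848)
 (.leaf 19202566))
 (.node (.leaf 2064424)
 (.leaf 22857156)))
 (.node (.node (.leaf 1769511)
 (.leaf 23397828))
 (.node (.leaf 15007772)
 (.leaf 0)))))
 (.node (.node (.node (.node (.leaf 1376298)
 (.leaf 2850856))
 (.node (.leaf 786461)
 (.leaf 23060829)))
 (.node (.node (.leaf 4161565)
 (.leaf 6021136))
 (.node (.leaf 4169756)
 (.leaf 0))))
 (.node (.node (.node (.leaf 3473424)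
 (.leaf 20251142))
 (.node (.leaf 11862044)
 (.leaf 28640708)))
 (.node (.node (.leaf 7667741)
 (.leaf 22922692))
 (.node (.leaf 14057511)
 (.leaf 0))))))
 (.node (.node (.node (.node (.node (.leaf 852009)
 (.leaf 15220752))
 (.node (.leaf 9240615)
 (.leaf 26018311)))
 (.node (.node (.leaf 5046311)
 (.leaf 21824466))
 (.node (.leaf 7200797)
 (.leaf 0))))
 (.node (.node (.node (.leaf 2949136)
 (.leaf 19726854))
 (.node (.leaf 6889473)
 (.leaf 28115463)))
 (.node (.node (.leaf 7143440)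
 (.leaf 23920989))
 (.node (.leaf 12599342)
 (.leaf 0)))))
 (.node (.node (.node (.node (.leaf 1900572)
 (.leaf 18606190))
 (.node (.leaf 3948572)
 (.leaf 24462788)))
 (.node (.node (.leaf 6094877)
 (.leaf 22873540))
 (.node (.leaf 7471143)
 (.leaf 0))))
 (.node (.node (.node (.leaf 3997724)
 (.leaf 20776385))
 (.node (.leaf 7749671)
 (.leaf 27738631)))
 (.node (.node (.leaf 2687018)
 (.leaf 24969565))
 (.node (.leaf 16580647)
 (.leaf 0))))))))
 (.node (.node (.node (.node (.node (.node (.node (.leaf 196610)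
 (.leaf 11632656))
 (.node (.leaf 8585258)
 (.leaf 22938119)))
 (.node (.node (.leaf 1941543)
 (.leaf 20914810))
 (.node (.leaf 9150480)
 (.leaf 0))))
 (.node (.node (.node (.leaf 2293799)
 (.leaf 18833894))
 (.node (.leaf 10682411)
 (.leaf 27459933)))
 (.node (.node (.leaf 6488092)
 (.leaf 23159303))
 (.node (.leaf 14704669)
 (.leaf 0)))))
 (.node (.node (.node (.node (.leaf 1245212)
 (.leaf 5726210))
 (.node (.leaf 3579920)
 (.leaf 24125789)))
 (.node (.node (.leaf 2424860)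
 (.leaf 17924112))
 (.node (.leaf 6135810)
 (.leaf 0))))
 (.node (.node (.node (.leaf 745500)
 (.leaf 20120070))
 (.node (.leaf 5791760)
 (.leaf 26648925)))
 (.node (.node (.leaf 7536668)
 (.leaf 24314375))
 (.node (.leaf 3670044)
 (.leaf 0))))))
 (.node (.node (.node (.node (.node (.leaf 720924)
 (.leaf 17342506))
 (.node (.leaf 5521450)
 (.leaf 25248263)))
 (.node (.node (.leaf 4915230)
 (.leaf 21202369))
 (.node (.leaf 9928720)
 (.leaf 0))))
 (.node (.node (.node (.leaf 2818087)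
 (.leaf 19595750))
 (.node (.leaf 1286173)
 (.leaf 27984221)))
 (.node (.node (.leaf 7012368)
 (.leaf 22472132))
 (.node (.leaf 5242919)
 (.leaf 0)))))
 (.node (.node (.node (.node (.leaf 1450012)
 (.leaf 18546916))
 (.node (.leaf 5218320)
 (.leaf 25896388)))
 (.node (.node (.leaf 5963792)
 (.leaf 22742468))
 (.node (.leaf 11509776)
 (.leaf 0))))
 (.node (.node (.node (.leaf 3866652)
 (.leaf 20070772))
 (.node (.leaf 2048039)
 (.leaf 26157575)))
 (.node (.node (.leaf 2695184)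
 (.leaf 24838663))
 (.node (.leaf 3006492)
 (.leaf 0)))))))
 (.node (.node (.node (.node (.node (.node (.leaf 458780)
 (.leaf 15441936))
 (.node (.leaf 8847362)
 (.leaf 24356292)))
 (.node (.node (.leaf 2498599)
 (.leaf 21431745))
 (.node (.leaf 13041703)
 (.leaf 0))))
 (.node (.node (.node (.leaf 1826832)
 (.leaf 19333606))
 (.node (.leaf 10199068)
 (.leaf 24856004)))
 (.node (.node (.leaf 2342951)
 (.leaf 23527773))
 (.node (.leaf 13418497)
 (.leaf 0)))))
 (.node (.node (.node (.node (.leaf 1507367)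
 (.leaf 6340763))
 (.node (.leaf 4415489)
 (.leaf 23864772)))
 (.node (.node (.leaf 2088988)
 (.leaf 22480324))
 (.node (.leaf 11108353)
 (.leaf 0))))
 (.node (.node (.node (.leaf 2621479)
 (.leaf 20382182))
 (.node (.leaf 6316061)
 (.leaf 28770823)))
 (.node (.node (.leaf 7798812)
 (.leaf 24576519))
 (.node (.leaf 8126466)
 (.leaf 0))))))
 (.node (.node (.node (.node (.node (.leaf 729116)
 (.leaf 2056220))
 (.node (.leaf 7872540)
 (.leaf 26149383)))
 (.node (.node (.leaf 3129372)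
 (.leaf 5464103))
 (.node (.leaf 13565991)
 (.leaf 0))))
 (.node (.node (.node (.leaf 3080220)
 (.leaf 19030388))
 (.node (.leaf 6266908)
 (.leaf 24937924)))
 (.node (.node (.leaf 4833282)
 (.leaf 24053188))
 (.node (.leaf 565249)
 (.leaf 0)))))
 (.node (.node (.node (.node (.leaf 2031645)
 (.leaf 4243942))
 (.node (.leaf 7487504)
 (.leaf 22946141)))
 (.node (.node (.leaf 1056796)
 (.leaf 23004612))
 (.node (.leaf 14614567)
 (.leaf 0))))
 (.node (.node (.node (.leaf 4128769)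
 (.leaf 5195201))
 (.node (.leaf 1908776)
 (.leaf 5095425)))
 (.node (.node (.leaf 5242896)
 (.leaf 23593309))
 (.node (.leaf 16711681)
 (.leaf 0)))))))))

/-- Part 10 of `par`. -/
def par10 : Tbl :=
 (.node (.node (.node (.node (.node (.node (.node (.node (.leaf 73731)
 (.leaf 729133))
 (.node (.leaf 1589278)
 (.leaf 23086532)))
 (.node (.node (.leaf 4268071)
 (.leaf 21046226))
 (.node (.leaf 12656668)
 (.leaf 0))))
 (.node (.node (.node (.leaf 532519)
 (.leaf 18948468))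
 (.node (.leaf 10559504)
 (.leaf 27337223)))
 (.node (.node (.leaf 6365213)
 (.leaf 23143876))
 (.node (.leaf 5038122)
 (.leaf 0)))))
 (.node (.node (.node (.node (.leaf 1122332)
 (.leaf 4202512))
 (.node (.leaf 1294364)
 (.leaf 22881732)))
 (.node (.node (.leaf 5316647)
 (.leaf 4390928))
 (.node (.leaf 13705218)
 (.leaf 0))))
 (.node (.node (.node (.leaf 2179111)
 (.leaf 19997044))
 (.node (.leaf 11608103)
 (.leaf 28385799)))
 (.node (.node (.leaf 4890652)
 (.leaf 24142173))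
 (.node (.leaf 12083245)
 (.leaf 0))))))
 (.node (.node (.node (.node (.node (.leaf 598055)
 (.leaf 17375261))
 (.node (.leaf 8986653)
 (.leaf 23961949)))
 (.node (.node (.leaf 1400871)
 (.leaf 21570170))
 (.node (.leaf 13180957)
 (.leaf 0))))
 (.node (.node (.node (.leaf 2695207)
 (.leaf 18923892))
 (.node (.leaf 9322498)
 (.leaf 23782852)))
 (.node (.node (.leaf 917543)
 (.leaf 22741511))
 (.node (.leaf 3104809)
 (.leaf 0)))))
 (.node (.node (.node (.node (.leaf 1646620)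
 (.leaf 13386185))
 (.node (.leaf 10035228)
 (.leaf 26812765)))
 (.node (.node (.leaf 5480487)
 (.leaf 22619588))
 (.node (.leaf 5210141)
 (.leaf 0))))
 (.node (.node (.node (.leaf 3743772)
 (.leaf 20521478))
 (.node (.leaf 12132394)
 (.leaf 28829124)))
 (.node (.node (.leaf 4931629)
 (.leaf 24715783))
 (.node (.leaf 13205506)
 (.leaf 0)))))))
 (.node (.node (.node (.node (.node (.node (.leaf 24577)
 (.leaf 3285020))
 (.node (.leaf 8724525)
 (.leaf 25503172)))
 (.node (.node (.leaf 4530215)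
 (.leaf 21308865))
 (.node (.leaf 4734992)
 (.leaf 0))))
 (.node (.node (.node (.leaf 2433025)
 (.leaf 19210726))
 (.node (.leaf 827409)
 (.leaf 27599197)))
 (.node (.node (.leaf 6627331)
 (.leaf 23406020))
 (.node (.leaf 15015937)
 (.leaf 0)))))
 (.node (.node (.node (.node (.leaf 1122320)
 (.leaf 17776685))
 (.node (.leaf 2089003)
 (.leaf 26551748)))
 (.node (.node (.leaf 5021725)
 (.leaf 22355996))
 (.node (.leaf 13967361)
 (.leaf 0))))
 (.node (.node (.node (.leaf 1622055)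
 (.leaf 20259302))
 (.node (.leaf 11870251)
 (.leaf 23585117)))
 (.node (.node (.leaf 1916956)
 (.leaf 23848388))
 (.node (.leaf 16064514)
 (.leaf 0))))))
 (.node (.node (.node (.node (.node (.leaf 385063)
 (.leaf 5775361))
 (.node (.leaf 3170320)
 (.leaf 23404893)))
 (.node (.node (.leaf 5054492)
 (.leaf 21734354))
 (.node (.leaf 2867239)
 (.leaf 0))))
 (.node (.node (.node (.leaf 770064)
 (.leaf 19735014))
 (.node (.leaf 6897703)
 (.leaf 28123485)))
 (.node (.node (.leaf 7151644)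
 (.leaf 23930308))
 (.node (.leaf 11272220)
 (.leaf 0)))))
 (.node (.node (.node (.node (.leaf 1908775)
 (.leaf 18563934))
 (.node (.leaf 10297360)
 (.leaf 24782276)))
 (.node (.node (.leaf 696359)
 (.leaf 22880775))
 (.node (.leaf 7651370)
 (.leaf 0))))
 (.node (.node (.node (.leaf 2629671)
 (.leaf 20784577))
 (.node (.leaf 12394497)
 (.leaf 29172061)))
 (.node (.node (.leaf 7667740)
 (.leaf 23700932))
 (.node (.leaf 6488103)
 (.leaf 0))))))))
 (.node (.node (.node (.node (.node (.node (.node (.leaf 204803)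
 (.leaf 16982017))
 (.node (.leaf 7413799)
 (.leaf 22921735)))
 (.node (.node (.leaf 4399132)
 (.leaf 21177793))
 (.node (.leaf 5021698)
 (.leaf 0))))
 (.node (.node (.node (.leaf 2301991)
 (.leaf 19079686))
 (.node (.leaf 2146307)
 (.leaf 24764765)))
 (.node (.node (.leaf 475175)
 (.leaf 23274948))
 (.node (.leaf 7979047)
 (.leaf 0)))))
 (.node (.node (.node (.node (.leaf 1253415)
 (.leaf 401410))
 (.node (.leaf 9641986)
 (.leaf 26419719)))
 (.node (.node (.leaf 5447697)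
 (.leaf 6930460))
 (.node (.leaf 3637276)
 (.leaf 0))))
 (.node (.node (.node (.leaf 3350544)
 (.leaf 20128116))
 (.node (.leaf 10739740)
 (.leaf 28148061)))
 (.node (.node (.leaf 7544848)
 (.leaf 23176644))
 (.node (.leaf 15933469)
 (.leaf 0))))))
 (.node (.node (.node (.node (.node (.leaf 729104)
 (.leaf 5505052))
 (.node (.leaf 4882471)
 (.leaf 23938500)))
 (.node (.node (.leaf 4530204)
 (.leaf 21702081))
 (.node (.leaf 13312029)
 (.leaf 0))))
 (.node (.node (.node (.leaf 2826268)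
 (.leaf 19603974))
 (.node (.leaf 958503)
 (.leaf 27993540)))
 (.node (.node (.leaf 2818076)
 (.leaf 23798279))
 (.node (.leaf 999453)
 (.leaf 0)))))
 (.node (.node (.node (.node (.leaf 1777680)
 (.leaf 6340933))
 (.node (.leaf 10166300)
 (.leaf 23322973)))
 (.node (.node (.leaf 5971996)
 (.leaf 22749703))
 (.node (.leaf 4636700)
 (.leaf 0))))
 (.node (.node (.node (.leaf 3874832)
 (.leaf 20652518))
 (.node (.leaf 3801104)
 (.leaf 28852573)))
 (.node (.node (.leaf 5521454)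
 (.leaf 22521284))
 (.node (.leaf 16457730)
 (.leaf 0)))))))
 (.node (.node (.node (.node (.node (.node (.leaf 466960)
 (.leaf 1753134))
 (.node (.leaf 131073)
 (.leaf 23725508)))
 (.node (.node (.leaf 4661264)
 (.leaf 20948417))
 (.node (.leaf 13049897)
 (.leaf 0))))
 (.node (.node (.node (.leaf 909328)
 (.leaf 3981798))
 (.node (.leaf 10952743)
 (.leaf 27730439)))
 (.node (.node (.leaf 6758439)
 (.leaf 23537092))
 (.node (.leaf 4759568)
 (.leaf 0)))))
 (.node (.node (.node (.node (.leaf 1515521)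
 (.leaf 18293193))
 (.node (.leaf 3571728)
 (.leaf 26681863)))
 (.node (.node (.leaf 4833319)
 (.leaf 22487389))
 (.node (.leaf 909354)
 (.leaf 0))))
 (.node (.node (.node (.leaf 3612673)
 (.leaf 20390260))
 (.node (.leaf 6692892)
 (.leaf 25919837)))
 (.node (.node (.leaf 7806992)
 (.leaf 24584711))
 (.node (.leaf 9658413)
 (.leaf 0))))))
 (.node (.node (.node (.node (.node (.leaf 991248)
 (.leaf 17768464))
 (.node (.leaf 9379857)
 (.leaf 25174535)))
 (.node (.node (.leaf 5185552)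
 (.leaf 17702940))
 (.node (.leaf 2162716)
 (.leaf 0))))
 (.node (.node (.node (.leaf 3088400)
 (.leaf 19866086))
 (.node (.leaf 2531370)
 (.leaf 28254557)))
 (.node (.node (.leaf 1417217)
 (.leaf 22692189))
 (.node (.leaf 7077917)
 (.leaf 0)))))
 (.node (.node (.node (.node (.leaf 647184)
 (.leaf 18817542))
 (.node (.leaf 8388636)
 (.leaf 22529476)))
 (.node (.node (.leaf 6234128)
 (.leaf 23011847))
 (.node (.leaf 14622759)
 (.leaf 0))))
 (.node (.node (.node (.leaf 3538983)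
 (.leaf 20915154))
 (.node (.leaf 2465831)
 (.leaf 3555356)))
 (.node (.node (.leaf 8331303)
 (.leaf 25109956))
 (.node (.leaf 9945104)
 (.leaf 0)))))))))

/-- Part 11 of `par`. -/
def par11 : Tbl :=
 (.node (.node (.node (.node (.node (.node (.node (.node (.leaf 81923)
 (.leaf 11509788))
 (.node (.leaf 5300263)
 (.leaf 25248093)))
 (.node (.node (.leaf 1859600)
 (.leaf 21054913))
 (.node (.leaf 12664877)
 (.leaf 0))))
 (.node (.node (.node (.leaf 2179100)
 (.leaf 18817396))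
 (.node (.leaf 10567719)
 (.leaf 27345415)))
 (.node (.node (.leaf 2252843)
 (.leaf 2859357))
 (.node (.leaf 5685249)
 (.leaf 0)))))
 (.node (.node (.node (.node (.leaf 1130524)
 (.leaf 7454748))
 (.node (.leaf 9519120)
 (.leaf 25453063)))
 (.node (.node (.leaf 5324816)
 (.leaf 5439527))
 (.node (.leaf 4022311)
 (.leaf 0))))
 (.node (.node (.node (.leaf 3227664)
 (.leaf 20005350))
 (.node (.leaf 11616258)
 (.leaf 25723229)))
 (.node (.node (.leaf 1335324)
 (.leaf 23658845))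
 (.node (.leaf 598059)
 (.leaf 0))))))
 (.node (.node (.node (.node (.node (.leaf 606236)
 (.leaf 5382160))
 (.node (.leaf 1826857)
 (.leaf 25772551)))
 (.node (.node (.leaf 4800540)
 (.leaf 21472705))
 (.node (.leaf 3448860)
 (.leaf 0))))
 (.node (.node (.node (.leaf 2703399)
 (.leaf 19481062))
 (.node (.leaf 4694055)
 (.leaf 25829895)))
 (.node (.node (.leaf 6856746)
 (.leaf 23675229))
 (.node (.leaf 11780098)
 (.leaf 0)))))
 (.node (.node (.node (.node (.leaf 1654823)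
 (.leaf 13385883))
 (.node (.leaf 5709863)
 (.leaf 24225220)))
 (.node (.node (.leaf 5849133)
 (.leaf 22626823))
 (.node (.leaf 5914625)
 (.leaf 0))))
 (.node (.node (.node (.leaf 2334759)
 (.leaf 20529670))
 (.node (.leaf 1335325)
 (.leaf 28918279)))
 (.node (.node (.leaf 7716893)
 (.leaf 24723805))
 (.node (.leaf 9592861)
 (.leaf 0)))))))
 (.node (.node (.node (.node (.node (.node (.leaf 24579)
 (.leaf 17121319))
 (.node (.leaf 5898279)
 (.leaf 22627780)))
 (.node (.node (.leaf 3407888)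
 (.leaf 21317057))
 (.node (.leaf 2924583)
 (.leaf 0))))
 (.node (.node (.node (.leaf 1450000)
 (.leaf 19104230))
 (.node (.leaf 9478145)
 (.leaf 27607559)))
 (.node (.node (.leaf 3350567)
 (.leaf 23414212))
 (.node (.leaf 876572)
 (.leaf 0)))))
 (.node (.node (.node (.node (.leaf 1392679)
 (.leaf 9199658))
 (.node (.leaf 1531920)
 (.leaf 24379741)))
 (.node (.node (.leaf 3866663)
 (.leaf 1925136))
 (.node (.leaf 7217197)
 (.leaf 0))))
 (.node (.node (.node (.leaf 3489831)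
 (.leaf 20267380))
 (.node (.leaf 6660125)
 (.leaf 28657092)))
 (.node (.node (.leaf 6389761)
 (.leaf 24461661))
 (.node (.leaf 10108957)
 (.leaf 0))))))
 (.node (.node (.node (.node (.node (.leaf 868391)
 (.leaf 8003586))
 (.node (.leaf 9257005)
 (.leaf 23683421)))
 (.node (.node (.leaf 2703376)
 (.leaf 21840506))
 (.node (.leaf 13451293)
 (.leaf 0))))
 (.node (.node (.node (.leaf 2965543)
 (.leaf 19440134))
 (.node (.leaf 8806440)
 (.leaf 26715588)))
 (.node (.node (.leaf 7159811)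
 (.leaf 23937373))
 (.node (.leaf 15548445)
 (.leaf 0)))))
 (.node (.node (.node (.node (.leaf 1908764)
 (.leaf 18694198))
 (.node (.leaf 10305564)
 (.leaf 27083271)))
 (.node (.node (.leaf 6111261)
 (.leaf 12091741))
 (.node (.leaf 13795373)
 (.leaf 0))))
 (.node (.node (.node (.leaf 4014119)
 (.leaf 20791930))
 (.node (.leaf 3383339)
 (.leaf 28419524)))
 (.node (.node (.leaf 8208423)
 (.leaf 24986119))
 (.node (.leaf 16597008)
 (.leaf 0))))))))
 (.node (.node (.node (.node (.node (.node (.node (.leaf 212995)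
 (.leaf 2351143))
 (.node (.leaf 8601616)
 (.leaf 24241604)))
 (.node (.node (.leaf 4407312)
 (.leaf 21185490))
 (.node (.leaf 6389776)
 (.leaf 0))))
 (.node (.node (.node (.leaf 2310172)
 (.leaf 19087878))
 (.node (.leaf 8921127)
 (.leaf 26011076)))
 (.node (.node (.leaf 6504465)
 (.leaf 23282183))
 (.node (.leaf 14893101)
 (.leaf 0)))))
 (.node (.node (.node (.node (.leaf 1261607)
 (.leaf 12124161))
 (.node (.leaf 3317788)
 (.leaf 24602052)))
 (.node (.node (.leaf 835612)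
 (.leaf 1867792))
 (.node (.leaf 13844496)
 (.leaf 0))))
 (.node (.node (.node (.leaf 3358762)
 (.leaf 19685862))
 (.node (.leaf 11747356)
 (.leaf 25788765)))
 (.node (.node (.leaf 7553052)
 (.leaf 24330759))
 (.node (.leaf 9240617)
 (.leaf 0))))))
 (.node (.node (.node (.node (.node (.leaf 737308)
 (.leaf 17514497))
 (.node (.leaf 9125916)
 (.leaf 24150365)))
 (.node (.node (.leaf 4931626)
 (.leaf 20718546))
 (.node (.leaf 1679362)
 (.leaf 0))))
 (.node (.node (.node (.leaf 2015260)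
 (.leaf 19489140))
 (.node (.leaf 11223069)
 (.leaf 22971844)))
 (.node (.node (.leaf 7028775)
 (.leaf 23806301))
 (.node (.leaf 1900586)
 (.leaf 0)))))
 (.node (.node (.node (.node (.leaf 1785895)
 (.leaf 1869934))
 (.node (.leaf 8929319)
 (.leaf 26592708)))
 (.node (.node (.leaf 5980162)
 (.leaf 22757725))
 (.node (.leaf 14368807)
 (.leaf 0))))
 (.node (.node (.node (.leaf 3883036)
 (.leaf 20660710))
 (.node (.leaf 10141738)
 (.leaf 29049181)))
 (.node (.node (.leaf 3178524)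
 (.leaf 24855047))
 (.node (.leaf 7979050)
 (.leaf 0)))))))
 (.node (.node (.node (.node (.node (.node (.leaf 131111)
 (.leaf 14893098))
 (.node (.leaf 8634384)
 (.leaf 25641479)))
 (.node (.node (.leaf 4669468)
 (.leaf 21448129))
 (.node (.leaf 3186716)
 (.leaf 0))))
 (.node (.node (.node (.leaf 2572316)
 (.leaf 19350022))
 (.node (.leaf 4366352)
 (.leaf 27738461)))
 (.node (.node (.leaf 4562972)
 (.leaf 23544327))
 (.node (.leaf 15155229)
 (.leaf 0)))))
 (.node (.node (.node (.node (.leaf 458791)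
 (.leaf 6341558))
 (.node (.leaf 9912321)
 (.leaf 23070148)))
 (.node (.node (.leaf 5718055)
 (.leaf 22495751))
 (.node (.leaf 4399120)
 (.leaf 0))))
 (.node (.node (.node (.leaf 3293214)
 (.leaf 20398566))
 (.node (.leaf 12009501)
 (.leaf 28788164)))
 (.node (.node (.leaf 7815209)
 (.leaf 24593860))
 (.node (.leaf 12320810)
 (.leaf 0))))))
 (.node (.node (.node (.node (.node (.leaf 999452)
 (.leaf 17776682))
 (.node (.leaf 1728513)
 (.leaf 23020039)))
 (.node (.node (.leaf 1712156)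
 (.leaf 12107815))
 (.node (.leaf 8798236)
 (.leaf 0))))
 (.node (.node (.node (.leaf 3096592)
 (.leaf 18768244))
 (.node (.leaf 9306151)
 (.leaf 24338781)))
 (.node (.node (.leaf 4472877)
 (.leaf 24068615))
 (.node (.leaf 12083228)
 (.leaf 0)))))
 (.node (.node (.node (.node (.leaf 573479)
 (.leaf 18825702))
 (.node (.leaf 10436651)
 (.leaf 27214173)))
 (.node (.node (.leaf 5234727)
 (.leaf 23020996))
 (.node (.leaf 6545424)
 (.leaf 0))))
 (.node (.node (.node (.leaf 4145180)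
 (.leaf 20923346))
 (.node (.leaf 12533804)
 (.leaf 29311016)))
 (.node (.node (.leaf 8339484)
 (.leaf 25117191))
 (.node (.leaf 7356456)
 (.leaf 0)))))))))

/-- Part 12 of `par`. -/
def par12 : Tbl :=
 (.node (.node (.node (.node (.node (.node (.node (.node (.leaf 90113)
 (.leaf 9805866))
 (.node (.leaf 8478736)
 (.leaf 25257412)))
 (.node (.node (.leaf 4284444)
 (.leaf 21062266))
 (.node (.leaf 7602177)
 (.leaf 0))))
 (.node (.node (.node (.leaf 2187303)
 (.leaf 18964852))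
 (.node (.leaf 10575901)
 (.leaf 25970116)))
 (.node (.node (.leaf 3711004)
 (.leaf 23159133))
 (.node (.leaf 11403292)
 (.leaf 0)))))
 (.node (.node (.node (.node (.leaf 1138716)
 (.leaf 7553063))
 (.node (.leaf 704540)
 (.leaf 26305031)))
 (.node (.node (.leaf 5333020)
 (.leaf 8380455))
 (.node (.leaf 7847981)
 (.leaf 0))))
 (.node (.node (.node (.leaf 3235868)
 (.leaf 20013574))
 (.node (.leaf 9527312)
 (.leaf 25747805)))
 (.node (.node (.leaf 7430172)
 (.leaf 24207709))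
 (.node (.leaf 13361154)
 (.leaf 0))))))
 (.node (.node (.node (.node (.node (.leaf 614443)
 (.leaf 17391658))
 (.node (.leaf 5521447)
 (.leaf 22618631)))
 (.node (.node (.leaf 2449424)
 (.leaf 21586554))
 (.node (.leaf 13197351)
 (.leaf 0))))
 (.node (.node (.node (.leaf 2711568)
 (.leaf 19489286))
 (.node (.leaf 11100188)
 (.leaf 27877725)))
 (.node (.node (.leaf 3112999)
 (.leaf 23684548))
 (.node (.leaf 8003612)
 (.leaf 0)))))
 (.node (.node (.node (.node (.leaf 1163292)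
 (.leaf 7782555))
 (.node (.leaf 10051600)
 (.leaf 26829149)))
 (.node (.node (.leaf 3399719)
 (.leaf 22635015))
 (.node (.leaf 7159852)
 (.leaf 0))))
 (.node (.node (.node (.leaf 3760156)
 (.leaf 19349876))
 (.node (.leaf 4915245)
 (.leaf 28279133)))
 (.node (.node (.leaf 5193767)
 (.leaf 24733124))
 (.node (.leaf 2334749)
 (.leaf 0)))))))
 (.node (.node (.node (.node (.node (.node (.leaf 237569)
 (.leaf 11026471))
 (.node (.leaf 3727390)
 (.leaf 25519556)))
 (.node (.node (.leaf 4546561)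
 (.leaf 21324754))
 (.node (.leaf 12935170)
 (.leaf 0))))
 (.node (.node (.node (.leaf 2449447)
 (.leaf 19227110))
 (.node (.leaf 4145191)
 (.leaf 27525639)))
 (.node (.node (.leaf 6643751)
 (.leaf 23421447))
 (.node (.leaf 15032348)
 (.leaf 0)))))
 (.node (.node (.node (.node (.leaf 1400848)
 (.leaf 6397991))
 (.node (.leaf 9789479)
 (.leaf 26567005)))
 (.node (.node (.leaf 5595175)
 (.leaf 8896551))
 (.node (.leaf 630786)
 (.leaf 0))))
 (.node (.node (.node (.leaf 3497987)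
 (.leaf 20275718))
 (.node (.leaf 3727389)
 (.leaf 25806276)))
 (.node (.node (.leaf 4898855)
 (.leaf 24355165))
 (.node (.leaf 2408476)
 (.leaf 0))))))
 (.node (.node (.node (.node (.node (.leaf 876560)
 (.leaf 16998439))
 (.node (.leaf 1671207)
 (.leaf 25617860)))
 (.node (.node (.leaf 5070864)
 (.leaf 21849537))
 (.node (.leaf 9797648)
 (.leaf 0))))
 (.node (.node (.node (.leaf 2973726)
 (.leaf 18874854))
 (.node (.leaf 8634396)
 (.leaf 28140039)))
 (.node (.node (.leaf 1744935)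
 (.leaf 22987101))
 (.node (.leaf 7274535)
 (.leaf 0)))))
 (.node (.node (.node (.node (.leaf 1925148)
 (.leaf 18563300))
 (.node (.leaf 10313756)
 (.leaf 27092420)))
 (.node (.node (.leaf 581648)
 (.leaf 22897159))
 (.node (.leaf 2129962)
 (.leaf 0))))
 (.node (.node (.node (.leaf 1474599)
 (.leaf 20800466))
 (.node (.leaf 7544860)
 (.leaf 25108999)))
 (.node (.node (.leaf 4603932)
 (.leaf 22683997))
 (.node (.leaf 10993705)
 (.leaf 0))))))))
 (.node (.node (.node (.node (.node (.node (.node (.leaf 221185)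
 (.leaf 9412648))
 (.node (.leaf 2228267)
 (.leaf 24199687)))
 (.node (.node (.leaf 4415504)
 (.leaf 21194177))
 (.node (.leaf 12804097)
 (.leaf 0))))
 (.node (.node (.node (.leaf 2318381)
 (.leaf 3981830))
 (.node (.leaf 10706983)
 (.leaf 23578052)))
 (.node (.node (.leaf 3956775)
 (.leaf 23291332))
 (.node (.leaf 11067431)
 (.leaf 0)))))
 (.node (.node (.node (.node (.leaf 925741)
 (.leaf 11034652))
 (.node (.leaf 9658384)
 (.leaf 24004036)))
 (.node (.node (.leaf 5464106)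
 (.leaf 5210140))
 (.node (.leaf 13844508)
 (.leaf 0))))
 (.node (.node (.node (.leaf 3121168)
 (.leaf 19669510))
 (.node (.leaf 7741479)
 (.leaf 23372125)))
 (.node (.node (.leaf 7561262)
 (.leaf 24339908))
 (.node (.leaf 12165136)
 (.leaf 0))))))
 (.node (.node (.node (.node (.node (.leaf 745511)
 (.leaf 1949736))
 (.node (.leaf 6389799)
 (.leaf 25863620)))
 (.node (.node (.leaf 3055632)
 (.leaf 21717626))
 (.node (.leaf 8970279)
 (.leaf 0))))
 (.node (.node (.node (.leaf 2842663)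
 (.leaf 19620358))
 (.node (.leaf 5709840)
 (.leaf 28008967)))
 (.node (.node (.leaf 1269799)
 (.leaf 23815620))
 (.node (.leaf 5038109)
 (.leaf 0)))))
 (.node (.node (.node (.node (.leaf 1794076)
 (.leaf 7061558))
 (.node (.leaf 10182672)
 (.leaf 26583389)))
 (.node (.node (.leaf 958466)
 (.leaf 22767044))
 (.node (.leaf 14376989)
 (.leaf 0))))
 (.node (.node (.node (.leaf 3891239)
 (.leaf 19669364))
 (.node (.leaf 11952167)
 (.leaf 24183133)))
 (.node (.node (.leaf 991271)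
 (.leaf 24863239))
 (.node (.leaf 1310721)
 (.leaf 0)))))))
 (.node (.node (.node (.node (.node (.node (.leaf 483367)
 (.leaf 15990826))
 (.node (.leaf 8871975)
 (.leaf 25051655)))
 (.node (.node (.leaf 1163303)
 (.leaf 21455826))
 (.node (.leaf 13066281)
 (.leaf 0))))
 (.node (.node (.node (.leaf 2580496)
 (.leaf 19358214))
 (.node (.leaf 10969133)
 (.leaf 25731421)))
 (.node (.node (.leaf 6774823)
 (.leaf 22790663))
 (.node (.leaf 8093698)
 (.leaf 0)))))
 (.node (.node (.node (.node (.leaf 1531944)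
 (.leaf 18311156))
 (.node (.leaf 4440080)
 (.leaf 26698247)))
 (.node (.node (.leaf 5726236)
 (.leaf 4253124))
 (.node (.leaf 14114817)
 (.leaf 0))))
 (.node (.node (.node (.leaf 737296)
 (.leaf 20406758))
 (.node (.leaf 9273360)
 (.leaf 24330589)))
 (.node (.node (.leaf 4145168)
 (.leaf 24347143))
 (.node (.leaf 13967399)
 (.leaf 0))))))
 (.node (.node (.node (.node (.node (.leaf 1007644)
 (.leaf 4186154))
 (.node (.leaf 2793500)
 (.leaf 26173789)))
 (.node (.node (.leaf 5201959)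
 (.leaf 15253520))
 (.node (.leaf 5636136)
 (.leaf 0))))
 (.node (.node (.node (.leaf 2293788)
 (.leaf 19882470))
 (.node (.leaf 11493405)
 (.leaf 28272068)))
 (.node (.node (.leaf 647207)
 (.leaf 24076807))
 (.node (.leaf 10993692)
 (.leaf 0)))))
 (.node (.node (.node (.node (.leaf 2056231)
 (.leaf 18833926))
 (.node (.leaf 2474030)
 (.leaf 27222365)))
 (.node (.node (.leaf 6250497)
 (.leaf 23028061))
 (.node (.leaf 14639132)
 (.leaf 0))))
 (.node (.node (.node (.leaf 4153372)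
 (.leaf 20932033))
 (.node (.leaf 5152796)
 (.leaf 6586384)))
 (.node (.node (.leaf 8347649)
 (.leaf 25125383))
 (.node (.leaf 4382722)
 (.leaf 0)))))))))

/-- Part 13 of `par`. -/
def par13 : Tbl :=
 (.node (.node (.node (.node (.node (.node (.node (.node (.leaf 98306)
 (.leaf 4481069))
 (.node (.leaf 8486913)
 (.leaf 25264477)))
 (.node (.node (.leaf 1146919)
 (.leaf 21070802))
 (.node (.leaf 6987817)
 (.leaf 0))))
 (.node (.node (.node (.leaf 2195501)
 (.leaf 18973044))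
 (.node (.leaf 8331280)
 (.leaf 25060804)))
 (.node (.node (.leaf 6389788)
 (.leaf 23167325))
 (.node (.leaf 11526172)
 (.leaf 0)))))
 (.node (.node (.node (.node (.leaf 1146882)
 (.leaf 16252944))
 (.node (.leaf 819239)
 (.leaf 25748932)))
 (.node (.node (.leaf 5341226)
 (.leaf 4218908))
 (.node (.leaf 3670058)
 (.leaf 0))))
 (.node (.node (.node (.leaf 3244033)
 (.leaf 20021766))
 (.node (.leaf 11632680)
 (.leaf 28410375)))
 (.node (.node (.leaf 7438338)
 (.leaf 23437831))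
 (.node (.leaf 9969709)
 (.leaf 0))))))
 (.node (.node (.node (.node (.node (.leaf 442396)
 (.leaf 13795370))
 (.node (.leaf 9011245)
 (.leaf 24208836)))
 (.node (.node (.leaf 4816912)
 (.leaf 21595090))
 (.node (.leaf 6348802)
 (.leaf 0))))
 (.node (.node (.node (.leaf 811036)
 (.leaf 19497446))
 (.node (.leaf 11108391)
 (.leaf 25895431)))
 (.node (.node (.leaf 6914087)
 (.leaf 23692740))
 (.node (.leaf 2474012)
 (.leaf 0)))))
 (.node (.node (.node (.node (.leaf 1671184)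
 (.leaf 18399689))
 (.node (.leaf 10059777)
 (.leaf 23601501)))
 (.node (.node (.leaf 5865488)
 (.leaf 22512135))
 (.node (.leaf 10338332)
 (.leaf 0))))
 (.node (.node (.node (.leaf 1089575)
 (.leaf 20545908))
 (.node (.leaf 5816348)
 (.leaf 27444676)))
 (.node (.node (.leaf 3260444)
 (.leaf 24741316))
 (.node (.leaf 1171485)
 (.leaf 0)))))))
 (.node (.node (.node (.node (.node (.node (.leaf 327681)
 (.leaf 7995437))
 (.node (.leaf 3694620)
 (.leaf 25526791)))
 (.node (.node (.leaf 1900560)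
 (.leaf 20923002))
 (.node (.leaf 12345372)
 (.leaf 0))))
 (.node (.node (.node (.leaf 2457639)
 (.leaf 19235334))
 (.node (.leaf 5046316)
 (.leaf 23306589)))
 (.node (.node (.leaf 950300)
 (.leaf 23396701))
 (.node (.leaf 15040513)
 (.leaf 0)))))
 (.node (.node (.node (.node (.leaf 466972)
 (.leaf 18186282))
 (.node (.leaf 8806439)
 (.leaf 22898116)))
 (.node (.node (.leaf 5603367)
 (.leaf 5718044))
 (.node (.leaf 6283293)
 (.leaf 0))))
 (.node (.node (.node (.leaf 2867245)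
 (.leaf 19161460))
 (.node (.leaf 7389200)
 (.leaf 25535940)))
 (.node (.node (.leaf 7700482)
 (.leaf 24478215))
 (.node (.leaf 16089128)
 (.leaf 0))))))
 (.node (.node (.node (.node (.node (.leaf 884775)
 (.leaf 8798253))
 (.node (.leaf 9273383)
 (.leaf 25683396)))
 (.node (.node (.leaf 5079069)
 (.leaf 21857234))
 (.node (.leaf 7315485)
 (.leaf 0))))
 (.node (.node (.node (.leaf 2949137)
 (.leaf 19759622))
 (.node (.leaf 3088429)
 (.leaf 23307716)))
 (.node (.node (.leaf 7176231)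
 (.leaf 22905181))
 (.node (.leaf 5799952)
 (.leaf 0)))))
 (.node (.node (.node (.node (.leaf 385052)
 (.leaf 18712686))
 (.node (.leaf 10321922)
 (.leaf 24256861)))
 (.node (.node (.leaf 2195472)
 (.leaf 22905351))
 (.node (.leaf 1105948)
 (.leaf 0))))
 (.node (.node (.node (.leaf 4030493)
 (.leaf 20808658))
 (.node (.leaf 12419111)
 (.leaf 29197764)))
 (.node (.node (.leaf 8224797)
 (.leaf 25003460))
 (.node (.leaf 8110108)
 (.leaf 0))))))))
 (.node (.node (.node (.node (.node (.node (.node (.leaf 8194)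
 (.leaf 13582365))
 (.node (.leaf 1761308)
 (.leaf 24020420)))
 (.node (.node (.leaf 4415516)
 (.leaf 21201874))
 (.node (.leaf 11198503)
 (.leaf 0))))
 (.node (.node (.node (.leaf 1286160)
 (.leaf 19104262))
 (.node (.leaf 10715181)
 (.leaf 27492871)))
 (.node (.node (.leaf 6520848)
 (.leaf 22806877))
 (.node (.leaf 14909482)
 (.leaf 0)))))
 (.node (.node (.node (.node (.leaf 770076)
 (.leaf 1720336))
 (.node (.leaf 9666562)
 (.leaf 26109380)))
 (.node (.node (.leaf 1712167)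
 (.leaf 5750800))
 (.node (.leaf 13860892)
 (.leaf 0))))
 (.node (.node (.node (.leaf 2842652)
 (.leaf 20152838))
 (.node (.leaf 11763751)
 (.leaf 25182727)))
 (.node (.node (.leaf 4087847)
 (.leaf 22791620))
 (.node (.leaf 15958045)
 (.leaf 0))))))
 (.node (.node (.node (.node (.node (.leaf 753665)
 (.leaf 7176237))
 (.node (.leaf 9142300)
 (.leaf 25920964)))
 (.node (.node (.leaf 4947996)
 (.leaf 21726657))
 (.node (.leaf 13336615)
 (.leaf 0))))
 (.node (.node (.node (.leaf 385053)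
 (.leaf 19628518))
 (.node (.leaf 11239440)
 (.leaf 28018116)))
 (.node (.node (.leaf 3227676)
 (.leaf 23823812))
 (.node (.leaf 12099612)
 (.leaf 0)))))
 (.node (.node (.node (.node (.leaf 1802242)
 (.leaf 2663262))
 (.node (.leaf 10141724)
 (.leaf 26968583)))
 (.node (.node (.leaf 1785884)
 (.leaf 22774109))
 (.node (.leaf 9797676)
 (.leaf 0))))
 (.node (.node (.node (.leaf 3899434)
 (.leaf 20677126))
 (.node (.leaf 6168604)
 (.leaf 29066692)))
 (.node (.node (.leaf 2842640)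
 (.leaf 24872388))
 (.node (.leaf 7143466)
 (.leaf 0)))))))
 (.node (.node (.node (.node (.node (.node (.leaf 491548)
 (.leaf 3727388))
 (.node (.leaf 8880157)
 (.leaf 22832580)))
 (.node (.node (.leaf 4685840)
 (.leaf 20775890))
 (.node (.leaf 7274537)
 (.leaf 0))))
 (.node (.node (.node (.leaf 925735)
 (.leaf 19366406))
 (.node (.leaf 2482192)
 (.leaf 23454045)))
 (.node (.node (.leaf 6783015)
 (.leaf 23560541))
 (.node (.leaf 4751389)
 (.leaf 0)))))
 (.node (.node (.node (.node (.leaf 679964)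
 (.leaf 7784436))
 (.node (.leaf 9928743)
 (.leaf 22479197)))
 (.node (.node (.leaf 688144)
 (.leaf 22511965))
 (.node (.leaf 11329564)
 (.leaf 0))))
 (.node (.node (.node (.leaf 3637264)
 (.leaf 20210182))
 (.node (.leaf 2097153)
 (.leaf 25724356)))
 (.node (.node (.leaf 2809895)
 (.leaf 22988228))
 (.node (.leaf 16220189)
 (.leaf 0))))))
 (.node (.node (.node (.node (.node (.leaf 1015847)
 (.leaf 2834433))
 (.node (.leaf 4661276)
 (.leaf 26165597)))
 (.node (.node (.leaf 2334736)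
 (.leaf 2752551))
 (.node (.leaf 2498577)
 (.leaf 0))))
 (.node (.node (.node (.leaf 630823)
 (.leaf 19890662))
 (.node (.leaf 6422544)
 (.leaf 28279303)))
 (.node (.node (.leaf 7307292)
 (.leaf 24085956))
 (.node (.leaf 8110109)
 (.leaf 0)))))
 (.node (.node (.node (.node (.leaf 2064412)
 (.leaf 18842086))
 (.node (.leaf 3596291)
 (.leaf 23242180)))
 (.node (.node (.leaf 3088412)
 (.leaf 22667783))
 (.node (.leaf 2433052)
 (.leaf 0))))
 (.node (.node (.node (.leaf 745488)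
 (.leaf 20939386))
 (.node (.leaf 12550160)
 (.leaf 29327362)))
 (.node (.node (.leaf 1990684)
 (.leaf 25133405))
 (.node (.leaf 6217729)
 (.leaf 0)))))))))

/-- Part 14 of `par`. -/
def par14 : Tbl :=
 (.node (.node (.node (.node (.node (.node (.node (.node (.leaf 106497)
 (.leaf 1589249))
 (.node (.leaf 7118876)
 (.leaf 23806471)))
 (.node (.node (.leaf 4300839)
 (.leaf 21078994))
 (.node (.leaf 12664874)
 (.leaf 0))))
 (.node (.node (.node (.leaf 1245200)
 (.leaf 18981382))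
 (.node (.leaf 5865501)
 (.leaf 27369821)))
 (.node (.node (.leaf 6397994)
 (.leaf 22544903))
 (.node (.leaf 14786605)
 (.leaf 0)))))
 (.node (.node (.node (.node (.leaf 942096)
 (.leaf 9969706))
 (.node (.leaf 9543708)
 (.leaf 26321415)))
 (.node (.node (.leaf 1171484)
 (.leaf 2138140))
 (.node (.leaf 2670638)
 (.leaf 0))))
 (.node (.node (.node (.leaf 1237031)
 (.leaf 20029926))
 (.node (.leaf 8986640)
 (.leaf 28418567)))
 (.node (.node (.leaf 1835036)
 (.leaf 23012804))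
 (.node (.leaf 868394)
 (.leaf 0))))))
 (.node (.node (.node (.node (.node (.leaf 630800)
 (.leaf 9748523))
 (.node (.leaf 4292650)
 (.leaf 23699805)))
 (.node (.node (.leaf 4440103)
 (.leaf 21602938))
 (.node (.leaf 7454759)
 (.leaf 0))))
 (.node (.node (.node (.leaf 2727952)
 (.leaf 19505638))
 (.node (.leaf 6004752)
 (.leaf 27370948)))
 (.node (.node (.leaf 4628519)
 (.leaf 23699975))
 (.node (.leaf 3285031)
 (.leaf 0)))))
 (.node (.node (.node (.node (.leaf 1679388)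
 (.leaf 16679067))
 (.node (.leaf 6234151)
 (.leaf 26845703)))
 (.node (.node (.leaf 5873692)
 (.leaf 22652356))
 (.node (.leaf 6193180)
 (.leaf 0))))
 (.node (.node (.node (.leaf 3776551)
 (.leaf 20554246))
 (.node (.leaf 12165149)
 (.leaf 28942685)))
 (.node (.node (.leaf 7970855)
 (.leaf 22872413))
 (.node (.leaf 14286876)
 (.leaf 0)))))))
 (.node (.node (.node (.node (.node (.node (.leaf 327683)
 (.leaf 6914049))
 (.node (.leaf 8757250)
 (.leaf 25534813)))
 (.node (.node (.leaf 4562983)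
 (.leaf 21341633))
 (.node (.leaf 2703389)
 (.leaf 0))))
 (.node (.node (.node (.leaf 2465820)
 (.leaf 19145076))
 (.node (.leaf 2547740)
 (.leaf 26568132)))
 (.node (.node (.leaf 6660135)
 (.leaf 23438788))
 (.node (.leaf 12222466)
 (.leaf 0)))))
 (.node (.node (.node (.node (.leaf 1417255)
 (.leaf 2629674))
 (.node (.leaf 9789468)
 (.leaf 26583559)))
 (.node (.node (.leaf 5611548)
 (.leaf 11722791))
 (.node (.leaf 4628525)
 (.leaf 0))))
 (.node (.node (.node (.leaf 1343504)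
 (.leaf 20292070))
 (.node (.leaf 2973725)
 (.leaf 25322948)))
 (.node (.node (.leaf 2031632)
 (.leaf 24486407))
 (.node (.leaf 4046887)
 (.leaf 0))))))
 (.node (.node (.node (.node (.node (.leaf 892974)
 (.leaf 15917084))
 (.node (.leaf 9281581)
 (.leaf 26059271)))
 (.node (.node (.leaf 4472860)
 (.leaf 20923841))
 (.node (.leaf 6471725)
 (.leaf 0))))
 (.node (.node (.node (.leaf 458768)
 (.leaf 19767782))
 (.node (.leaf 7733264)
 (.leaf 28156253)))
 (.node (.node (.leaf 7184412)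
 (.leaf 23585287))
 (.node (.leaf 9420829)
 (.leaf 0)))))
 (.node (.node (.node (.node (.leaf 1941520)
 (.leaf 2662454))
 (.node (.leaf 3719184)
 (.leaf 23716359)))
 (.node (.node (.leaf 4866087)
 (.leaf 22914500))
 (.node (.leaf 14524458)
 (.leaf 0))))
 (.node (.node (.node (.leaf 1613863)
 (.leaf 20816506))
 (.node (.leaf 12427293)
 (.leaf 27174340)))
 (.node (.node (.leaf 7839783)
 (.leaf 25011652))
 (.node (.leaf 16621569)
 (.leaf 0))))))))
 (.node (.node (.node (.node (.node (.node (.node (.leaf 237571)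
 (.leaf 3571715))
 (.node (.leaf 3080231)
 (.leaf 25403911)))
 (.node (.node (.leaf 1040412)
 (.leaf 21210561))
 (.node (.leaf 12476417)
 (.leaf 0))))
 (.node (.node (.node (.leaf 2334748)
 (.leaf 19112454))
 (.node (.leaf 4562960)
 (.leaf 27501063)))
 (.node (.node (.leaf 6529066)
 (.leaf 23306759))
 (.node (.leaf 2777116)
 (.leaf 0)))))
 (.node (.node (.node (.node (.leaf 1286172)
 (.leaf 7831580))
 (.node (.leaf 1171457)
 (.leaf 25634244)))
 (.node (.node (.leaf 3375143)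
 (.leaf 2670620))
 (.node (.leaf 5431324)
 (.leaf 0))))
 (.node (.node (.node (.leaf 3383335)
 (.leaf 20160884))
 (.node (.leaf 11223079)
 (.leaf 28550596)))
 (.node (.node (.leaf 7577645)
 (.leaf 24355335))
 (.node (.leaf 2670621)
 (.leaf 0))))))
 (.node (.node (.node (.node (.node (.leaf 229392)
 (.leaf 1908737))
 (.node (.leaf 8380444)
 (.leaf 24265053)))
 (.node (.node (.leaf 4956202)
 (.leaf 21734849))
 (.node (.leaf 884765)
 (.leaf 0))))
 (.node (.node (.node (.leaf 2211856)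
 (.leaf 19636710))
 (.node (.leaf 458753)
 (.leaf 28026308)))
 (.node (.node (.leaf 7053340)
 (.leaf 23831047))
 (.node (.leaf 15441963)
 (.leaf 0)))))
 (.node (.node (.node (.node (.leaf 811024)
 (.leaf 18587876))
 (.node (.leaf 10199056)
 (.leaf 26976775)))
 (.node (.node (.leaf 6004781)
 (.leaf 22602077))
 (.node (.leaf 7045121)
 (.leaf 0))))
 (.node (.node (.node (.leaf 647210)
 (.leaf 20685172))
 (.node (.leaf 12296208)
 (.leaf 26722823)))
 (.node (.node (.leaf 8101904)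
 (.leaf 24879623))
 (.node (.leaf 9068546)
 (.leaf 0)))))))
 (.node (.node (.node (.node (.node (.node (.leaf 499728)
 (.leaf 17276973))
 (.node (.leaf 4816935)
 (.leaf 23642461)))
 (.node (.node (.leaf 4694044)
 (.leaf 21471866))
 (.node (.leaf 3473450)
 (.leaf 0))))
 (.node (.node (.node (.leaf 540688)
 (.leaf 4243974))
 (.node (.leaf 3096615)
 (.leaf 27763037)))
 (.node (.node (.leaf 6791196)
 (.leaf 22659421))
 (.node (.leaf 2949149)
 (.leaf 0)))))
 (.node (.node (.node (.node (.leaf 1548304)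
 (.leaf 18317769))
 (.node (.leaf 8388647)
 (.leaf 26714461)))
 (.node (.node (.leaf 5742631)
 (.leaf 22520327))
 (.node (.leaf 11296813)
 (.leaf 0))))
 (.node (.node (.node (.leaf 3645479)
 (.leaf 20423028))
 (.node (.leaf 7872551)
 (.leaf 28812740)))
 (.node (.node (.leaf 7839772)
 (.leaf 24617479))
 (.node (.leaf 5718045)
 (.leaf 0))))))
 (.node (.node (.node (.node (.node (.leaf 851996)
 (.leaf 5021697))
 (.node (.leaf 9412636)
 (.leaf 26191300)))
 (.node (.node (.leaf 5218332)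
 (.leaf 11386919))
 (.node (.leaf 4055068)
 (.leaf 0))))
 (.node (.node (.node (.leaf 3121180)
 (.leaf 19898886))
 (.node (.leaf 11509799)
 (.leaf 24535389)))
 (.node (.node (.leaf 3006503)
 (.leaf 24093191))
 (.node (.leaf 15310890)
 (.leaf 0)))))
 (.node (.node (.node (.node (.leaf 1097767)
 (.leaf 18768358))
 (.node (.leaf 7348240)
 (.leaf 27239876)))
 (.node (.node (.leaf 6266881)
 (.leaf 23044445))
 (.node (.leaf 8445954)
 (.leaf 0))))
 (.node (.node (.node (.leaf 4169767)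
 (.leaf 20947922))
 (.node (.leaf 12558365)
 (.leaf 17924136)))
 (.node (.node (.leaf 8364073)
 (.leaf 24133981))
 (.node (.leaf 12910594)
 (.leaf 0)))))))))

/-- Part 15 of `par`. -/
def par15 : Tbl :=
 (.node (.node (.node (.node (.node (.node (.node (.node (.leaf 114691)
 (.leaf 13844519))
 (.node (.leaf 7208988)
 (.leaf 25281988)))
 (.node (.node (.leaf 3080208)
 (.leaf 21086842))
 (.node (.leaf 9134096)
 (.leaf 0))))
 (.node (.node (.node (.leaf 2211868)
 (.leaf 18989428))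
 (.node (.leaf 4071454)
 (.leaf 27378183)))
 (.node (.node (.leaf 1310759)
 (.leaf 23183879))
 (.node (.leaf 4284417)
 (.leaf 0)))))
 (.node (.node (.node (.node (.leaf 1163280)
 (.leaf 1056797))
 (.node (.leaf 9551900)
 (.leaf 24174941)))
 (.node (.node (.leaf 1949712)
 (.leaf 15777820))
 (.node (.leaf 4767783)
 (.leaf 0))))
 (.node (.node (.node (.leaf 3260417)
 (.leaf 19661318))
 (.node (.leaf 11649069)
 (.leaf 28426589)))
 (.node (.node (.leaf 4751388)
 (.leaf 24232455))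
 (.node (.leaf 9797671)
 (.leaf 0))))))
 (.node (.node (.node (.node (.node (.leaf 639015)
 (.leaf 14573608))
 (.node (.leaf 999440)
 (.leaf 25805149)))
 (.node (.node (.leaf 4833308)
 (.leaf 21537402))
 (.node (.leaf 13221891)
 (.leaf 0))))
 (.node (.node (.node (.leaf 2736167)
 (.leaf 19513716))
 (.node (.leaf 4014108)
 (.leaf 26165767)))
 (.node (.node (.leaf 6930448)
 (.leaf 22807047))
 (.node (.leaf 11370498)
 (.leaf 0)))))
 (.node (.node (.node (.node (.leaf 720912)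
 (.leaf 18327138))
 (.node (.leaf 1556508)
 (.leaf 26853895)))
 (.node (.node (.leaf 2727964)
 (.leaf 22659591))
 (.node (.leaf 14270480)
 (.leaf 0))))
 (.node (.node (.node (.leaf 3784743)
 (.leaf 20562406))
 (.node (.leaf 7225386)
 (.leaf 24954308)))
 (.node (.node (.leaf 7667751)
 (.leaf 24757700))
 (.node (.leaf 12894224)
 (.leaf 0)))))))
 (.node (.node (.node (.node (.node (.node (.leaf 229415)
 (.leaf 11198465))
 (.node (.leaf 5341229)
 (.leaf 24371549)))
 (.node (.node (.leaf 4571164)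
 (.leaf 21348986))
 (.node (.leaf 12501033)
 (.leaf 0))))
 (.node (.node (.node (.leaf 2400295)
 (.leaf 19251686))
 (.node (.leaf 10862608)
 (.leaf 27640157)))
 (.node (.node (.leaf 6668327)
 (.leaf 23446023))
 (.node (.leaf 11583504)
 (.leaf 0)))))
 (.node (.node (.node (.node (.leaf 1425447)
 (.leaf 17276970))
 (.node (.leaf 9814055)
 (.leaf 26591751)))
 (.node (.node (.leaf 5619713)
 (.leaf 22396956))
 (.node (.leaf 8445980)
 (.leaf 0))))
 (.node (.node (.node (.leaf 3522589)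
 (.leaf 20300148))
 (.node (.leaf 3104810)
 (.leaf 28689860)))
 (.node (.node (.leaf 6733853)
 (.leaf 23774660))
 (.node (.leaf 8445996)
 (.leaf 0))))))
 (.node (.node (.node (.node (.node (.leaf 491559)
 (.leaf 17678375))
 (.node (.leaf 516135)
 (.leaf 23060999)))
 (.node (.node (.leaf 5095441)
 (.leaf 21874113))
 (.node (.leaf 11395088)
 (.leaf 0))))
 (.node (.node (.node (.leaf 2998311)
 (.leaf 19104116))
 (.node (.leaf 11386908)
 (.leaf 28164615)))
 (.node (.node (.leaf 2809884)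
 (.leaf 23807428))
 (.node (.leaf 1671208)
 (.leaf 0)))))
 (.node (.node (.node (.node (.leaf 1949724)
 (.leaf 18579684))
 (.node (.leaf 10338305)
 (.leaf 27116996)))
 (.node (.node (.leaf 6144039)
 (.leaf 22921565))
 (.node (.leaf 2539562)
 (.leaf 0))))
 (.node (.node (.node (.leaf 4046876)
 (.leaf 12068289))
 (.node (.leaf 8609820)
 (.leaf 29213021)))
 (.node (.node (.leaf 8241180)
 (.leaf 25018887))
 (.node (.leaf 3653661)
 (.leaf 0))))))))
 (.node (.node (.node (.node (.node (.node (.node (.leaf 245761)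
 (.leaf 10215454))
 (.node (.leaf 4317185)
 (.leaf 25412103)))
 (.node (.node (.leaf 4440092)
 (.leaf 21218753))
 (.node (.leaf 1097757)
 (.leaf 0))))
 (.node (.node (.node (.leaf 2342940)
 (.leaf 3981684))
 (.node (.leaf 10731559)
 (.leaf 27321796)))
 (.node (.node (.leaf 3375132)
 (.leaf 23314951))
 (.node (.leaf 14925866)
 (.leaf 0)))))
 (.node (.node (.node (.node (.leaf 1294375)
 (.leaf 18071553))
 (.node (.leaf 8388624)
 (.leaf 26460679)))
 (.node (.node (.leaf 5488668)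
 (.leaf 15925276))
 (.node (.leaf 11403266)
 (.leaf 0))))
 (.node (.node (.node (.leaf 638992)
 (.leaf 19112308))
 (.node (.leaf 9756701)
 (.leaf 28557661)))
 (.node (.node (.leaf 3293200)
 (.leaf 24363357))
 (.node (.leaf 9715714)
 (.leaf 0))))))
 (.node (.node (.node (.node (.node (.leaf 770087)
 (.leaf 12894238))
 (.node (.leaf 4997136)
 (.leaf 23799236)))
 (.node (.node (.leaf 2539548)
 (.leaf 21742202))
 (.node (.leaf 6094887)
 (.leaf 0))))
 (.node (.node (.node (.leaf 573456)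
 (.leaf 19644934))
 (.node (.leaf 5775400)
 (.leaf 24592733)))
 (.node (.node (.leaf 7061505)
 (.leaf 22651399))
 (.node (.leaf 5332993)
 (.leaf 0)))))
 (.node (.node (.node (.node (.leaf 1818652)
 (.leaf 18546742))
 (.node (.leaf 10207260)
 (.leaf 26985924)))
 (.node (.node (.leaf 401436)
 (.leaf 4252167))
 (.node (.leaf 4522012)
 (.leaf 0))))
 (.node (.node (.node (.leaf 2220048)
 (.leaf 20693478))
 (.node (.leaf 4677674)
 (.leaf 29083076)))
 (.node (.node (.leaf 8110096)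
 (.leaf 24430020))
 (.node (.leaf 5865500)
 (.leaf 0)))))))
 (.node (.node (.node (.node (.node (.node (.leaf 507920)
 (.leaf 4153360))
 (.node (.leaf 6021150)
 (.leaf 25675204)))
 (.node (.node (.leaf 4702237)
 (.leaf 21480897))
 (.node (.leaf 9011216)
 (.leaf 0))))
 (.node (.node (.node (.leaf 2605072)
 (.leaf 19382758))
 (.node (.leaf 1040429)
 (.leaf 24176068)))
 (.node (.node (.leaf 6799402)
 (.leaf 23577095))
 (.node (.leaf 14786602)
 (.leaf 0)))))
 (.node (.node (.node (.node (.leaf 1556519)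
 (.leaf 18325659))
 (.node (.leaf 9945116)
 (.leaf 26304861)))
 (.node (.node (.leaf 5750812)
 (.leaf 22528519))
 (.node (.leaf 7176220)
 (.leaf 0))))
 (.node (.node (.node (.leaf 3653660)
 (.leaf 20431334))
 (.node (.leaf 4235304)
 (.leaf 23814493)))
 (.node (.node (.leaf 507932)
 (.leaf 24626628))
 (.node (.leaf 5161002)
 (.leaf 0))))))
 (.node (.node (.node (.node (.node (.leaf 319516)
 (.leaf 16580624))
 (.node (.leaf 9256988)
 (.leaf 22839645)))
 (.node (.node (.leaf 5226512)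
 (.leaf 16965660))
 (.node (.leaf 13615132)
 (.leaf 0))))
 (.node (.node (.node (.leaf 3129383)
 (.leaf 19562982))
 (.node (.leaf 9543696)
 (.leaf 28295517)))
 (.node (.node (.leaf 7323664)
 (.leaf 22970887))
 (.node (.leaf 7462928)
 (.leaf 0)))))
 (.node (.node (.node (.node (.leaf 1286183)
 (.leaf 18858356))
 (.node (.leaf 10469404)
 (.leaf 27247111)))
 (.node (.node (.leaf 1753104)
 (.leaf 22692359))
 (.node (.leaf 4718631)
 (.leaf 0))))
 (.node (.node (.node (.leaf 475152)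
 (.leaf 20956609))
 (.node (.leaf 3686416)
 (.leaf 17563677)))
 (.node (.node (.leaf 5488679)
 (.leaf 25150916))
 (.node (.leaf 12533761)
 (.leaf 0)))))))))

/-- The table `par`. -/
def par : Tbl :=
 (.node (.node (.node (.node par0 par8) (.node par4 par12)) (.node (.node par2 par10) (.node par6 par14))) (.node (.node (.node par1 par9) (.node par5 par13)) (.node (.node par3 par11) (.node par7 par15))))

/-- Part 0 of `tag`. -/
def tag0 : Tbl :=
 (.node (.node (.node (.node (.node (.node (.node (.node (.leaf 63)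
 (.leaf 0))
 (.node (.leaf 16)
 (.leaf 32)))
 (.node (.node (.leaf 16)
 (.leaf 8))
 (.node (.leaf 0)
 (.leaf 0))))
 (.node (.node (.node (.leaf 16)
 (.leaf 4))
 (.node (.leaf 0)
 (.leaf 32)))
 (.node (.node (.leaf 16)
 (.leaf 32))
 (.node (.leaf 0)
 (.leaf 63)))))
 (.node (.node (.node (.node (.leaf 16)
 (.leaf 0))
 (.node (.leaf 16)
 (.leaf 32)))
 (.node (.node (.leaf 16)
 (.leaf 16))
 (.node (.leaf 0)
 (.leaf 63))))
 (.node (.node (.node (.leaf 16)
 (.leaf 4))
 (.node (.leaf 0)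
 (.leaf 32)))
 (.node (.node (.leaf 0)
 (.leaf 32))
 (.node (.leaf 16)
 (.leaf 63))))))
 (.node (.node (.node (.node (.node (.leaf 0)
 (.leaf 0))
 (.node (.leaf 0)
 (.leaf 32)))
 (.node (.node (.leaf 16)
 (.leaf 8))
 (.node (.leaf 16)
 (.leaf 63))))
 (.node (.node (.node (.leaf 16)
 (.leaf 4))
 (.node (.leaf 16)
 (.leaf 32)))
 (.node (.node (.leaf 0)
 (.leaf 32))
 (.node (.leaf 16)
 (.leaf 63)))))
 (.node (.node (.node (.node (.leaf 16)
 (.leaf 1))
 (.node (.leaf 0)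
 (.leaf 32)))
 (.node (.node (.leaf 16)
 (.leaf 32))
 (.node (.leaf 16)
 (.leaf 63))))
 (.node (.node (.node (.leaf 16)
 (.leaf 4))
 (.node (.leaf 0)
 (.leaf 32)))
 (.node (.node (.leaf 16)
 (.leaf 32))
 (.node (.leaf 16)
 (.leaf 63)))))))
 (.node (.node (.node (.node (.node (.node (.leaf 0)
 (.leaf 0))
 (.node (.leaf 0)
 (.leaf 32)))
 (.node (.node (.leaf 16)
 (.leaf 8))
 (.node (.leaf 16)
 (.leaf 63))))
 (.node (.node (.node (.leaf 16)
 (.leaf 4))
 (.node (.leaf 16)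
 (.leaf 32)))
 (.node (.node (.leaf 16)
 (.leaf 32))
 (.node (.leaf 0)
 (.leaf 63)))))
 (.node (.node (.node (.node (.leaf 16)
 (.leaf 16))
 (.node (.leaf 16)
 (.leaf 32)))
 (.node (.node (.leaf 16)
 (.leaf 16))
 (.node (.leaf 0)
 (.leaf 63))))
 (.node (.node (.node (.leaf 16)
 (.leaf 4))
 (.node (.leaf 0)
 (.leaf 32)))
 (.node (.node (.leaf 16)
 (.leaf 32))
 (.node (.leaf 16)
 (.leaf 63))))))
 (.node (.node (.node (.node (.node (.leaf 16)
 (.leaf 16))
 (.node (.leaf 0)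
 (.leaf 32)))
 (.node (.node (.leaf 0)
 (.leaf 8))
 (.node (.leaf 16)
 (.leaf 63))))
 (.node (.node (.node (.leaf 16)
 (.leaf 4))
 (.node (.leaf 16)
 (.leaf 32)))
 (.node (.node (.leaf 16)
 (.leaf 32))
 (.node (.leaf 0)
 (.leaf 63)))))
 (.node (.node (.node (.node (.leaf 16)
 (.leaf 2))
 (.node (.leaf 16)
 (.leaf 32)))
 (.node (.node (.leaf 16)
 (.leaf 32))
 (.node (.leaf 0)
 (.leaf 63))))
 (.node (.node (.node (.leaf 0)
 (.leaf 4))
 (.node (.leaf 16)
 (.leaf 32)))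
 (.node (.node (.leaf 16)
 (.leaf 32))
 (.node (.leaf 16)
 (.leaf 63))))))))
 (.node (.node (.node (.node (.node (.node (.node (.leaf 16)
 (.leaf 0))
 (.node (.leaf 16)
 (.leaf 32)))
 (.node (.node (.leaf 16)
 (.leaf 8))
 (.node (.leaf 0)
 (.leaf 63))))
 (.node (.node (.node (.leaf 16)
 (.leaf 4))
 (.node (.leaf 0)
 (.leaf 32)))
 (.node (.node (.leaf 16)
 (.leaf 32))
 (.node (.leaf 0)
 (.leaf 63)))))
 (.node (.node (.node (.node (.leaf 16)
 (.leaf 0))
 (.node (.leaf 16)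
 (.leaf 32)))
 (.node (.node (.leaf 16)
 (.leaf 16))
 (.node (.leaf 0)
 (.leaf 63))))
 (.node (.node (.node (.leaf 16)
 (.leaf 4))
 (.node (.leaf 0)
 (.leaf 32)))
 (.node (.node (.leaf 16)
 (.leaf 32))
 (.node (.leaf 0)
 (.leaf 63))))))
 (.node (.node (.node (.node (.node (.leaf 16)
 (.leaf 0))
 (.node (.leaf 16)
 (.leaf 32)))
 (.node (.node (.leaf 16)
 (.leaf 8))
 (.node (.leaf 16)
 (.leaf 63))))
 (.node (.node (.node (.leaf 16)
 (.leaf 4))
 (.node (.leaf 16)
 (.leaf 32)))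
 (.node (.node (.leaf 0)
 (.leaf 32))
 (.node (.leaf 16)
 (.leaf 63)))))
 (.node (.node (.node (.node (.leaf 16)
 (.leaf 1))
 (.node (.leaf 0)
 (.leaf 32)))
 (.node (.node (.leaf 16)
 (.leaf 32))
 (.node (.leaf 16)
 (.leaf 63))))
 (.node (.node (.node (.leaf 16)
 (.leaf 4))
 (.node (.leaf 16)
 (.leaf 32)))
 (.node (.node (.leaf 16)
 (.leaf 32))
 (.node (.leaf 0)
 (.leaf 63)))))))
 (.node (.node (.node (.node (.node (.node (.leaf 16)
 (.leaf 0))
 (.node (.leaf 16)
 (.leaf 32)))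
 (.node (.node (.leaf 16)
 (.leaf 8))
 (.node (.leaf 0)
 (.leaf 63))))
 (.node (.node (.node (.leaf 0)
 (.leaf 4))
 (.node (.leaf 16)
 (.leaf 32)))
 (.node (.node (.leaf 0)
 (.leaf 32))
 (.node (.leaf 16)
 (.leaf 63)))))
 (.node (.node (.node (.node (.leaf 0)
 (.leaf 0))
 (.node (.leaf 0)
 (.leaf 32)))
 (.node (.node (.leaf 16)
 (.leaf 16))
 (.node (.leaf 0)
 (.leaf 63))))
 (.node (.node (.node (.leaf 16)
 (.leaf 4))
 (.node (.leaf 0)
 (.leaf 32)))
 (.node (.node (.leaf 16)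
 (.leaf 32))
 (.node (.leaf 16)
 (.leaf 63))))))
 (.node (.node (.node (.node (.node (.leaf 16)
 (.leaf 16))
 (.node (.leaf 16)
 (.leaf 32)))
 (.node (.node (.leaf 16)
 (.leaf 8))
 (.node (.leaf 0)
 (.leaf 63))))
 (.node (.node (.node (.leaf 16)
 (.leaf 4))
 (.node (.leaf 16)
 (.leaf 32)))
 (.node (.node (.leaf 16)
 (.leaf 32))
 (.node (.leaf 16)
 (.leaf 63)))))
 (.node (.node (.node (.node (.leaf 16)
 (.leaf 2))
 (.node (.leaf 16)
 (.leaf 32)))
 (.node (.node (.leaf 16)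
 (.leaf 32))
 (.node (.leaf 0)
 (.leaf 63))))
 (.node (.node (.node (.leaf 16)
 (.leaf 8))
 (.node (.leaf 16)
 (.leaf 32)))
 (.node (.node (.leaf 0)
 (.leaf 32))
 (.node (.leaf 0)
 (.leaf 63)))))))))

/-- Part 1 of `tag`. -/
def tag1 : Tbl :=
 (.node (.node (.node (.node (.node (.node (.node (.node (.leaf 0)
 (.leaf 0))
 (.node (.leaf 0)
 (.leaf 32)))
 (.node (.node (.leaf 16)
 (.leaf 8))
 (.node (.leaf 0)
 (.leaf 0))))
 (.node (.node (.node (.leaf 16)
 (.leaf 4))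
 (.node (.leaf 16)
 (.leaf 32)))
 (.node (.node (.leaf 16)
 (.leaf 32))
 (.node (.leaf 0)
 (.leaf 63)))))
 (.node (.node (.node (.node (.leaf 16)
 (.leaf 0))
 (.node (.leaf 0)
 (.leaf 32)))
 (.node (.node (.leaf 16)
 (.leaf 16))
 (.node (.leaf 16)
 (.leaf 63))))
 (.node (.node (.node (.leaf 16)
 (.leaf 4))
 (.node (.leaf 16)
 (.leaf 32)))
 (.node (.node (.leaf 16)
 (.leaf 32))
 (.node (.leaf 0)
 (.leaf 63))))))
 (.node (.node (.node (.node (.node (.leaf 16)
 (.leaf 0))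
 (.node (.leaf 16)
 (.leaf 32)))
 (.node (.node (.leaf 16)
 (.leaf 8))
 (.node (.leaf 0)
 (.leaf 63))))
 (.node (.node (.node (.leaf 16)
 (.leaf 4))
 (.node (.leaf 16)
 (.leaf 32)))
 (.node (.node (.leaf 16)
 (.leaf 32))
 (.node (.leaf 0)
 (.leaf 63)))))
 (.node (.node (.node (.node (.leaf 16)
 (.leaf 1))
 (.node (.leaf 16)
 (.leaf 32)))
 (.node (.node (.leaf 16)
 (.leaf 32))
 (.node (.leaf 0)
 (.leaf 63))))
 (.node (.node (.node (.leaf 0)
 (.leaf 4))
 (.node (.leaf 8)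
 (.leaf 32)))
 (.node (.node (.leaf 16)
 (.leaf 32))
 (.node (.leaf 0)
 (.leaf 63)))))))
 (.node (.node (.node (.node (.node (.node (.leaf 0)
 (.leaf 0))
 (.node (.leaf 0)
 (.leaf 32)))
 (.node (.node (.leaf 16)
 (.leaf 8))
 (.node (.leaf 16)
 (.leaf 63))))
 (.node (.node (.node (.leaf 0)
 (.leaf 4))
 (.node (.leaf 0)
 (.leaf 32)))
 (.node (.node (.leaf 16)
 (.leaf 32))
 (.node (.leaf 16)
 (.leaf 63)))))
 (.node (.node (.node (.node (.leaf 16)
 (.leaf 0))
 (.node (.leaf 16)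
 (.leaf 32)))
 (.node (.node (.leaf 0)
 (.leaf 16))
 (.node (.leaf 0)
 (.leaf 63))))
 (.node (.node (.node (.leaf 16)
 (.leaf 4))
 (.node (.leaf 16)
 (.leaf 32)))
 (.node (.node (.leaf 0)
 (.leaf 32))
 (.node (.leaf 0)
 (.leaf 63))))))
 (.node (.node (.node (.node (.node (.leaf 16)
 (.leaf 16))
 (.node (.leaf 0)
 (.leaf 32)))
 (.node (.node (.leaf 16)
 (.leaf 8))
 (.node (.leaf 0)
 (.leaf 63))))
 (.node (.node (.node (.leaf 0)
 (.leaf 4))
 (.node (.leaf 16)
 (.leaf 32)))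
 (.node (.node (.leaf 16)
 (.leaf 32))
 (.node (.leaf 0)
 (.leaf 63)))))
 (.node (.node (.node (.node (.leaf 16)
 (.leaf 2))
 (.node (.leaf 0)
 (.leaf 32)))
 (.node (.node (.leaf 16)
 (.leaf 32))
 (.node (.leaf 0)
 (.leaf 63))))
 (.node (.node (.node (.leaf 0)
 (.leaf 8))
 (.node (.leaf 0)
 (.leaf 32)))
 (.node (.node (.leaf 0)
 (.leaf 32))
 (.node (.leaf 0)
 (.leaf 63))))))))
 (.node (.node (.node (.node (.node (.node (.node (.leaf 0)
 (.leaf 0))
 (.node (.leaf 16)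
 (.leaf 32)))
 (.node (.node (.leaf 16)
 (.leaf 8))
 (.node (.leaf 0)
 (.leaf 63))))
 (.node (.node (.node (.leaf 0)
 (.leaf 4))
 (.node (.leaf 0)
 (.leaf 32)))
 (.node (.node (.leaf 16)
 (.leaf 32))
 (.node (.leaf 0)
 (.leaf 63)))))
 (.node (.node (.node (.node (.leaf 16)
 (.leaf 0))
 (.node (.leaf 16)
 (.leaf 32)))
 (.node (.node (.leaf 16)
 (.leaf 16))
 (.node (.leaf 16)
 (.leaf 63))))
 (.node (.node (.node (.leaf 16)
 (.leaf 4))
 (.node (.leaf 16)
 (.leaf 32)))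
 (.node (.node (.leaf 16)
 (.leaf 32))
 (.node (.leaf 0)
 (.leaf 63))))))
 (.node (.node (.node (.node (.node (.leaf 16)
 (.leaf 0))
 (.node (.leaf 0)
 (.leaf 32)))
 (.node (.node (.leaf 0)
 (.leaf 8))
 (.node (.leaf 16)
 (.leaf 63))))
 (.node (.node (.node (.leaf 16)
 (.leaf 4))
 (.node (.leaf 16)
 (.leaf 32)))
 (.node (.node (.leaf 0)
 (.leaf 32))
 (.node (.leaf 0)
 (.leaf 63)))))
 (.node (.node (.node (.node (.leaf 16)
 (.leaf 1))
 (.node (.leaf 16)
 (.leaf 32)))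
 (.node (.node (.leaf 0)
 (.leaf 32))
 (.node (.leaf 0)
 (.leaf 63))))
 (.node (.node (.node (.leaf 16)
 (.leaf 4))
 (.node (.leaf 0)
 (.leaf 32)))
 (.node (.node (.leaf 16)
 (.leaf 32))
 (.node (.leaf 0)
 (.leaf 63)))))))
 (.node (.node (.node (.node (.node (.node (.leaf 16)
 (.leaf 0))
 (.node (.leaf 0)
 (.leaf 32)))
 (.node (.node (.leaf 0)
 (.leaf 8))
 (.node (.leaf 0)
 (.leaf 63))))
 (.node (.node (.node (.leaf 16)
 (.leaf 4))
 (.node (.leaf 16)
 (.leaf 32)))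
 (.node (.node (.leaf 16)
 (.leaf 32))
 (.node (.leaf 16)
 (.leaf 63)))))
 (.node (.node (.node (.node (.leaf 16)
 (.leaf 0))
 (.node (.leaf 16)
 (.leaf 32)))
 (.node (.node (.leaf 16)
 (.leaf 16))
 (.node (.leaf 0)
 (.leaf 63))))
 (.node (.node (.node (.leaf 16)
 (.leaf 4))
 (.node (.leaf 16)
 (.leaf 32)))
 (.node (.node (.leaf 16)
 (.leaf 32))
 (.node (.leaf 0)
 (.leaf 63))))))
 (.node (.node (.node (.node (.node (.leaf 16)
 (.leaf 16))
 (.node (.leaf 16)
 (.leaf 32)))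
 (.node (.node (.leaf 0)
 (.leaf 8))
 (.node (.leaf 16)
 (.leaf 63))))
 (.node (.node (.node (.leaf 16)
 (.leaf 4))
 (.node (.leaf 0)
 (.leaf 32)))
 (.node (.node (.leaf 16)
 (.leaf 32))
 (.node (.leaf 16)
 (.leaf 63)))))
 (.node (.node (.node (.node (.leaf 0)
 (.leaf 2))
 (.node (.leaf 0)
 (.leaf 32)))
 (.node (.node (.leaf 16)
 (.leaf 32))
 (.node (.leaf 0)
 (.leaf 63))))
 (.node (.node (.node (.leaf 16)
 (.leaf 8))
 (.node (.leaf 0)
 (.leaf 32)))
 (.node (.node (.leaf 16)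
 (.leaf 32))
 (.node (.leaf 16)
 (.leaf 63)))))))))

/-- Part 2 of `tag`. -/
def tag2 : Tbl :=
 (.node (.node (.node (.node (.node (.node (.node (.node (.leaf 0)
 (.leaf 0))
 (.node (.leaf 16)
 (.leaf 32)))
 (.node (.node (.leaf 16)
 (.leaf 8))
 (.node (.leaf 16)
 (.leaf 0))))
 (.node (.node (.node (.leaf 0)
 (.leaf 4))
 (.node (.leaf 16)
 (.leaf 32)))
 (.node (.node (.leaf 0)
 (.leaf 32))
 (.node (.leaf 0)
 (.leaf 63)))))
 (.node (.node (.node (.node (.leaf 16)
 (.leaf 0))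
 (.node (.leaf 0)
 (.leaf 32)))
 (.node (.node (.leaf 16)
 (.leaf 16))
 (.node (.leaf 16)
 (.leaf 63))))
 (.node (.node (.node (.leaf 0)
 (.leaf 4))
 (.node (.leaf 16)
 (.leaf 32)))
 (.node (.node (.leaf 16)
 (.leaf 32))
 (.node (.leaf 0)
 (.leaf 63))))))
 (.node (.node (.node (.node (.node (.leaf 16)
 (.leaf 16))
 (.node (.leaf 16)
 (.leaf 32)))
 (.node (.node (.leaf 16)
 (.leaf 8))
 (.node (.leaf 16)
 (.leaf 63))))
 (.node (.node (.node (.leaf 16)
 (.leaf 4))
 (.node (.leaf 16)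
 (.leaf 32)))
 (.node (.node (.leaf 0)
 (.leaf 32))
 (.node (.leaf 16)
 (.leaf 63)))))
 (.node (.node (.node (.node (.leaf 16)
 (.leaf 1))
 (.node (.leaf 16)
 (.leaf 32)))
 (.node (.node (.leaf 16)
 (.leaf 32))
 (.node (.leaf 16)
 (.leaf 63))))
 (.node (.node (.node (.leaf 16)
 (.leaf 4))
 (.node (.leaf 16)
 (.leaf 32)))
 (.node (.node (.leaf 0)
 (.leaf 32))
 (.node (.leaf 16)
 (.leaf 63)))))))
 (.node (.node (.node (.node (.node (.node (.leaf 0)
 (.leaf 16))
 (.node (.leaf 0)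
 (.leaf 32)))
 (.node (.node (.leaf 16)
 (.leaf 8))
 (.node (.leaf 16)
 (.leaf 63))))
 (.node (.node (.node (.leaf 16)
 (.leaf 4))
 (.node (.leaf 0)
 (.leaf 32)))
 (.node (.node (.leaf 16)
 (.leaf 32))
 (.node (.leaf 0)
 (.leaf 63)))))
 (.node (.node (.node (.node (.leaf 0)
 (.leaf 0))
 (.node (.leaf 16)
 (.leaf 32)))
 (.node (.node (.leaf 16)
 (.leaf 16))
 (.node (.leaf 0)
 (.leaf 63))))
 (.node (.node (.node (.leaf 16)
 (.leaf 4))
 (.node (.leaf 0)
 (.leaf 32)))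
 (.node (.node (.leaf 16)
 (.leaf 32))
 (.node (.leaf 0)
 (.leaf 63))))))
 (.node (.node (.node (.node (.node (.leaf 16)
 (.leaf 0))
 (.node (.leaf 0)
 (.leaf 32)))
 (.node (.node (.leaf 16)
 (.leaf 8))
 (.node (.leaf 17)
 (.leaf 63))))
 (.node (.node (.node (.leaf 16)
 (.leaf 4))
 (.node (.leaf 0)
 (.leaf 32)))
 (.node (.node (.leaf 16)
 (.leaf 32))
 (.node (.leaf 16)
 (.leaf 63)))))
 (.node (.node (.node (.node (.leaf 0)
 (.leaf 2))
 (.node (.leaf 0)
 (.leaf 32)))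
 (.node (.node (.leaf 0)
 (.leaf 32))
 (.node (.leaf 0)
 (.leaf 63))))
 (.node (.node (.node (.leaf 16)
 (.leaf 8))
 (.node (.leaf 0)
 (.leaf 32)))
 (.node (.node (.leaf 16)
 (.leaf 32))
 (.node (.leaf 16)
 (.leaf 63))))))))
 (.node (.node (.node (.node (.node (.node (.node (.leaf 0)
 (.leaf 0))
 (.node (.leaf 0)
 (.leaf 32)))
 (.node (.node (.leaf 0)
 (.leaf 8))
 (.node (.leaf 16)
 (.leaf 63))))
 (.node (.node (.node (.leaf 16)
 (.leaf 4))
 (.node (.leaf 16)
 (.leaf 32)))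
 (.node (.node (.leaf 16)
 (.leaf 32))
 (.node (.leaf 0)
 (.leaf 63)))))
 (.node (.node (.node (.node (.leaf 16)
 (.leaf 16))
 (.node (.leaf 16)
 (.leaf 32)))
 (.node (.node (.leaf 0)
 (.leaf 16))
 (.node (.leaf 16)
 (.leaf 63))))
 (.node (.node (.node (.leaf 16)
 (.leaf 4))
 (.node (.leaf 16)
 (.leaf 32)))
 (.node (.node (.leaf 16)
 (.leaf 32))
 (.node (.leaf 16)
 (.leaf 63))))))
 (.node (.node (.node (.node (.node (.leaf 16)
 (.leaf 0))
 (.node (.leaf 16)
 (.leaf 32)))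
 (.node (.node (.leaf 16)
 (.leaf 8))
 (.node (.leaf 16)
 (.leaf 63))))
 (.node (.node (.node (.leaf 0)
 (.leaf 4))
 (.node (.leaf 0)
 (.leaf 32)))
 (.node (.node (.leaf 16)
 (.leaf 32))
 (.node (.leaf 0)
 (.leaf 63)))))
 (.node (.node (.node (.node (.leaf 16)
 (.leaf 1))
 (.node (.leaf 16)
 (.leaf 32)))
 (.node (.node (.leaf 16)
 (.leaf 32))
 (.node (.leaf 16)
 (.leaf 63))))
 (.node (.node (.node (.leaf 16)
 (.leaf 4))
 (.node (.leaf 0)
 (.leaf 32)))
 (.node (.node (.leaf 8)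
 (.leaf 32))
 (.node (.leaf 0)
 (.leaf 63)))))))
 (.node (.node (.node (.node (.node (.node (.leaf 16)
 (.leaf 0))
 (.node (.leaf 16)
 (.leaf 32)))
 (.node (.node (.leaf 16)
 (.leaf 8))
 (.node (.leaf 0)
 (.leaf 63))))
 (.node (.node (.node (.leaf 16)
 (.leaf 4))
 (.node (.leaf 0)
 (.leaf 32)))
 (.node (.node (.leaf 16)
 (.leaf 32))
 (.node (.leaf 0)
 (.leaf 63)))))
 (.node (.node (.node (.node (.leaf 16)
 (.leaf 0))
 (.node (.leaf 0)
 (.leaf 32)))
 (.node (.node (.leaf 16)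
 (.leaf 16))
 (.node (.leaf 0)
 (.leaf 63))))
 (.node (.node (.node (.leaf 16)
 (.leaf 4))
 (.node (.leaf 0)
 (.leaf 32)))
 (.node (.node (.leaf 16)
 (.leaf 32))
 (.node (.leaf 16)
 (.leaf 63))))))
 (.node (.node (.node (.node (.node (.leaf 0)
 (.leaf 0))
 (.node (.leaf 16)
 (.leaf 32)))
 (.node (.node (.leaf 16)
 (.leaf 8))
 (.node (.leaf 0)
 (.leaf 63))))
 (.node (.node (.node (.leaf 16)
 (.leaf 4))
 (.node (.leaf 0)
 (.leaf 32)))
 (.node (.node (.leaf 16)
 (.leaf 32))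
 (.node (.leaf 0)
 (.leaf 63)))))
 (.node (.node (.node (.node (.leaf 16)
 (.leaf 2))
 (.node (.leaf 16)
 (.leaf 32)))
 (.node (.node (.leaf 16)
 (.leaf 32))
 (.node (.leaf 0)
 (.leaf 63))))
 (.node (.node (.node (.leaf 0)
 (.leaf 8))
 (.node (.leaf 0)
 (.leaf 32)))
 (.node (.node (.leaf 0)
 (.leaf 32))
 (.node (.leaf 0)
 (.leaf 63)))))))))

/-- Part 3 of `tag`. -/
def tag3 : Tbl :=
 (.node (.node (.node (.node (.node (.node (.node (.node (.leaf 0)
 (.leaf 16))
 (.node (.leaf 16)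
 (.leaf 32)))
 (.node (.node (.leaf 16)
 (.leaf 8))
 (.node (.leaf 16)
 (.leaf 0))))
 (.node (.node (.node (.leaf 0)
 (.leaf 4))
 (.node (.leaf 0)
 (.leaf 32)))
 (.node (.node (.leaf 16)
 (.leaf 32))
 (.node (.leaf 16)
 (.leaf 63)))))
 (.node (.node (.node (.node (.leaf 16)
 (.leaf 0))
 (.node (.leaf 16)
 (.leaf 32)))
 (.node (.node (.leaf 0)
 (.leaf 16))
 (.node (.leaf 0)
 (.leaf 63))))
 (.node (.node (.node (.leaf 16)
 (.leaf 4))
 (.node (.leaf 16)
 (.leaf 32)))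
 (.node (.node (.leaf 16)
 (.leaf 32))
 (.node (.leaf 16)
 (.leaf 63))))))
 (.node (.node (.node (.node (.node (.leaf 16)
 (.leaf 0))
 (.node (.leaf 0)
 (.leaf 32)))
 (.node (.node (.leaf 0)
 (.leaf 8))
 (.node (.leaf 16)
 (.leaf 63))))
 (.node (.node (.node (.leaf 16)
 (.leaf 4))
 (.node (.leaf 16)
 (.leaf 32)))
 (.node (.node (.leaf 16)
 (.leaf 32))
 (.node (.leaf 16)
 (.leaf 63)))))
 (.node (.node (.node (.node (.leaf 16)
 (.leaf 1))
 (.node (.leaf 0)
 (.leaf 32)))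
 (.node (.node (.leaf 16)
 (.leaf 32))
 (.node (.leaf 16)
 (.leaf 63))))
 (.node (.node (.node (.leaf 16)
 (.leaf 4))
 (.node (.leaf 16)
 (.leaf 32)))
 (.node (.node (.leaf 16)
 (.leaf 32))
 (.node (.leaf 16)
 (.leaf 63)))))))
 (.node (.node (.node (.node (.node (.node (.leaf 0)
 (.leaf 0))
 (.node (.leaf 16)
 (.leaf 32)))
 (.node (.node (.leaf 16)
 (.leaf 8))
 (.node (.leaf 16)
 (.leaf 63))))
 (.node (.node (.node (.leaf 16)
 (.leaf 4))
 (.node (.leaf 16)
 (.leaf 32)))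
 (.node (.node (.leaf 0)
 (.leaf 32))
 (.node (.leaf 16)
 (.leaf 63)))))
 (.node (.node (.node (.node (.leaf 16)
 (.leaf 0))
 (.node (.leaf 16)
 (.leaf 32)))
 (.node (.node (.leaf 16)
 (.leaf 16))
 (.node (.leaf 16)
 (.leaf 63))))
 (.node (.node (.node (.leaf 0)
 (.leaf 4))
 (.node (.leaf 16)
 (.leaf 32)))
 (.node (.node (.leaf 0)
 (.leaf 32))
 (.node (.leaf 16)
 (.leaf 63))))))
 (.node (.node (.node (.node (.node (.leaf 16)
 (.leaf 0))
 (.node (.leaf 16)
 (.leaf 32)))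
 (.node (.node (.leaf 16)
 (.leaf 8))
 (.node (.leaf 0)
 (.leaf 63))))
 (.node (.node (.node (.leaf 16)
 (.leaf 4))
 (.node (.leaf 16)
 (.leaf 32)))
 (.node (.node (.leaf 16)
 (.leaf 32))
 (.node (.leaf 16)
 (.leaf 63)))))
 (.node (.node (.node (.node (.leaf 16)
 (.leaf 2))
 (.node (.leaf 0)
 (.leaf 32)))
 (.node (.node (.leaf 0)
 (.leaf 32))
 (.node (.leaf 0)
 (.leaf 63))))
 (.node (.node (.node (.leaf 16)
 (.leaf 8))
 (.node (.leaf 16)
 (.leaf 32)))
 (.node (.node (.leaf 16)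
 (.leaf 32))
 (.node (.leaf 0)
 (.leaf 63))))))))
 (.node (.node (.node (.node (.node (.node (.node (.leaf 0)
 (.leaf 16))
 (.node (.leaf 16)
 (.leaf 32)))
 (.node (.node (.leaf 16)
 (.leaf 8))
 (.node (.leaf 0)
 (.leaf 63))))
 (.node (.node (.node (.leaf 16)
 (.leaf 4))
 (.node (.leaf 0)
 (.leaf 32)))
 (.node (.node (.leaf 0)
 (.leaf 32))
 (.node (.leaf 0)
 (.leaf 63)))))
 (.node (.node (.node (.node (.leaf 0)
 (.leaf 0))
 (.node (.leaf 16)
 (.leaf 32)))
 (.node (.node (.leaf 0)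
 (.leaf 16))
 (.node (.leaf 0)
 (.leaf 63))))
 (.node (.node (.node (.leaf 0)
 (.leaf 4))
 (.node (.leaf 16)
 (.leaf 32)))
 (.node (.node (.leaf 16)
 (.leaf 32))
 (.node (.leaf 0)
 (.leaf 63))))))
 (.node (.node (.node (.node (.node (.leaf 16)
 (.leaf 16))
 (.node (.leaf 16)
 (.leaf 32)))
 (.node (.node (.leaf 16)
 (.leaf 8))
 (.node (.leaf 16)
 (.leaf 63))))
 (.node (.node (.node (.leaf 16)
 (.leaf 4))
 (.node (.leaf 16)
 (.leaf 32)))
 (.node (.node (.leaf 0)
 (.leaf 32))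
 (.node (.leaf 16)
 (.leaf 63)))))
 (.node (.node (.node (.node (.leaf 16)
 (.leaf 1))
 (.node (.leaf 0)
 (.leaf 32)))
 (.node (.node (.leaf 16)
 (.leaf 32))
 (.node (.leaf 0)
 (.leaf 63))))
 (.node (.node (.node (.leaf 16)
 (.leaf 4))
 (.node (.leaf 0)
 (.leaf 32)))
 (.node (.node (.leaf 16)
 (.leaf 32))
 (.node (.leaf 0)
 (.leaf 63)))))))
 (.node (.node (.node (.node (.node (.node (.leaf 16)
 (.leaf 0))
 (.node (.leaf 16)
 (.leaf 32)))
 (.node (.node (.leaf 16)
 (.leaf 8))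
 (.node (.leaf 16)
 (.leaf 63))))
 (.node (.node (.node (.leaf 16)
 (.leaf 4))
 (.node (.leaf 0)
 (.leaf 32)))
 (.node (.node (.leaf 16)
 (.leaf 32))
 (.node (.leaf 0)
 (.leaf 63)))))
 (.node (.node (.node (.node (.leaf 16)
 (.leaf 0))
 (.node (.leaf 16)
 (.leaf 32)))
 (.node (.node (.leaf 0)
 (.leaf 16))
 (.node (.leaf 0)
 (.leaf 63))))
 (.node (.node (.node (.leaf 0)
 (.leaf 4))
 (.node (.leaf 16)
 (.leaf 32)))
 (.node (.node (.leaf 16)
 (.leaf 32))
 (.node (.leaf 16)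
 (.leaf 63))))))
 (.node (.node (.node (.node (.node (.leaf 16)
 (.leaf 16))
 (.node (.leaf 0)
 (.leaf 32)))
 (.node (.node (.leaf 0)
 (.leaf 8))
 (.node (.leaf 0)
 (.leaf 63))))
 (.node (.node (.node (.leaf 16)
 (.leaf 4))
 (.node (.leaf 16)
 (.leaf 32)))
 (.node (.node (.leaf 16)
 (.leaf 32))
 (.node (.leaf 16)
 (.leaf 63)))))
 (.node (.node (.node (.node (.leaf 16)
 (.leaf 4))
 (.node (.leaf 0)
 (.leaf 32)))
 (.node (.node (.leaf 0)
 (.leaf 32))
 (.node (.leaf 16)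
 (.leaf 63))))
 (.node (.node (.node (.leaf 16)
 (.leaf 8))
 (.node (.leaf 16)
 (.leaf 32)))
 (.node (.node (.leaf 0)
 (.leaf 32))
 (.node (.leaf 16)
 (.leaf 63)))))))))

/-- Part 4 of `tag`. -/
def tag4 : Tbl :=
 (.node (.node (.node (.node (.node (.node (.node (.node (.leaf 0)
 (.leaf 16))
 (.node (.leaf 0)
 (.leaf 32)))
 (.node (.node (.leaf 0)
 (.leaf 8))
 (.node (.leaf 16)
 (.leaf 0))))
 (.node (.node (.node (.leaf 16)
 (.leaf 4))
 (.node (.leaf 16)
 (.leaf 32)))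
 (.node (.node (.leaf 16)
 (.leaf 32))
 (.node (.leaf 16)
 (.leaf 63)))))
 (.node (.node (.node (.node (.leaf 0)
 (.leaf 0))
 (.node (.leaf 16)
 (.leaf 32)))
 (.node (.node (.leaf 16)
 (.leaf 16))
 (.node (.leaf 0)
 (.leaf 63))))
 (.node (.node (.node (.leaf 16)
 (.leaf 4))
 (.node (.leaf 16)
 (.leaf 32)))
 (.node (.node (.leaf 0)
 (.leaf 32))
 (.node (.leaf 16)
 (.leaf 63))))))
 (.node (.node (.node (.node (.node (.leaf 0)
 (.leaf 16))
 (.node (.leaf 0)
 (.leaf 32)))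
 (.node (.node (.leaf 16)
 (.leaf 8))
 (.node (.leaf 16)
 (.leaf 63))))
 (.node (.node (.node (.leaf 0)
 (.leaf 4))
 (.node (.leaf 0)
 (.leaf 32)))
 (.node (.node (.leaf 0)
 (.leaf 32))
 (.node (.leaf 0)
 (.leaf 63)))))
 (.node (.node (.node (.node (.leaf 16)
 (.leaf 1))
 (.node (.leaf 16)
 (.leaf 32)))
 (.node (.node (.leaf 16)
 (.leaf 32))
 (.node (.leaf 0)
 (.leaf 63))))
 (.node (.node (.node (.leaf 0)
 (.leaf 4))
 (.node (.leaf 32)
 (.leaf 32)))
 (.node (.node (.leaf 16)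
 (.leaf 32))
 (.node (.leaf 0)
 (.leaf 63)))))))
 (.node (.node (.node (.node (.node (.node (.leaf 0)
 (.leaf 0))
 (.node (.leaf 0)
 (.leaf 32)))
 (.node (.node (.leaf 16)
 (.leaf 8))
 (.node (.leaf 16)
 (.leaf 63))))
 (.node (.node (.node (.leaf 0)
 (.leaf 4))
 (.node (.leaf 16)
 (.leaf 32)))
 (.node (.node (.leaf 16)
 (.leaf 32))
 (.node (.leaf 0)
 (.leaf 63)))))
 (.node (.node (.node (.node (.leaf 16)
 (.leaf 0))
 (.node (.leaf 16)
 (.leaf 32)))
 (.node (.node (.leaf 0)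
 (.leaf 16))
 (.node (.leaf 16)
 (.leaf 63))))
 (.node (.node (.node (.leaf 16)
 (.leaf 4))
 (.node (.leaf 16)
 (.leaf 32)))
 (.node (.node (.leaf 0)
 (.leaf 32))
 (.node (.leaf 16)
 (.leaf 63))))))
 (.node (.node (.node (.node (.node (.leaf 16)
 (.leaf 0))
 (.node (.leaf 16)
 (.leaf 32)))
 (.node (.node (.leaf 16)
 (.leaf 8))
 (.node (.leaf 0)
 (.leaf 63))))
 (.node (.node (.node (.leaf 0)
 (.leaf 4))
 (.node (.leaf 0)
 (.leaf 32)))
 (.node (.node (.leaf 0)
 (.leaf 32))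
 (.node (.leaf 0)
 (.leaf 63)))))
 (.node (.node (.node (.node (.leaf 18)
 (.leaf 2))
 (.node (.leaf 0)
 (.leaf 32)))
 (.node (.node (.leaf 16)
 (.leaf 32))
 (.node (.leaf 0)
 (.leaf 63))))
 (.node (.node (.node (.leaf 16)
 (.leaf 8))
 (.node (.leaf 16)
 (.leaf 32)))
 (.node (.node (.leaf 16)
 (.leaf 32))
 (.node (.leaf 16)
 (.leaf 63))))))))
 (.node (.node (.node (.node (.node (.node (.node (.leaf 0)
 (.leaf 16))
 (.node (.leaf 0)
 (.leaf 32)))
 (.node (.node (.leaf 16)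
 (.leaf 8))
 (.node (.leaf 0)
 (.leaf 63))))
 (.node (.node (.node (.leaf 16)
 (.leaf 4))
 (.node (.leaf 16)
 (.leaf 32)))
 (.node (.node (.leaf 0)
 (.leaf 32))
 (.node (.leaf 0)
 (.leaf 63)))))
 (.node (.node (.node (.node (.leaf 0)
 (.leaf 0))
 (.node (.leaf 16)
 (.leaf 32)))
 (.node (.node (.leaf 16)
 (.leaf 16))
 (.node (.leaf 16)
 (.leaf 63))))
 (.node (.node (.node (.leaf 0)
 (.leaf 4))
 (.node (.leaf 0)
 (.leaf 32)))
 (.node (.node (.leaf 16)
 (.leaf 32))
 (.node (.leaf 16)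
 (.leaf 63))))))
 (.node (.node (.node (.node (.node (.leaf 16)
 (.leaf 16))
 (.node (.leaf 0)
 (.leaf 32)))
 (.node (.node (.leaf 16)
 (.leaf 8))
 (.node (.leaf 0)
 (.leaf 63))))
 (.node (.node (.node (.leaf 0)
 (.leaf 4))
 (.node (.leaf 0)
 (.leaf 32)))
 (.node (.node (.leaf 16)
 (.leaf 32))
 (.node (.leaf 0)
 (.leaf 63)))))
 (.node (.node (.node (.node (.leaf 16)
 (.leaf 1))
 (.node (.leaf 0)
 (.leaf 32)))
 (.node (.node (.leaf 16)
 (.leaf 32))
 (.node (.leaf 0)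
 (.leaf 63))))
 (.node (.node (.node (.leaf 0)
 (.leaf 4))
 (.node (.leaf 16)
 (.leaf 32)))
 (.node (.node (.leaf 16)
 (.leaf 32))
 (.node (.leaf 16)
 (.leaf 63)))))))
 (.node (.node (.node (.node (.node (.node (.leaf 16)
 (.leaf 0))
 (.node (.leaf 0)
 (.leaf 32)))
 (.node (.node (.leaf 16)
 (.leaf 8))
 (.node (.leaf 16)
 (.leaf 63))))
 (.node (.node (.node (.leaf 16)
 (.leaf 4))
 (.node (.leaf 16)
 (.leaf 32)))
 (.node (.node (.leaf 16)
 (.leaf 32))
 (.node (.leaf 0)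
 (.leaf 63)))))
 (.node (.node (.node (.node (.leaf 16)
 (.leaf 0))
 (.node (.leaf 0)
 (.leaf 32)))
 (.node (.node (.leaf 0)
 (.leaf 16))
 (.node (.leaf 16)
 (.leaf 63))))
 (.node (.node (.node (.leaf 16)
 (.leaf 4))
 (.node (.leaf 0)
 (.leaf 32)))
 (.node (.node (.leaf 0)
 (.leaf 32))
 (.node (.leaf 0)
 (.leaf 63))))))
 (.node (.node (.node (.node (.node (.leaf 16)
 (.leaf 0))
 (.node (.leaf 0)
 (.leaf 32)))
 (.node (.node (.leaf 0)
 (.leaf 8))
 (.node (.leaf 0)
 (.leaf 63))))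
 (.node (.node (.node (.leaf 4)
 (.leaf 4))
 (.node (.leaf 0)
 (.leaf 32)))
 (.node (.node (.leaf 16)
 (.leaf 32))
 (.node (.leaf 0)
 (.leaf 63)))))
 (.node (.node (.node (.node (.leaf 16)
 (.leaf 4))
 (.node (.leaf 0)
 (.leaf 32)))
 (.node (.node (.leaf 16)
 (.leaf 32))
 (.node (.leaf 16)
 (.leaf 63))))
 (.node (.node (.node (.leaf 0)
 (.leaf 8))
 (.node (.leaf 0)
 (.leaf 32)))
 (.node (.node (.leaf 16)
 (.leaf 32))
 (.node (.leaf 17)
 (.leaf 63)))))))))

/-- Part 5 of `tag`. -/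
def tag5 : Tbl :=
 (.node (.node (.node (.node (.node (.node (.node (.node (.leaf 0)
 (.leaf 0))
 (.node (.leaf 0)
 (.leaf 32)))
 (.node (.node (.leaf 16)
 (.leaf 8))
 (.node (.leaf 0)
 (.leaf 63))))
 (.node (.node (.node (.leaf 16)
 (.leaf 4))
 (.node (.leaf 16)
 (.leaf 32)))
 (.node (.node (.leaf 16)
 (.leaf 32))
 (.node (.leaf 16)
 (.leaf 63)))))
 (.node (.node (.node (.node (.leaf 16)
 (.leaf 16))
 (.node (.leaf 16)
 (.leaf 32)))
 (.node (.node (.leaf 0)
 (.leaf 16))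
 (.node (.leaf 0)
 (.leaf 63))))
 (.node (.node (.node (.leaf 16)
 (.leaf 4))
 (.node (.leaf 0)
 (.leaf 32)))
 (.node (.node (.leaf 16)
 (.leaf 32))
 (.node (.leaf 0)
 (.leaf 63))))))
 (.node (.node (.node (.node (.node (.leaf 16)
 (.leaf 16))
 (.node (.leaf 16)
 (.leaf 32)))
 (.node (.node (.leaf 16)
 (.leaf 8))
 (.node (.leaf 0)
 (.leaf 63))))
 (.node (.node (.node (.leaf 18)
 (.leaf 4))
 (.node (.leaf 0)
 (.leaf 32)))
 (.node (.node (.leaf 16)
 (.leaf 32))
 (.node (.leaf 0)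
 (.leaf 63)))))
 (.node (.node (.node (.node (.leaf 16)
 (.leaf 1))
 (.node (.leaf 0)
 (.leaf 32)))
 (.node (.node (.leaf 0)
 (.leaf 32))
 (.node (.leaf 16)
 (.leaf 63))))
 (.node (.node (.node (.leaf 16)
 (.leaf 4))
 (.node (.leaf 16)
 (.leaf 32)))
 (.node (.node (.leaf 0)
 (.leaf 32))
 (.node (.leaf 16)
 (.leaf 63)))))))
 (.node (.node (.node (.node (.node (.node (.leaf 0)
 (.leaf 0))
 (.node (.leaf 16)
 (.leaf 32)))
 (.node (.node (.leaf 16)
 (.leaf 8))
 (.node (.leaf 0)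
 (.leaf 63))))
 (.node (.node (.node (.leaf 16)
 (.leaf 4))
 (.node (.leaf 16)
 (.leaf 32)))
 (.node (.node (.leaf 16)
 (.leaf 32))
 (.node (.leaf 0)
 (.leaf 63)))))
 (.node (.node (.node (.node (.leaf 16)
 (.leaf 0))
 (.node (.leaf 16)
 (.leaf 32)))
 (.node (.node (.leaf 16)
 (.leaf 16))
 (.node (.leaf 0)
 (.leaf 63))))
 (.node (.node (.node (.leaf 16)
 (.leaf 4))
 (.node (.leaf 0)
 (.leaf 32)))
 (.node (.node (.leaf 16)
 (.leaf 32))
 (.node (.leaf 0)
 (.leaf 63))))))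
 (.node (.node (.node (.node (.node (.leaf 16)
 (.leaf 16))
 (.node (.leaf 0)
 (.leaf 32)))
 (.node (.node (.leaf 16)
 (.leaf 8))
 (.node (.leaf 16)
 (.leaf 63))))
 (.node (.node (.node (.leaf 16)
 (.leaf 4))
 (.node (.leaf 16)
 (.leaf 32)))
 (.node (.node (.leaf 16)
 (.leaf 32))
 (.node (.leaf 16)
 (.leaf 63)))))
 (.node (.node (.node (.node (.leaf 16)
 (.leaf 2))
 (.node (.leaf 0)
 (.leaf 32)))
 (.node (.node (.leaf 16)
 (.leaf 32))
 (.node (.leaf 0)
 (.leaf 63))))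
 (.node (.node (.node (.leaf 16)
 (.leaf 8))
 (.node (.leaf 0)
 (.leaf 32)))
 (.node (.node (.leaf 16)
 (.leaf 32))
 (.node (.leaf 0)
 (.leaf 63))))))))
 (.node (.node (.node (.node (.node (.node (.node (.leaf 0)
 (.leaf 16))
 (.node (.leaf 16)
 (.leaf 32)))
 (.node (.node (.leaf 16)
 (.leaf 8))
 (.node (.leaf 16)
 (.leaf 63))))
 (.node (.node (.node (.leaf 16)
 (.leaf 4))
 (.node (.leaf 0)
 (.leaf 32)))
 (.node (.node (.leaf 16)
 (.leaf 32))
 (.node (.leaf 16)
 (.leaf 63)))))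
 (.node (.node (.node (.node (.leaf 16)
 (.leaf 0))
 (.node (.leaf 16)
 (.leaf 32)))
 (.node (.node (.leaf 16)
 (.leaf 16))
 (.node (.leaf 16)
 (.leaf 63))))
 (.node (.node (.node (.leaf 16)
 (.leaf 4))
 (.node (.leaf 0)
 (.leaf 32)))
 (.node (.node (.leaf 0)
 (.leaf 32))
 (.node (.leaf 16)
 (.leaf 63))))))
 (.node (.node (.node (.node (.node (.leaf 16)
 (.leaf 0))
 (.node (.leaf 0)
 (.leaf 32)))
 (.node (.node (.leaf 16)
 (.leaf 8))
 (.node (.leaf 16)
 (.leaf 63))))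
 (.node (.node (.node (.leaf 16)
 (.leaf 4))
 (.node (.leaf 16)
 (.leaf 32)))
 (.node (.node (.leaf 16)
 (.leaf 32))
 (.node (.leaf 0)
 (.leaf 63)))))
 (.node (.node (.node (.node (.leaf 16)
 (.leaf 1))
 (.node (.leaf 0)
 (.leaf 32)))
 (.node (.node (.leaf 16)
 (.leaf 32))
 (.node (.leaf 16)
 (.leaf 63))))
 (.node (.node (.node (.leaf 16)
 (.leaf 4))
 (.node (.leaf 0)
 (.leaf 32)))
 (.node (.node (.leaf 0)
 (.leaf 32))
 (.node (.leaf 16)
 (.leaf 63)))))))
 (.node (.node (.node (.node (.node (.node (.leaf 0)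
 (.leaf 0))
 (.node (.leaf 16)
 (.leaf 32)))
 (.node (.node (.leaf 16)
 (.leaf 8))
 (.node (.leaf 0)
 (.leaf 63))))
 (.node (.node (.node (.leaf 16)
 (.leaf 4))
 (.node (.leaf 0)
 (.leaf 32)))
 (.node (.node (.leaf 16)
 (.leaf 32))
 (.node (.leaf 0)
 (.leaf 63)))))
 (.node (.node (.node (.node (.leaf 16)
 (.leaf 0))
 (.node (.leaf 16)
 (.leaf 32)))
 (.node (.node (.leaf 16)
 (.leaf 16))
 (.node (.leaf 16)
 (.leaf 63))))
 (.node (.node (.node (.leaf 16)
 (.leaf 4))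
 (.node (.leaf 0)
 (.leaf 32)))
 (.node (.node (.leaf 0)
 (.leaf 32))
 (.node (.leaf 16)
 (.leaf 63))))))
 (.node (.node (.node (.node (.node (.leaf 16)
 (.leaf 0))
 (.node (.leaf 16)
 (.leaf 32)))
 (.node (.node (.leaf 16)
 (.leaf 8))
 (.node (.leaf 0)
 (.leaf 63))))
 (.node (.node (.node (.leaf 16)
 (.leaf 4))
 (.node (.leaf 0)
 (.leaf 32)))
 (.node (.node (.leaf 0)
 (.leaf 32))
 (.node (.leaf 16)
 (.leaf 63)))))
 (.node (.node (.node (.node (.leaf 16)
 (.leaf 4))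
 (.node (.leaf 16)
 (.leaf 32)))
 (.node (.node (.leaf 16)
 (.leaf 32))
 (.node (.leaf 0)
 (.leaf 63))))
 (.node (.node (.node (.leaf 16)
 (.leaf 8))
 (.node (.leaf 16)
 (.leaf 32)))
 (.node (.node (.leaf 16)
 (.leaf 32))
 (.node (.leaf 16)
 (.leaf 63)))))))))

/-- Part 6 of `tag`. -/
def tag6 : Tbl :=
 (.node (.node (.node (.node (.node (.node (.node (.node (.leaf 0)
 (.leaf 16))
 (.node (.leaf 16)
 (.leaf 32)))
 (.node (.node (.leaf 4)
 (.leaf 8))
 (.node (.leaf 0)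
 (.leaf 63))))
 (.node (.node (.node (.leaf 16)
 (.leaf 4))
 (.node (.leaf 0)
 (.leaf 32)))
 (.node (.node (.leaf 19)
 (.leaf 32))
 (.node (.leaf 16)
 (.leaf 63)))))
 (.node (.node (.node (.node (.leaf 16)
 (.leaf 0))
 (.node (.leaf 16)
 (.leaf 32)))
 (.node (.node (.leaf 16)
 (.leaf 16))
 (.node (.leaf 0)
 (.leaf 63))))
 (.node (.node (.node (.leaf 16)
 (.leaf 4))
 (.node (.leaf 16)
 (.leaf 32)))
 (.node (.node (.leaf 16)
 (.leaf 32))
 (.node (.leaf 16)
 (.leaf 63))))))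
 (.node (.node (.node (.node (.node (.leaf 16)
 (.leaf 0))
 (.node (.leaf 16)
 (.leaf 32)))
 (.node (.node (.leaf 16)
 (.leaf 8))
 (.node (.leaf 0)
 (.leaf 63))))
 (.node (.node (.node (.leaf 16)
 (.leaf 4))
 (.node (.leaf 16)
 (.leaf 32)))
 (.node (.node (.leaf 16)
 (.leaf 32))
 (.node (.leaf 16)
 (.leaf 63)))))
 (.node (.node (.node (.node (.leaf 16)
 (.leaf 1))
 (.node (.leaf 16)
 (.leaf 32)))
 (.node (.node (.leaf 16)
 (.leaf 32))
 (.node (.leaf 0)
 (.leaf 63))))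
 (.node (.node (.node (.leaf 16)
 (.leaf 4))
 (.node (.leaf 16)
 (.leaf 32)))
 (.node (.node (.leaf 16)
 (.leaf 32))
 (.node (.leaf 0)
 (.leaf 63)))))))
 (.node (.node (.node (.node (.node (.node (.leaf 0)
 (.leaf 0))
 (.node (.leaf 16)
 (.leaf 32)))
 (.node (.node (.leaf 0)
 (.leaf 8))
 (.node (.leaf 16)
 (.leaf 63))))
 (.node (.node (.node (.leaf 16)
 (.leaf 4))
 (.node (.leaf 0)
 (.leaf 32)))
 (.node (.node (.leaf 16)
 (.leaf 32))
 (.node (.leaf 16)
 (.leaf 63)))))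
 (.node (.node (.node (.node (.leaf 0)
 (.leaf 16))
 (.node (.leaf 16)
 (.leaf 32)))
 (.node (.node (.leaf 16)
 (.leaf 16))
 (.node (.leaf 0)
 (.leaf 63))))
 (.node (.node (.node (.leaf 0)
 (.leaf 4))
 (.node (.leaf 0)
 (.leaf 32)))
 (.node (.node (.leaf 16)
 (.leaf 32))
 (.node (.leaf 16)
 (.leaf 63))))))
 (.node (.node (.node (.node (.node (.leaf 16)
 (.leaf 0))
 (.node (.leaf 16)
 (.leaf 32)))
 (.node (.node (.leaf 0)
 (.leaf 8))
 (.node (.leaf 16)
 (.leaf 63))))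
 (.node (.node (.node (.leaf 0)
 (.leaf 4))
 (.node (.leaf 0)
 (.leaf 32)))
 (.node (.node (.leaf 16)
 (.leaf 32))
 (.node (.leaf 0)
 (.leaf 63)))))
 (.node (.node (.node (.node (.leaf 16)
 (.leaf 2))
 (.node (.leaf 16)
 (.leaf 32)))
 (.node (.node (.leaf 0)
 (.leaf 32))
 (.node (.leaf 0)
 (.leaf 63))))
 (.node (.node (.node (.leaf 4)
 (.leaf 8))
 (.node (.leaf 0)
 (.leaf 32)))
 (.node (.node (.leaf 16)
 (.leaf 32))
 (.node (.leaf 16)
 (.leaf 63))))))))
 (.node (.node (.node (.node (.node (.node (.node (.leaf 0)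
 (.leaf 16))
 (.node (.leaf 0)
 (.leaf 32)))
 (.node (.node (.leaf 0)
 (.leaf 8))
 (.node (.leaf 0)
 (.leaf 63))))
 (.node (.node (.node (.leaf 0)
 (.leaf 4))
 (.node (.leaf 0)
 (.leaf 32)))
 (.node (.node (.leaf 16)
 (.leaf 32))
 (.node (.leaf 0)
 (.leaf 63)))))
 (.node (.node (.node (.node (.leaf 0)
 (.leaf 0))
 (.node (.leaf 16)
 (.leaf 32)))
 (.node (.node (.leaf 16)
 (.leaf 16))
 (.node (.leaf 0)
 (.leaf 63))))
 (.node (.node (.node (.leaf 16)
 (.leaf 4))
 (.node (.leaf 0)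
 (.leaf 32)))
 (.node (.node (.leaf 16)
 (.leaf 32))
 (.node (.leaf 16)
 (.leaf 63))))))
 (.node (.node (.node (.node (.node (.leaf 16)
 (.leaf 16))
 (.node (.leaf 0)
 (.leaf 32)))
 (.node (.node (.leaf 16)
 (.leaf 8))
 (.node (.leaf 0)
 (.leaf 63))))
 (.node (.node (.node (.leaf 0)
 (.leaf 4))
 (.node (.leaf 0)
 (.leaf 32)))
 (.node (.node (.leaf 0)
 (.leaf 32))
 (.node (.leaf 0)
 (.leaf 63)))))
 (.node (.node (.node (.node (.leaf 16)
 (.leaf 1))
 (.node (.leaf 16)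
 (.leaf 32)))
 (.node (.node (.leaf 16)
 (.leaf 32))
 (.node (.leaf 0)
 (.leaf 63))))
 (.node (.node (.node (.leaf 0)
 (.leaf 4))
 (.node (.leaf 0)
 (.leaf 32)))
 (.node (.node (.leaf 16)
 (.leaf 32))
 (.node (.leaf 0)
 (.leaf 63)))))))
 (.node (.node (.node (.node (.node (.node (.leaf 18)
 (.leaf 0))
 (.node (.leaf 16)
 (.leaf 32)))
 (.node (.node (.leaf 16)
 (.leaf 8))
 (.node (.leaf 16)
 (.leaf 63))))
 (.node (.node (.node (.leaf 16)
 (.leaf 4))
 (.node (.leaf 16)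
 (.leaf 32)))
 (.node (.node (.leaf 16)
 (.leaf 32))
 (.node (.leaf 0)
 (.leaf 63)))))
 (.node (.node (.node (.node (.leaf 16)
 (.leaf 1))
 (.node (.leaf 16)
 (.leaf 32)))
 (.node (.node (.leaf 16)
 (.leaf 16))
 (.node (.leaf 16)
 (.leaf 63))))
 (.node (.node (.node (.leaf 0)
 (.leaf 4))
 (.node (.leaf 0)
 (.leaf 32)))
 (.node (.node (.leaf 17)
 (.leaf 32))
 (.node (.leaf 16)
 (.leaf 63))))))
 (.node (.node (.node (.node (.node (.leaf 16)
 (.leaf 16))
 (.node (.leaf 0)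
 (.leaf 32)))
 (.node (.node (.leaf 16)
 (.leaf 8))
 (.node (.leaf 0)
 (.leaf 63))))
 (.node (.node (.node (.leaf 16)
 (.leaf 4))
 (.node (.leaf 16)
 (.leaf 32)))
 (.node (.node (.leaf 0)
 (.leaf 32))
 (.node (.leaf 16)
 (.leaf 63)))))
 (.node (.node (.node (.node (.leaf 16)
 (.leaf 4))
 (.node (.leaf 16)
 (.leaf 32)))
 (.node (.node (.leaf 16)
 (.leaf 32))
 (.node (.leaf 16)
 (.leaf 63))))
 (.node (.node (.node (.leaf 16)
 (.leaf 8))
 (.node (.leaf 16)
 (.leaf 32)))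
 (.node (.node (.leaf 16)
 (.leaf 32))
 (.node (.leaf 0)
 (.leaf 63)))))))))

/-- Part 7 of `tag`. -/
def tag7 : Tbl :=
 (.node (.node (.node (.node (.node (.node (.node (.node (.leaf 0)
 (.leaf 16))
 (.node (.leaf 16)
 (.leaf 32)))
 (.node (.node (.leaf 32)
 (.leaf 8))
 (.node (.leaf 0)
 (.leaf 63))))
 (.node (.node (.node (.leaf 0)
 (.leaf 4))
 (.node (.leaf 16)
 (.leaf 32)))
 (.node (.node (.leaf 16)
 (.leaf 32))
 (.node (.leaf 0)
 (.leaf 63)))))
 (.node (.node (.node (.node (.leaf 16)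
 (.leaf 0))
 (.node (.leaf 0)
 (.leaf 32)))
 (.node (.node (.leaf 16)
 (.leaf 16))
 (.node (.leaf 0)
 (.leaf 63))))
 (.node (.node (.node (.leaf 16)
 (.leaf 4))
 (.node (.leaf 16)
 (.leaf 32)))
 (.node (.node (.leaf 16)
 (.leaf 32))
 (.node (.leaf 0)
 (.leaf 63))))))
 (.node (.node (.node (.node (.node (.leaf 16)
 (.leaf 0))
 (.node (.leaf 16)
 (.leaf 32)))
 (.node (.node (.leaf 0)
 (.leaf 8))
 (.node (.leaf 0)
 (.leaf 63))))
 (.node (.node (.node (.leaf 16)
 (.leaf 4))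
 (.node (.leaf 16)
 (.leaf 32)))
 (.node (.node (.leaf 0)
 (.leaf 32))
 (.node (.leaf 0)
 (.leaf 63)))))
 (.node (.node (.node (.node (.leaf 16)
 (.leaf 1))
 (.node (.leaf 0)
 (.leaf 32)))
 (.node (.node (.leaf 16)
 (.leaf 32))
 (.node (.leaf 0)
 (.leaf 63))))
 (.node (.node (.node (.leaf 16)
 (.leaf 4))
 (.node (.leaf 0)
 (.leaf 32)))
 (.node (.node (.leaf 16)
 (.leaf 32))
 (.node (.leaf 0)
 (.leaf 63)))))))
 (.node (.node (.node (.node (.node (.node (.leaf 16)
 (.leaf 16))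
 (.node (.leaf 0)
 (.leaf 32)))
 (.node (.node (.leaf 0)
 (.leaf 8))
 (.node (.leaf 16)
 (.leaf 63))))
 (.node (.node (.node (.leaf 0)
 (.leaf 4))
 (.node (.leaf 16)
 (.leaf 32)))
 (.node (.node (.leaf 0)
 (.leaf 32))
 (.node (.leaf 0)
 (.leaf 63)))))
 (.node (.node (.node (.node (.leaf 16)
 (.leaf 0))
 (.node (.leaf 16)
 (.leaf 32)))
 (.node (.node (.leaf 16)
 (.leaf 16))
 (.node (.leaf 16)
 (.leaf 63))))
 (.node (.node (.node (.leaf 16)
 (.leaf 4))
 (.node (.leaf 0)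
 (.leaf 32)))
 (.node (.node (.leaf 0)
 (.leaf 32))
 (.node (.leaf 0)
 (.leaf 63))))))
 (.node (.node (.node (.node (.node (.leaf 16)
 (.leaf 16))
 (.node (.leaf 16)
 (.leaf 32)))
 (.node (.node (.leaf 16)
 (.leaf 8))
 (.node (.leaf 0)
 (.leaf 63))))
 (.node (.node (.node (.leaf 16)
 (.leaf 4))
 (.node (.leaf 16)
 (.leaf 32)))
 (.node (.node (.leaf 0)
 (.leaf 32))
 (.node (.leaf 16)
 (.leaf 63)))))
 (.node (.node (.node (.node (.leaf 0)
 (.leaf 2))
 (.node (.leaf 16)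
 (.leaf 32)))
 (.node (.node (.leaf 16)
 (.leaf 32))
 (.node (.leaf 16)
 (.leaf 63))))
 (.node (.node (.node (.leaf 16)
 (.leaf 8))
 (.node (.leaf 16)
 (.leaf 32)))
 (.node (.node (.leaf 16)
 (.leaf 32))
 (.node (.leaf 16)
 (.leaf 63))))))))
 (.node (.node (.node (.node (.node (.node (.node (.leaf 0)
 (.leaf 16))
 (.node (.leaf 16)
 (.leaf 32)))
 (.node (.node (.leaf 16)
 (.leaf 8))
 (.node (.leaf 16)
 (.leaf 63))))
 (.node (.node (.node (.leaf 16)
 (.leaf 4))
 (.node (.leaf 16)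
 (.leaf 32)))
 (.node (.node (.leaf 16)
 (.leaf 32))
 (.node (.leaf 0)
 (.leaf 63)))))
 (.node (.node (.node (.node (.leaf 16)
 (.leaf 0))
 (.node (.leaf 0)
 (.leaf 32)))
 (.node (.node (.leaf 16)
 (.leaf 16))
 (.node (.leaf 16)
 (.leaf 63))))
 (.node (.node (.node (.leaf 16)
 (.leaf 4))
 (.node (.leaf 16)
 (.leaf 32)))
 (.node (.node (.leaf 0)
 (.leaf 32))
 (.node (.leaf 16)
 (.leaf 63))))))
 (.node (.node (.node (.node (.node (.leaf 0)
 (.leaf 0))
 (.node (.leaf 0)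
 (.leaf 32)))
 (.node (.node (.leaf 16)
 (.leaf 8))
 (.node (.leaf 0)
 (.leaf 63))))
 (.node (.node (.node (.leaf 16)
 (.leaf 4))
 (.node (.leaf 16)
 (.leaf 32)))
 (.node (.node (.leaf 16)
 (.leaf 32))
 (.node (.leaf 16)
 (.leaf 63)))))
 (.node (.node (.node (.node (.leaf 16)
 (.leaf 2))
 (.node (.leaf 0)
 (.leaf 32)))
 (.node (.node (.leaf 16)
 (.leaf 32))
 (.node (.leaf 0)
 (.leaf 63))))
 (.node (.node (.node (.leaf 0)
 (.leaf 4))
 (.node (.leaf 16)
 (.leaf 32)))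
 (.node (.node (.leaf 16)
 (.leaf 32))
 (.node (.leaf 0)
 (.leaf 63)))))))
 (.node (.node (.node (.node (.node (.node (.leaf 16)
 (.leaf 16))
 (.node (.leaf 0)
 (.leaf 32)))
 (.node (.node (.leaf 16)
 (.leaf 8))
 (.node (.leaf 0)
 (.leaf 63))))
 (.node (.node (.node (.leaf 16)
 (.leaf 4))
 (.node (.leaf 16)
 (.leaf 32)))
 (.node (.node (.leaf 0)
 (.leaf 32))
 (.node (.leaf 0)
 (.leaf 63)))))
 (.node (.node (.node (.node (.leaf 16)
 (.leaf 1))
 (.node (.leaf 16)
 (.leaf 32)))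
 (.node (.node (.leaf 16)
 (.leaf 32))
 (.node (.leaf 16)
 (.leaf 63))))
 (.node (.node (.node (.leaf 16)
 (.leaf 4))
 (.node (.leaf 0)
 (.leaf 32)))
 (.node (.node (.leaf 0)
 (.leaf 32))
 (.node (.leaf 0)
 (.leaf 63))))))
 (.node (.node (.node (.node (.node (.leaf 16)
 (.leaf 0))
 (.node (.leaf 0)
 (.leaf 32)))
 (.node (.node (.leaf 16)
 (.leaf 8))
 (.node (.leaf 0)
 (.leaf 63))))
 (.node (.node (.node (.leaf 0)
 (.leaf 4))
 (.node (.leaf 16)
 (.leaf 32)))
 (.node (.node (.leaf 0)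
 (.leaf 32))
 (.node (.leaf 16)
 (.leaf 63)))))
 (.node (.node (.node (.node (.leaf 16)
 (.leaf 4))
 (.node (.leaf 0)
 (.leaf 32)))
 (.node (.node (.leaf 16)
 (.leaf 32))
 (.node (.leaf 0)
 (.leaf 63))))
 (.node (.node (.node (.leaf 16)
 (.leaf 8))
 (.node (.leaf 16)
 (.leaf 0)))
 (.node (.node (.leaf 16)
 (.leaf 32))
 (.node (.leaf 16)
 (.leaf 63)))))))))

/-- Part 8 of `tag`. -/
def tag8 : Tbl :=
 (.node (.node (.node (.node (.node (.node (.node (.node (.leaf 0)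
 (.leaf 16))
 (.node (.leaf 0)
 (.leaf 32)))
 (.node (.node (.leaf 16)
 (.leaf 8))
 (.node (.leaf 0)
 (.leaf 63))))
 (.node (.node (.node (.leaf 16)
 (.leaf 4))
 (.node (.leaf 16)
 (.leaf 32)))
 (.node (.node (.leaf 16)
 (.leaf 32))
 (.node (.leaf 16)
 (.leaf 63)))))
 (.node (.node (.node (.node (.leaf 0)
 (.leaf 0))
 (.node (.leaf 0)
 (.leaf 32)))
 (.node (.node (.leaf 0)
 (.leaf 16))
 (.node (.leaf 16)
 (.leaf 63))))
 (.node (.node (.node (.leaf 16)
 (.leaf 4))
 (.node (.leaf 0)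
 (.leaf 32)))
 (.node (.node (.leaf 16)
 (.leaf 32))
 (.node (.leaf 0)
 (.leaf 63))))))
 (.node (.node (.node (.node (.node (.leaf 0)
 (.leaf 16))
 (.node (.leaf 16)
 (.leaf 32)))
 (.node (.node (.leaf 16)
 (.leaf 8))
 (.node (.leaf 0)
 (.leaf 63))))
 (.node (.node (.node (.leaf 16)
 (.leaf 4))
 (.node (.leaf 0)
 (.leaf 32)))
 (.node (.node (.leaf 16)
 (.leaf 32))
 (.node (.leaf 0)
 (.leaf 63)))))
 (.node (.node (.node (.node (.leaf 16)
 (.leaf 1))
 (.node (.leaf 0)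
 (.leaf 32)))
 (.node (.node (.leaf 0)
 (.leaf 32))
 (.node (.leaf 16)
 (.leaf 63))))
 (.node (.node (.node (.leaf 0)
 (.leaf 4))
 (.node (.leaf 16)
 (.leaf 32)))
 (.node (.node (.leaf 16)
 (.leaf 32))
 (.node (.leaf 0)
 (.leaf 63)))))))
 (.node (.node (.node (.node (.node (.node (.leaf 0)
 (.leaf 0))
 (.node (.leaf 16)
 (.leaf 32)))
 (.node (.node (.leaf 16)
 (.leaf 8))
 (.node (.leaf 16)
 (.leaf 63))))
 (.node (.node (.node (.leaf 16)
 (.leaf 4))
 (.node (.leaf 0)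
 (.leaf 32)))
 (.node (.node (.leaf 0)
 (.leaf 32))
 (.node (.leaf 16)
 (.leaf 63)))))
 (.node (.node (.node (.node (.leaf 16)
 (.leaf 16))
 (.node (.leaf 16)
 (.leaf 32)))
 (.node (.node (.leaf 0)
 (.leaf 16))
 (.node (.leaf 0)
 (.leaf 63))))
 (.node (.node (.node (.leaf 16)
 (.leaf 4))
 (.node (.leaf 16)
 (.leaf 32)))
 (.node (.node (.leaf 16)
 (.leaf 32))
 (.node (.leaf 0)
 (.leaf 63))))))
 (.node (.node (.node (.node (.node (.leaf 16)
 (.leaf 0))
 (.node (.leaf 16)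
 (.leaf 32)))
 (.node (.node (.leaf 16)
 (.leaf 8))
 (.node (.leaf 0)
 (.leaf 63))))
 (.node (.node (.node (.leaf 16)
 (.leaf 4))
 (.node (.leaf 0)
 (.leaf 32)))
 (.node (.node (.leaf 16)
 (.leaf 32))
 (.node (.leaf 0)
 (.leaf 63)))))
 (.node (.node (.node (.node (.leaf 16)
 (.leaf 2))
 (.node (.leaf 0)
 (.leaf 32)))
 (.node (.node (.leaf 16)
 (.leaf 32))
 (.node (.leaf 16)
 (.leaf 63))))
 (.node (.node (.node (.leaf 16)
 (.leaf 8))
 (.node (.leaf 0)
 (.leaf 32)))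
 (.node (.node (.leaf 0)
 (.leaf 32))
 (.node (.leaf 16)
 (.leaf 63))))))))
 (.node (.node (.node (.node (.node (.node (.node (.leaf 0)
 (.leaf 0))
 (.node (.leaf 16)
 (.leaf 32)))
 (.node (.node (.leaf 16)
 (.leaf 8))
 (.node (.leaf 16)
 (.leaf 63))))
 (.node (.node (.node (.leaf 16)
 (.leaf 4))
 (.node (.leaf 16)
 (.leaf 32)))
 (.node (.node (.leaf 16)
 (.leaf 32))
 (.node (.leaf 0)
 (.leaf 63)))))
 (.node (.node (.node (.node (.leaf 16)
 (.leaf 16))
 (.node (.leaf 16)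
 (.leaf 32)))
 (.node (.node (.leaf 16)
 (.leaf 16))
 (.node (.leaf 16)
 (.leaf 63))))
 (.node (.node (.node (.leaf 0)
 (.leaf 4))
 (.node (.leaf 16)
 (.leaf 32)))
 (.node (.node (.leaf 16)
 (.leaf 32))
 (.node (.leaf 16)
 (.leaf 63))))))
 (.node (.node (.node (.node (.node (.leaf 16)
 (.leaf 16))
 (.node (.leaf 0)
 (.leaf 32)))
 (.node (.node (.leaf 16)
 (.leaf 8))
 (.node (.leaf 16)
 (.leaf 63))))
 (.node (.node (.node (.leaf 16)
 (.leaf 4))
 (.node (.leaf 0)
 (.leaf 32)))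
 (.node (.node (.leaf 16)
 (.leaf 32))
 (.node (.leaf 0)
 (.leaf 63)))))
 (.node (.node (.node (.node (.leaf 16)
 (.leaf 2))
 (.node (.leaf 0)
 (.leaf 32)))
 (.node (.node (.leaf 16)
 (.leaf 32))
 (.node (.leaf 0)
 (.leaf 63))))
 (.node (.node (.node (.leaf 16)
 (.leaf 4))
 (.node (.leaf 16)
 (.leaf 32)))
 (.node (.node (.leaf 16)
 (.leaf 32))
 (.node (.leaf 0)
 (.leaf 63)))))))
 (.node (.node (.node (.node (.node (.node (.leaf 16)
 (.leaf 0))
 (.node (.leaf 16)
 (.leaf 32)))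
 (.node (.node (.leaf 16)
 (.leaf 8))
 (.node (.leaf 16)
 (.leaf 63))))
 (.node (.node (.node (.leaf 0)
 (.leaf 4))
 (.node (.leaf 0)
 (.leaf 32)))
 (.node (.node (.leaf 0)
 (.leaf 32))
 (.node (.leaf 0)
 (.leaf 63)))))
 (.node (.node (.node (.node (.leaf 16)
 (.leaf 1))
 (.node (.leaf 16)
 (.leaf 32)))
 (.node (.node (.leaf 0)
 (.leaf 32))
 (.node (.leaf 0)
 (.leaf 63))))
 (.node (.node (.node (.leaf 0)
 (.leaf 4))
 (.node (.leaf 16)
 (.leaf 32)))
 (.node (.node (.leaf 16)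
 (.leaf 32))
 (.node (.leaf 0)
 (.leaf 63))))))
 (.node (.node (.node (.node (.node (.leaf 0)
 (.leaf 0))
 (.node (.leaf 16)
 (.leaf 32)))
 (.node (.node (.leaf 0)
 (.leaf 8))
 (.node (.leaf 16)
 (.leaf 63))))
 (.node (.node (.node (.leaf 16)
 (.leaf 4))
 (.node (.leaf 0)
 (.leaf 32)))
 (.node (.node (.leaf 16)
 (.leaf 32))
 (.node (.leaf 0)
 (.leaf 63)))))
 (.node (.node (.node (.node (.leaf 16)
 (.leaf 4))
 (.node (.leaf 16)
 (.leaf 32)))
 (.node (.node (.leaf 16)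
 (.leaf 32))
 (.node (.leaf 16)
 (.leaf 63))))
 (.node (.node (.node (.leaf 16)
 (.leaf 8))
 (.node (.leaf 16)
 (.leaf 0)))
 (.node (.node (.leaf 0)
 (.leaf 32))
 (.node (.leaf 16)
 (.leaf 63)))))))))

/-- Part 9 of `tag`. -/
def tag9 : Tbl :=
 (.node (.node (.node (.node (.node (.node (.node (.node (.leaf 0)
 (.leaf 0))
 (.node (.leaf 0)
 (.leaf 32)))
 (.node (.node (.leaf 16)
 (.leaf 8))
 (.node (.leaf 16)
 (.leaf 63))))
 (.node (.node (.node (.leaf 0)
 (.leaf 4))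
 (.node (.leaf 16)
 (.leaf 32)))
 (.node (.node (.leaf 16)
 (.leaf 32))
 (.node (.leaf 0)
 (.leaf 63)))))
 (.node (.node (.node (.node (.leaf 16)
 (.leaf 0))
 (.node (.leaf 0)
 (.leaf 32)))
 (.node (.node (.leaf 16)
 (.leaf 16))
 (.node (.leaf 16)
 (.leaf 63))))
 (.node (.node (.node (.leaf 16)
 (.leaf 4))
 (.node (.leaf 16)
 (.leaf 32)))
 (.node (.node (.leaf 16)
 (.leaf 32))
 (.node (.leaf 0)
 (.leaf 63))))))
 (.node (.node (.node (.node (.node (.leaf 16)
 (.leaf 16))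
 (.node (.leaf 16)
 (.leaf 32)))
 (.node (.node (.leaf 0)
 (.leaf 8))
 (.node (.leaf 16)
 (.leaf 63))))
 (.node (.node (.node (.leaf 16)
 (.leaf 4))
 (.node (.leaf 16)
 (.leaf 32)))
 (.node (.node (.leaf 16)
 (.leaf 32))
 (.node (.leaf 16)
 (.leaf 63)))))
 (.node (.node (.node (.node (.leaf 16)
 (.leaf 1))
 (.node (.leaf 16)
 (.leaf 32)))
 (.node (.node (.leaf 16)
 (.leaf 32))
 (.node (.leaf 0)
 (.leaf 63))))
 (.node (.node (.node (.leaf 17)
 (.leaf 4))
 (.node (.leaf 16)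
 (.leaf 32)))
 (.node (.node (.leaf 0)
 (.leaf 32))
 (.node (.leaf 16)
 (.leaf 63)))))))
 (.node (.node (.node (.node (.node (.node (.leaf 0)
 (.leaf 0))
 (.node (.leaf 16)
 (.leaf 32)))
 (.node (.node (.leaf 16)
 (.leaf 8))
 (.node (.leaf 0)
 (.leaf 63))))
 (.node (.node (.node (.leaf 16)
 (.leaf 4))
 (.node (.leaf 0)
 (.leaf 32)))
 (.node (.node (.leaf 16)
 (.leaf 32))
 (.node (.leaf 16)
 (.leaf 63)))))
 (.node (.node (.node (.node (.leaf 0)
 (.leaf 0))
 (.node (.leaf 0)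
 (.leaf 32)))
 (.node (.node (.leaf 0)
 (.leaf 16))
 (.node (.leaf 16)
 (.leaf 63))))
 (.node (.node (.node (.leaf 16)
 (.leaf 4))
 (.node (.leaf 16)
 (.leaf 32)))
 (.node (.node (.leaf 0)
 (.leaf 32))
 (.node (.leaf 16)
 (.leaf 63))))))
 (.node (.node (.node (.node (.node (.leaf 0)
 (.leaf 16))
 (.node (.leaf 16)
 (.leaf 32)))
 (.node (.node (.leaf 16)
 (.leaf 8))
 (.node (.leaf 0)
 (.leaf 63))))
 (.node (.node (.node (.leaf 16)
 (.leaf 4))
 (.node (.leaf 0)
 (.leaf 32)))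
 (.node (.node (.leaf 16)
 (.leaf 32))
 (.node (.leaf 0)
 (.leaf 63)))))
 (.node (.node (.node (.node (.leaf 16)
 (.leaf 2))
 (.node (.leaf 16)
 (.leaf 32)))
 (.node (.node (.leaf 0)
 (.leaf 32))
 (.node (.leaf 16)
 (.leaf 63))))
 (.node (.node (.node (.leaf 16)
 (.leaf 8))
 (.node (.leaf 16)
 (.leaf 32)))
 (.node (.node (.leaf 0)
 (.leaf 32))
 (.node (.leaf 16)
 (.leaf 63))))))))
 (.node (.node (.node (.node (.node (.node (.node (.leaf 0)
 (.leaf 16))
 (.node (.leaf 0)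
 (.leaf 32)))
 (.node (.node (.leaf 16)
 (.leaf 8))
 (.node (.leaf 16)
 (.leaf 63))))
 (.node (.node (.node (.leaf 16)
 (.leaf 4))
 (.node (.leaf 0)
 (.leaf 32)))
 (.node (.node (.leaf 16)
 (.leaf 32))
 (.node (.leaf 0)
 (.leaf 63)))))
 (.node (.node (.node (.node (.leaf 16)
 (.leaf 0))
 (.node (.leaf 16)
 (.leaf 32)))
 (.node (.node (.leaf 16)
 (.leaf 16))
 (.node (.leaf 0)
 (.leaf 63))))
 (.node (.node (.node (.leaf 16)
 (.leaf 4))
 (.node (.leaf 16)
 (.leaf 32)))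
 (.node (.node (.leaf 16)
 (.leaf 32))
 (.node (.leaf 16)
 (.leaf 63))))))
 (.node (.node (.node (.node (.node (.leaf 16)
 (.leaf 0))
 (.node (.leaf 0)
 (.leaf 32)))
 (.node (.node (.leaf 0)
 (.leaf 8))
 (.node (.leaf 16)
 (.leaf 63))))
 (.node (.node (.node (.leaf 16)
 (.leaf 4))
 (.node (.leaf 0)
 (.leaf 32)))
 (.node (.node (.leaf 16)
 (.leaf 32))
 (.node (.leaf 16)
 (.leaf 63)))))
 (.node (.node (.node (.node (.leaf 16)
 (.leaf 2))
 (.node (.leaf 16)
 (.leaf 32)))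
 (.node (.node (.leaf 16)
 (.leaf 32))
 (.node (.leaf 16)
 (.leaf 63))))
 (.node (.node (.node (.leaf 16)
 (.leaf 4))
 (.node (.leaf 16)
 (.leaf 32)))
 (.node (.node (.leaf 16)
 (.leaf 32))
 (.node (.leaf 16)
 (.leaf 63)))))))
 (.node (.node (.node (.node (.node (.node (.leaf 16)
 (.leaf 16))
 (.node (.leaf 0)
 (.leaf 32)))
 (.node (.node (.leaf 16)
 (.leaf 8))
 (.node (.leaf 16)
 (.leaf 63))))
 (.node (.node (.node (.leaf 16)
 (.leaf 4))
 (.node (.leaf 16)
 (.leaf 32)))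
 (.node (.node (.leaf 16)
 (.leaf 32))
 (.node (.leaf 0)
 (.leaf 63)))))
 (.node (.node (.node (.node (.leaf 16)
 (.leaf 1))
 (.node (.leaf 0)
 (.leaf 32)))
 (.node (.node (.leaf 16)
 (.leaf 32))
 (.node (.leaf 0)
 (.leaf 63))))
 (.node (.node (.node (.leaf 16)
 (.leaf 4))
 (.node (.leaf 0)
 (.leaf 32)))
 (.node (.node (.leaf 16)
 (.leaf 32))
 (.node (.leaf 0)
 (.leaf 63))))))
 (.node (.node (.node (.node (.node (.leaf 16)
 (.leaf 16))
 (.node (.leaf 16)
 (.leaf 32)))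
 (.node (.node (.leaf 16)
 (.leaf 16))
 (.node (.leaf 16)
 (.leaf 63))))
 (.node (.node (.node (.leaf 16)
 (.leaf 4))
 (.node (.leaf 16)
 (.leaf 32)))
 (.node (.node (.leaf 0)
 (.leaf 32))
 (.node (.leaf 0)
 (.leaf 63)))))
 (.node (.node (.node (.node (.leaf 0)
 (.leaf 4))
 (.node (.leaf 16)
 (.leaf 32)))
 (.node (.node (.leaf 16)
 (.leaf 32))
 (.node (.leaf 16)
 (.leaf 63))))
 (.node (.node (.node (.leaf 0)
 (.leaf 8))
 (.node (.leaf 0)
 (.leaf 0)))
 (.node (.node (.leaf 16)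
 (.leaf 32))
 (.node (.leaf 0)
 (.leaf 63)))))))))

/-- Part 10 of `tag`. -/
def tag10 : Tbl :=
 (.node (.node (.node (.node (.node (.node (.node (.node (.leaf 0)
 (.leaf 0))
 (.node (.leaf 0)
 (.leaf 32)))
 (.node (.node (.leaf 16)
 (.leaf 8))
 (.node (.leaf 16)
 (.leaf 63))))
 (.node (.node (.node (.leaf 16)
 (.leaf 4))
 (.node (.leaf 16)
 (.leaf 32)))
 (.node (.node (.leaf 0)
 (.leaf 32))
 (.node (.leaf 0)
 (.leaf 63)))))
 (.node (.node (.node (.node (.leaf 16)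
 (.leaf 16))
 (.node (.leaf 16)
 (.leaf 32)))
 (.node (.node (.leaf 16)
 (.leaf 16))
 (.node (.leaf 0)
 (.leaf 63))))
 (.node (.node (.node (.leaf 16)
 (.leaf 4))
 (.node (.leaf 16)
 (.leaf 32)))
 (.node (.node (.leaf 16)
 (.leaf 32))
 (.node (.leaf 0)
 (.leaf 63))))))
 (.node (.node (.node (.node (.node (.leaf 16)
 (.leaf 0))
 (.node (.leaf 0)
 (.leaf 32)))
 (.node (.node (.leaf 16)
 (.leaf 8))
 (.node (.leaf 0)
 (.leaf 63))))
 (.node (.node (.node (.leaf 16)
 (.leaf 4))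
 (.node (.leaf 0)
 (.leaf 32)))
 (.node (.node (.leaf 16)
 (.leaf 32))
 (.node (.leaf 0)
 (.leaf 63)))))
 (.node (.node (.node (.node (.leaf 16)
 (.leaf 1))
 (.node (.leaf 16)
 (.leaf 32)))
 (.node (.node (.leaf 16)
 (.leaf 32))
 (.node (.leaf 0)
 (.leaf 63))))
 (.node (.node (.node (.leaf 16)
 (.leaf 4))
 (.node (.leaf 0)
 (.leaf 32)))
 (.node (.node (.leaf 0)
 (.leaf 32))
 (.node (.leaf 0)
 (.leaf 63)))))))
 (.node (.node (.node (.node (.node (.node (.leaf 0)
 (.leaf 16))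
 (.node (.leaf 0)
 (.leaf 32)))
 (.node (.node (.leaf 16)
 (.leaf 8))
 (.node (.leaf 16)
 (.leaf 63))))
 (.node (.node (.node (.leaf 0)
 (.leaf 4))
 (.node (.leaf 0)
 (.leaf 32)))
 (.node (.node (.leaf 0)
 (.leaf 32))
 (.node (.leaf 0)
 (.leaf 63)))))
 (.node (.node (.node (.node (.leaf 16)
 (.leaf 0))
 (.node (.leaf 0)
 (.leaf 32)))
 (.node (.node (.leaf 0)
 (.leaf 16))
 (.node (.leaf 0)
 (.leaf 63))))
 (.node (.node (.node (.leaf 16)
 (.leaf 4))
 (.node (.leaf 0)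
 (.leaf 32)))
 (.node (.node (.leaf 16)
 (.leaf 32))
 (.node (.leaf 0)
 (.leaf 63))))))
 (.node (.node (.node (.node (.node (.leaf 16)
 (.leaf 0))
 (.node (.leaf 16)
 (.leaf 32)))
 (.node (.node (.leaf 16)
 (.leaf 8))
 (.node (.leaf 16)
 (.leaf 63))))
 (.node (.node (.node (.leaf 16)
 (.leaf 4))
 (.node (.leaf 16)
 (.leaf 32)))
 (.node (.node (.leaf 16)
 (.leaf 32))
 (.node (.leaf 16)
 (.leaf 63)))))
 (.node (.node (.node (.node (.leaf 16)
 (.leaf 2))
 (.node (.leaf 16)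
 (.leaf 32)))
 (.node (.node (.leaf 16)
 (.leaf 32))
 (.node (.leaf 0)
 (.leaf 63))))
 (.node (.node (.node (.leaf 16)
 (.leaf 8))
 (.node (.leaf 0)
 (.leaf 32)))
 (.node (.node (.leaf 16)
 (.leaf 32))
 (.node (.leaf 16)
 (.leaf 63))))))))
 (.node (.node (.node (.node (.node (.node (.node (.leaf 0)
 (.leaf 0))
 (.node (.leaf 16)
 (.leaf 32)))
 (.node (.node (.leaf 16)
 (.leaf 8))
 (.node (.leaf 0)
 (.leaf 63))))
 (.node (.node (.node (.leaf 16)
 (.leaf 4))
 (.node (.leaf 0)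
 (.leaf 32)))
 (.node (.node (.leaf 16)
 (.leaf 32))
 (.node (.leaf 16)
 (.leaf 63)))))
 (.node (.node (.node (.node (.leaf 16)
 (.leaf 0))
 (.node (.leaf 0)
 (.leaf 32)))
 (.node (.node (.leaf 0)
 (.leaf 16))
 (.node (.leaf 16)
 (.leaf 63))))
 (.node (.node (.node (.leaf 16)
 (.leaf 4))
 (.node (.leaf 16)
 (.leaf 32)))
 (.node (.node (.leaf 16)
 (.leaf 32))
 (.node (.leaf 0)
 (.leaf 63))))))
 (.node (.node (.node (.node (.node (.leaf 16)
 (.leaf 16))
 (.node (.leaf 16)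
 (.leaf 32)))
 (.node (.node (.leaf 16)
 (.leaf 8))
 (.node (.leaf 0)
 (.leaf 63))))
 (.node (.node (.node (.leaf 16)
 (.leaf 4))
 (.node (.leaf 16)
 (.leaf 32)))
 (.node (.node (.leaf 16)
 (.leaf 32))
 (.node (.leaf 0)
 (.leaf 63)))))
 (.node (.node (.node (.node (.leaf 16)
 (.leaf 2))
 (.node (.leaf 16)
 (.leaf 32)))
 (.node (.node (.leaf 16)
 (.leaf 32))
 (.node (.leaf 16)
 (.leaf 63))))
 (.node (.node (.node (.leaf 16)
 (.leaf 4))
 (.node (.leaf 16)
 (.leaf 32)))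
 (.node (.node (.leaf 0)
 (.leaf 32))
 (.node (.leaf 0)
 (.leaf 63)))))))
 (.node (.node (.node (.node (.node (.node (.leaf 16)
 (.leaf 0))
 (.node (.leaf 0)
 (.leaf 32)))
 (.node (.node (.leaf 16)
 (.leaf 8))
 (.node (.leaf 0)
 (.leaf 63))))
 (.node (.node (.node (.leaf 16)
 (.leaf 4))
 (.node (.leaf 16)
 (.leaf 32)))
 (.node (.node (.leaf 16)
 (.leaf 32))
 (.node (.leaf 16)
 (.leaf 63)))))
 (.node (.node (.node (.node (.leaf 0)
 (.leaf 1))
 (.node (.leaf 16)
 (.leaf 32)))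
 (.node (.node (.leaf 16)
 (.leaf 32))
 (.node (.leaf 0)
 (.leaf 63))))
 (.node (.node (.node (.leaf 0)
 (.leaf 4))
 (.node (.leaf 16)
 (.leaf 32)))
 (.node (.node (.leaf 16)
 (.leaf 32))
 (.node (.leaf 0)
 (.leaf 63))))))
 (.node (.node (.node (.node (.node (.leaf 16)
 (.leaf 16))
 (.node (.leaf 0)
 (.leaf 32)))
 (.node (.node (.leaf 24)
 (.leaf 16))
 (.node (.leaf 16)
 (.leaf 63))))
 (.node (.node (.node (.leaf 16)
 (.leaf 4))
 (.node (.leaf 0)
 (.leaf 32)))
 (.node (.node (.leaf 0)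
 (.leaf 32))
 (.node (.leaf 0)
 (.leaf 63)))))
 (.node (.node (.node (.node (.leaf 16)
 (.leaf 4))
 (.node (.leaf 16)
 (.leaf 32)))
 (.node (.node (.leaf 16)
 (.leaf 32))
 (.node (.leaf 16)
 (.leaf 63))))
 (.node (.node (.node (.leaf 16)
 (.leaf 8))
 (.node (.leaf 16)
 (.leaf 16)))
 (.node (.node (.leaf 16)
 (.leaf 32))
 (.node (.leaf 16)
 (.leaf 63)))))))))

/-- Part 11 of `tag`. -/
def tag11 : Tbl :=
 (.node (.node (.node (.node (.node (.node (.node (.node (.leaf 0)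
 (.leaf 16))
 (.node (.leaf 16)
 (.leaf 32)))
 (.node (.node (.leaf 16)
 (.leaf 8))
 (.node (.leaf 0)
 (.leaf 63))))
 (.node (.node (.node (.leaf 16)
 (.leaf 4))
 (.node (.leaf 16)
 (.leaf 32)))
 (.node (.node (.leaf 0)
 (.leaf 32))
 (.node (.leaf 0)
 (.leaf 63)))))
 (.node (.node (.node (.node (.leaf 16)
 (.leaf 16))
 (.node (.leaf 16)
 (.leaf 32)))
 (.node (.node (.leaf 16)
 (.leaf 16))
 (.node (.leaf 16)
 (.leaf 63))))
 (.node (.node (.node (.leaf 16)
 (.leaf 4))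
 (.node (.leaf 0)
 (.leaf 32)))
 (.node (.node (.leaf 16)
 (.leaf 32))
 (.node (.leaf 0)
 (.leaf 63))))))
 (.node (.node (.node (.node (.node (.leaf 16)
 (.leaf 16))
 (.node (.leaf 0)
 (.leaf 32)))
 (.node (.node (.leaf 16)
 (.leaf 8))
 (.node (.leaf 16)
 (.leaf 63))))
 (.node (.node (.node (.leaf 16)
 (.leaf 4))
 (.node (.leaf 16)
 (.leaf 32)))
 (.node (.node (.leaf 0)
 (.leaf 32))
 (.node (.leaf 0)
 (.leaf 63)))))
 (.node (.node (.node (.node (.leaf 16)
 (.leaf 1))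
 (.node (.leaf 16)
 (.leaf 32)))
 (.node (.node (.leaf 0)
 (.leaf 32))
 (.node (.leaf 0)
 (.leaf 63))))
 (.node (.node (.node (.leaf 16)
 (.leaf 4))
 (.node (.leaf 0)
 (.leaf 32)))
 (.node (.node (.leaf 0)
 (.leaf 32))
 (.node (.leaf 0)
 (.leaf 63)))))))
 (.node (.node (.node (.node (.node (.node (.leaf 0)
 (.leaf 16))
 (.node (.leaf 16)
 (.leaf 32)))
 (.node (.node (.leaf 16)
 (.leaf 8))
 (.node (.leaf 16)
 (.leaf 63))))
 (.node (.node (.node (.leaf 16)
 (.leaf 4))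
 (.node (.leaf 0)
 (.leaf 32)))
 (.node (.node (.leaf 16)
 (.leaf 32))
 (.node (.leaf 16)
 (.leaf 63)))))
 (.node (.node (.node (.node (.leaf 16)
 (.leaf 0))
 (.node (.leaf 16)
 (.leaf 32)))
 (.node (.node (.leaf 16)
 (.leaf 16))
 (.node (.leaf 0)
 (.leaf 63))))
 (.node (.node (.node (.leaf 16)
 (.leaf 4))
 (.node (.leaf 0)
 (.leaf 32)))
 (.node (.node (.leaf 0)
 (.leaf 32))
 (.node (.leaf 0)
 (.leaf 63))))))
 (.node (.node (.node (.node (.node (.leaf 16)
 (.leaf 0))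
 (.node (.leaf 0)
 (.leaf 32)))
 (.node (.node (.leaf 16)
 (.leaf 8))
 (.node (.leaf 0)
 (.leaf 63))))
 (.node (.node (.node (.leaf 16)
 (.leaf 4))
 (.node (.leaf 0)
 (.leaf 32)))
 (.node (.node (.leaf 0)
 (.leaf 32))
 (.node (.leaf 0)
 (.leaf 63)))))
 (.node (.node (.node (.node (.leaf 16)
 (.leaf 2))
 (.node (.leaf 16)
 (.leaf 32)))
 (.node (.node (.leaf 0)
 (.leaf 32))
 (.node (.leaf 0)
 (.leaf 63))))
 (.node (.node (.node (.leaf 16)
 (.leaf 8))
 (.node (.leaf 0)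
 (.leaf 32)))
 (.node (.node (.leaf 16)
 (.leaf 32))
 (.node (.leaf 16)
 (.leaf 63))))))))
 (.node (.node (.node (.node (.node (.node (.node (.leaf 0)
 (.leaf 16))
 (.node (.leaf 16)
 (.leaf 32)))
 (.node (.node (.leaf 16)
 (.leaf 8))
 (.node (.leaf 16)
 (.leaf 63))))
 (.node (.node (.node (.leaf 16)
 (.leaf 4))
 (.node (.leaf 16)
 (.leaf 32)))
 (.node (.node (.leaf 0)
 (.leaf 32))
 (.node (.leaf 0)
 (.leaf 63)))))
 (.node (.node (.node (.node (.leaf 17)
 (.leaf 0))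
 (.node (.leaf 16)
 (.leaf 32)))
 (.node (.node (.leaf 16)
 (.leaf 16))
 (.node (.leaf 16)
 (.leaf 63))))
 (.node (.node (.node (.leaf 0)
 (.leaf 4))
 (.node (.leaf 16)
 (.leaf 32)))
 (.node (.node (.leaf 16)
 (.leaf 32))
 (.node (.leaf 0)
 (.leaf 63))))))
 (.node (.node (.node (.node (.node (.leaf 16)
 (.leaf 0))
 (.node (.leaf 16)
 (.leaf 32)))
 (.node (.node (.leaf 0)
 (.leaf 8))
 (.node (.leaf 0)
 (.leaf 63))))
 (.node (.node (.node (.leaf 16)
 (.leaf 4))
 (.node (.leaf 0)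
 (.leaf 32)))
 (.node (.node (.leaf 16)
 (.leaf 32))
 (.node (.leaf 0)
 (.leaf 63)))))
 (.node (.node (.node (.node (.leaf 16)
 (.leaf 2))
 (.node (.leaf 16)
 (.leaf 32)))
 (.node (.node (.leaf 0)
 (.leaf 32))
 (.node (.leaf 16)
 (.leaf 63))))
 (.node (.node (.node (.leaf 16)
 (.leaf 4))
 (.node (.leaf 0)
 (.leaf 32)))
 (.node (.node (.leaf 16)
 (.leaf 32))
 (.node (.leaf 0)
 (.leaf 63)))))))
 (.node (.node (.node (.node (.node (.node (.leaf 16)
 (.leaf 0))
 (.node (.leaf 16)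
 (.leaf 32)))
 (.node (.node (.leaf 16)
 (.leaf 8))
 (.node (.leaf 16)
 (.leaf 63))))
 (.node (.node (.node (.leaf 16)
 (.leaf 4))
 (.node (.leaf 16)
 (.leaf 32)))
 (.node (.node (.leaf 16)
 (.leaf 32))
 (.node (.leaf 0)
 (.leaf 63)))))
 (.node (.node (.node (.node (.leaf 16)
 (.leaf 1))
 (.node (.leaf 0)
 (.leaf 32)))
 (.node (.node (.leaf 16)
 (.leaf 32))
 (.node (.leaf 16)
 (.leaf 63))))
 (.node (.node (.node (.leaf 0)
 (.leaf 4))
 (.node (.leaf 0)
 (.leaf 32)))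
 (.node (.node (.leaf 0)
 (.leaf 32))
 (.node (.leaf 0)
 (.leaf 63))))))
 (.node (.node (.node (.node (.node (.leaf 16)
 (.leaf 0))
 (.node (.leaf 0)
 (.leaf 32)))
 (.node (.node (.leaf 16)
 (.leaf 16))
 (.node (.leaf 16)
 (.leaf 63))))
 (.node (.node (.node (.leaf 16)
 (.leaf 4))
 (.node (.leaf 16)
 (.leaf 32)))
 (.node (.node (.leaf 0)
 (.leaf 32))
 (.node (.leaf 16)
 (.leaf 63)))))
 (.node (.node (.node (.node (.leaf 16)
 (.leaf 4))
 (.node (.leaf 0)
 (.leaf 32)))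
 (.node (.node (.leaf 16)
 (.leaf 32))
 (.node (.leaf 16)
 (.leaf 63))))
 (.node (.node (.node (.leaf 16)
 (.leaf 8))
 (.node (.leaf 0)
 (.leaf 0)))
 (.node (.node (.leaf 16)
 (.leaf 32))
 (.node (.leaf 0)
 (.leaf 63)))))))))

/-- Part 12 of `tag`. -/
def tag12 : Tbl :=
 (.node (.node (.node (.node (.node (.node (.node (.node (.leaf 0)
 (.leaf 0))
 (.node (.leaf 16)
 (.leaf 32)))
 (.node (.node (.leaf 16)
 (.leaf 8))
 (.node (.leaf 0)
 (.leaf 63))))
 (.node (.node (.node (.leaf 16)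
 (.leaf 4))
 (.node (.leaf 0)
 (.leaf 32)))
 (.node (.node (.leaf 16)
 (.leaf 32))
 (.node (.leaf 16)
 (.leaf 63)))))
 (.node (.node (.node (.node (.leaf 16)
 (.leaf 16))
 (.node (.leaf 16)
 (.leaf 32)))
 (.node (.node (.leaf 16)
 (.leaf 16))
 (.node (.leaf 0)
 (.leaf 63))))
 (.node (.node (.node (.leaf 16)
 (.leaf 4))
 (.node (.leaf 16)
 (.leaf 32)))
 (.node (.node (.leaf 16)
 (.leaf 32))
 (.node (.leaf 0)
 (.leaf 63))))))
 (.node (.node (.node (.node (.node (.leaf 0)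
 (.leaf 0))
 (.node (.leaf 16)
 (.leaf 32)))
 (.node (.node (.leaf 16)
 (.leaf 8))
 (.node (.leaf 16)
 (.leaf 63))))
 (.node (.node (.node (.leaf 16)
 (.leaf 4))
 (.node (.leaf 16)
 (.leaf 32)))
 (.node (.node (.leaf 16)
 (.leaf 32))
 (.node (.leaf 16)
 (.leaf 63)))))
 (.node (.node (.node (.node (.leaf 16)
 (.leaf 1))
 (.node (.leaf 16)
 (.leaf 32)))
 (.node (.node (.leaf 16)
 (.leaf 32))
 (.node (.leaf 0)
 (.leaf 63))))
 (.node (.node (.node (.leaf 16)
 (.leaf 4))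
 (.node (.leaf 0)
 (.leaf 32)))
 (.node (.node (.leaf 16)
 (.leaf 32))
 (.node (.leaf 0)
 (.leaf 63)))))))
 (.node (.node (.node (.node (.node (.node (.leaf 0)
 (.leaf 16))
 (.node (.leaf 0)
 (.leaf 32)))
 (.node (.node (.leaf 0)
 (.leaf 8))
 (.node (.leaf 0)
 (.leaf 63))))
 (.node (.node (.node (.leaf 16)
 (.leaf 4))
 (.node (.leaf 16)
 (.leaf 32)))
 (.node (.node (.leaf 16)
 (.leaf 32))
 (.node (.leaf 16)
 (.leaf 63)))))
 (.node (.node (.node (.node (.leaf 16)
 (.leaf 16))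
 (.node (.leaf 16)
 (.leaf 32)))
 (.node (.node (.leaf 16)
 (.leaf 16))
 (.node (.leaf 0)
 (.leaf 63))))
 (.node (.node (.node (.leaf 0)
 (.leaf 4))
 (.node (.leaf 0)
 (.leaf 32)))
 (.node (.node (.leaf 16)
 (.leaf 32))
 (.node (.leaf 16)
 (.leaf 63))))))
 (.node (.node (.node (.node (.node (.leaf 16)
 (.leaf 16))
 (.node (.leaf 16)
 (.leaf 32)))
 (.node (.node (.leaf 16)
 (.leaf 8))
 (.node (.leaf 16)
 (.leaf 63))))
 (.node (.node (.node (.leaf 0)
 (.leaf 4))
 (.node (.leaf 16)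
 (.leaf 32)))
 (.node (.node (.leaf 16)
 (.leaf 32))
 (.node (.leaf 16)
 (.leaf 63)))))
 (.node (.node (.node (.node (.leaf 16)
 (.leaf 2))
 (.node (.leaf 16)
 (.leaf 32)))
 (.node (.node (.leaf 16)
 (.leaf 32))
 (.node (.leaf 0)
 (.leaf 63))))
 (.node (.node (.node (.leaf 16)
 (.leaf 8))
 (.node (.leaf 16)
 (.leaf 32)))
 (.node (.node (.leaf 16)
 (.leaf 32))
 (.node (.leaf 0)
 (.leaf 63))))))))
 (.node (.node (.node (.node (.node (.node (.node (.leaf 16)
 (.leaf 0))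
 (.node (.leaf 0)
 (.leaf 32)))
 (.node (.node (.leaf 16)
 (.leaf 8))
 (.node (.leaf 0)
 (.leaf 63))))
 (.node (.node (.node (.leaf 0)
 (.leaf 4))
 (.node (.leaf 16)
 (.leaf 32)))
 (.node (.node (.leaf 16)
 (.leaf 32))
 (.node (.leaf 16)
 (.leaf 63)))))
 (.node (.node (.node (.node (.leaf 0)
 (.leaf 16))
 (.node (.leaf 16)
 (.leaf 32)))
 (.node (.node (.leaf 0)
 (.leaf 16))
 (.node (.leaf 16)
 (.leaf 63))))
 (.node (.node (.node (.leaf 16)
 (.leaf 4))
 (.node (.leaf 16)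
 (.leaf 32)))
 (.node (.node (.leaf 0)
 (.leaf 32))
 (.node (.leaf 16)
 (.leaf 63))))))
 (.node (.node (.node (.node (.node (.leaf 16)
 (.leaf 0))
 (.node (.leaf 16)
 (.leaf 32)))
 (.node (.node (.leaf 16)
 (.leaf 8))
 (.node (.leaf 16)
 (.leaf 63))))
 (.node (.node (.node (.leaf 16)
 (.leaf 4))
 (.node (.leaf 16)
 (.leaf 32)))
 (.node (.node (.leaf 16)
 (.leaf 32))
 (.node (.leaf 0)
 (.leaf 63)))))
 (.node (.node (.node (.node (.leaf 16)
 (.leaf 2))
 (.node (.leaf 16)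
 (.leaf 32)))
 (.node (.node (.leaf 0)
 (.leaf 32))
 (.node (.leaf 0)
 (.leaf 63))))
 (.node (.node (.node (.leaf 16)
 (.leaf 4))
 (.node (.leaf 16)
 (.leaf 32)))
 (.node (.node (.leaf 16)
 (.leaf 32))
 (.node (.leaf 0)
 (.leaf 63)))))))
 (.node (.node (.node (.node (.node (.node (.leaf 16)
 (.leaf 0))
 (.node (.leaf 16)
 (.leaf 32)))
 (.node (.node (.leaf 16)
 (.leaf 8))
 (.node (.leaf 0)
 (.leaf 63))))
 (.node (.node (.node (.leaf 16)
 (.leaf 4))
 (.node (.leaf 0)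
 (.leaf 32)))
 (.node (.node (.leaf 16)
 (.leaf 32))
 (.node (.leaf 0)
 (.leaf 63)))))
 (.node (.node (.node (.node (.leaf 0)
 (.leaf 1))
 (.node (.leaf 16)
 (.leaf 32)))
 (.node (.node (.leaf 16)
 (.leaf 32))
 (.node (.leaf 0)
 (.leaf 63))))
 (.node (.node (.node (.leaf 16)
 (.leaf 4))
 (.node (.leaf 16)
 (.leaf 32)))
 (.node (.node (.leaf 16)
 (.leaf 32))
 (.node (.leaf 16)
 (.leaf 63))))))
 (.node (.node (.node (.node (.node (.leaf 16)
 (.leaf 0))
 (.node (.leaf 16)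
 (.leaf 32)))
 (.node (.node (.leaf 16)
 (.leaf 16))
 (.node (.leaf 0)
 (.leaf 63))))
 (.node (.node (.node (.leaf 16)
 (.leaf 4))
 (.node (.leaf 0)
 (.leaf 32)))
 (.node (.node (.leaf 16)
 (.leaf 32))
 (.node (.leaf 16)
 (.leaf 63)))))
 (.node (.node (.node (.node (.leaf 16)
 (.leaf 4))
 (.node (.leaf 0)
 (.leaf 32)))
 (.node (.node (.leaf 0)
 (.leaf 32))
 (.node (.leaf 16)
 (.leaf 63))))
 (.node (.node (.node (.leaf 16)
 (.leaf 8))
 (.node (.leaf 16)
 (.leaf 16)))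
 (.node (.node (.leaf 0)
 (.leaf 32))
 (.node (.leaf 0)
 (.leaf 63)))))))))

/-- Part 13 of `tag`. -/
def tag13 : Tbl :=
 (.node (.node (.node (.node (.node (.node (.node (.node (.leaf 0)
 (.leaf 0))
 (.node (.leaf 0)
 (.leaf 32)))
 (.node (.node (.leaf 16)
 (.leaf 8))
 (.node (.leaf 0)
 (.leaf 63))))
 (.node (.node (.node (.leaf 0)
 (.leaf 4))
 (.node (.leaf 16)
 (.leaf 32)))
 (.node (.node (.leaf 16)
 (.leaf 32))
 (.node (.leaf 16)
 (.leaf 63)))))
 (.node (.node (.node (.node (.leaf 0)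
 (.leaf 16))
 (.node (.leaf 16)
 (.leaf 32)))
 (.node (.node (.leaf 0)
 (.leaf 16))
 (.node (.leaf 0)
 (.leaf 63))))
 (.node (.node (.node (.leaf 0)
 (.leaf 4))
 (.node (.leaf 0)
 (.leaf 32)))
 (.node (.node (.leaf 0)
 (.leaf 32))
 (.node (.leaf 0)
 (.leaf 63))))))
 (.node (.node (.node (.node (.node (.leaf 16)
 (.leaf 0))
 (.node (.leaf 0)
 (.leaf 32)))
 (.node (.node (.leaf 16)
 (.leaf 8))
 (.node (.leaf 0)
 (.leaf 63))))
 (.node (.node (.node (.leaf 16)
 (.leaf 4))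
 (.node (.leaf 16)
 (.leaf 32)))
 (.node (.node (.leaf 16)
 (.leaf 32))
 (.node (.leaf 16)
 (.leaf 63)))))
 (.node (.node (.node (.node (.leaf 16)
 (.leaf 1))
 (.node (.leaf 0)
 (.leaf 32)))
 (.node (.node (.leaf 16)
 (.leaf 32))
 (.node (.leaf 16)
 (.leaf 63))))
 (.node (.node (.node (.leaf 16)
 (.leaf 4))
 (.node (.leaf 16)
 (.leaf 32)))
 (.node (.node (.leaf 16)
 (.leaf 32))
 (.node (.leaf 0)
 (.leaf 63)))))))
 (.node (.node (.node (.node (.node (.node (.leaf 0)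
 (.leaf 0))
 (.node (.leaf 16)
 (.leaf 32)))
 (.node (.node (.leaf 16)
 (.leaf 8))
 (.node (.leaf 16)
 (.leaf 63))))
 (.node (.node (.node (.leaf 16)
 (.leaf 4))
 (.node (.leaf 0)
 (.leaf 32)))
 (.node (.node (.leaf 16)
 (.leaf 32))
 (.node (.leaf 0)
 (.leaf 63)))))
 (.node (.node (.node (.node (.leaf 16)
 (.leaf 0))
 (.node (.leaf 16)
 (.leaf 32)))
 (.node (.node (.leaf 16)
 (.leaf 16))
 (.node (.leaf 0)
 (.leaf 63))))
 (.node (.node (.node (.leaf 0)
 (.leaf 4))
 (.node (.leaf 16)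
 (.leaf 32)))
 (.node (.node (.leaf 0)
 (.leaf 32))
 (.node (.leaf 0)
 (.leaf 63))))))
 (.node (.node (.node (.node (.node (.leaf 16)
 (.leaf 0))
 (.node (.leaf 16)
 (.leaf 32)))
 (.node (.node (.leaf 0)
 (.leaf 8))
 (.node (.leaf 0)
 (.leaf 63))))
 (.node (.node (.node (.leaf 0)
 (.leaf 4))
 (.node (.leaf 0)
 (.leaf 32)))
 (.node (.node (.leaf 16)
 (.leaf 32))
 (.node (.leaf 16)
 (.leaf 63)))))
 (.node (.node (.node (.node (.leaf 16)
 (.leaf 2))
 (.node (.leaf 0)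
 (.leaf 32)))
 (.node (.node (.leaf 16)
 (.leaf 32))
 (.node (.leaf 16)
 (.leaf 63))))
 (.node (.node (.node (.leaf 0)
 (.leaf 8))
 (.node (.leaf 16)
 (.leaf 32)))
 (.node (.node (.leaf 0)
 (.leaf 32))
 (.node (.leaf 16)
 (.leaf 63))))))))
 (.node (.node (.node (.node (.node (.node (.node (.leaf 0)
 (.leaf 0))
 (.node (.leaf 16)
 (.leaf 32)))
 (.node (.node (.leaf 16)
 (.leaf 8))
 (.node (.leaf 16)
 (.leaf 63))))
 (.node (.node (.node (.leaf 16)
 (.leaf 4))
 (.node (.leaf 0)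
 (.leaf 32)))
 (.node (.node (.leaf 16)
 (.leaf 32))
 (.node (.leaf 0)
 (.leaf 63)))))
 (.node (.node (.node (.node (.leaf 16)
 (.leaf 16))
 (.node (.leaf 0)
 (.leaf 32)))
 (.node (.node (.leaf 16)
 (.leaf 16))
 (.node (.leaf 16)
 (.leaf 63))))
 (.node (.node (.node (.leaf 16)
 (.leaf 4))
 (.node (.leaf 16)
 (.leaf 32)))
 (.node (.node (.leaf 16)
 (.leaf 32))
 (.node (.leaf 0)
 (.leaf 63))))))
 (.node (.node (.node (.node (.node (.leaf 0)
 (.leaf 0))
 (.node (.leaf 16)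
 (.leaf 32)))
 (.node (.node (.leaf 16)
 (.leaf 8))
 (.node (.leaf 16)
 (.leaf 63))))
 (.node (.node (.node (.leaf 32)
 (.leaf 4))
 (.node (.leaf 16)
 (.leaf 32)))
 (.node (.node (.leaf 16)
 (.leaf 32))
 (.node (.leaf 16)
 (.leaf 63)))))
 (.node (.node (.node (.node (.leaf 0)
 (.leaf 2))
 (.node (.leaf 16)
 (.leaf 32)))
 (.node (.node (.leaf 16)
 (.leaf 32))
 (.node (.leaf 0)
 (.leaf 63))))
 (.node (.node (.node (.leaf 0)
 (.leaf 4))
 (.node (.leaf 16)
 (.leaf 32)))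
 (.node (.node (.leaf 16)
 (.leaf 32))
 (.node (.leaf 0)
 (.leaf 63)))))))
 (.node (.node (.node (.node (.node (.node (.leaf 16)
 (.leaf 16))
 (.node (.leaf 0)
 (.leaf 32)))
 (.node (.node (.leaf 16)
 (.leaf 8))
 (.node (.leaf 0)
 (.leaf 63))))
 (.node (.node (.node (.leaf 16)
 (.leaf 4))
 (.node (.leaf 16)
 (.leaf 32)))
 (.node (.node (.leaf 16)
 (.leaf 32))
 (.node (.leaf 0)
 (.leaf 63)))))
 (.node (.node (.node (.node (.leaf 16)
 (.leaf 1))
 (.node (.leaf 16)
 (.leaf 32)))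
 (.node (.node (.leaf 16)
 (.leaf 32))
 (.node (.leaf 16)
 (.leaf 63))))
 (.node (.node (.node (.leaf 16)
 (.leaf 4))
 (.node (.leaf 0)
 (.leaf 32)))
 (.node (.node (.leaf 16)
 (.leaf 32))
 (.node (.leaf 0)
 (.leaf 63))))))
 (.node (.node (.node (.node (.node (.leaf 16)
 (.leaf 0))
 (.node (.leaf 16)
 (.leaf 32)))
 (.node (.node (.leaf 16)
 (.leaf 16))
 (.node (.leaf 0)
 (.leaf 63))))
 (.node (.node (.node (.leaf 16)
 (.leaf 4))
 (.node (.leaf 16)
 (.leaf 32)))
 (.node (.node (.leaf 16)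
 (.leaf 32))
 (.node (.leaf 0)
 (.leaf 63)))))
 (.node (.node (.node (.node (.leaf 16)
 (.leaf 4))
 (.node (.leaf 0)
 (.leaf 32)))
 (.node (.node (.leaf 16)
 (.leaf 32))
 (.node (.leaf 16)
 (.leaf 63))))
 (.node (.node (.node (.leaf 16)
 (.leaf 8))
 (.node (.leaf 16)
 (.leaf 0)))
 (.node (.node (.leaf 16)
 (.leaf 32))
 (.node (.leaf 0)
 (.leaf 63)))))))))

/-- Part 14 of `tag`. -/
def tag14 : Tbl :=
 (.node (.node (.node (.node (.node (.node (.node (.node (.leaf 0)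
 (.leaf 0))
 (.node (.leaf 16)
 (.leaf 32)))
 (.node (.node (.leaf 16)
 (.leaf 8))
 (.node (.leaf 0)
 (.leaf 63))))
 (.node (.node (.node (.leaf 16)
 (.leaf 4))
 (.node (.leaf 0)
 (.leaf 32)))
 (.node (.node (.leaf 0)
 (.leaf 32))
 (.node (.leaf 0)
 (.leaf 63)))))
 (.node (.node (.node (.node (.leaf 16)
 (.leaf 0))
 (.node (.leaf 16)
 (.leaf 32)))
 (.node (.node (.leaf 16)
 (.leaf 16))
 (.node (.leaf 0)
 (.leaf 63))))
 (.node (.node (.node (.leaf 16)
 (.leaf 4))
 (.node (.leaf 16)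
 (.leaf 32)))
 (.node (.node (.leaf 16)
 (.leaf 32))
 (.node (.leaf 0)
 (.leaf 63))))))
 (.node (.node (.node (.node (.node (.leaf 16)
 (.leaf 0))
 (.node (.leaf 0)
 (.leaf 32)))
 (.node (.node (.leaf 16)
 (.leaf 8))
 (.node (.leaf 16)
 (.leaf 63))))
 (.node (.node (.node (.leaf 16)
 (.leaf 4))
 (.node (.leaf 16)
 (.leaf 32)))
 (.node (.node (.leaf 16)
 (.leaf 32))
 (.node (.leaf 16)
 (.leaf 63)))))
 (.node (.node (.node (.node (.leaf 16)
 (.leaf 1))
 (.node (.leaf 16)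
 (.leaf 32)))
 (.node (.node (.leaf 16)
 (.leaf 32))
 (.node (.leaf 16)
 (.leaf 63))))
 (.node (.node (.node (.leaf 16)
 (.leaf 4))
 (.node (.leaf 0)
 (.leaf 32)))
 (.node (.node (.leaf 16)
 (.leaf 32))
 (.node (.leaf 16)
 (.leaf 63)))))))
 (.node (.node (.node (.node (.node (.node (.leaf 0)
 (.leaf 0))
 (.node (.leaf 0)
 (.leaf 32)))
 (.node (.node (.leaf 16)
 (.leaf 8))
 (.node (.leaf 0)
 (.leaf 63))))
 (.node (.node (.node (.leaf 16)
 (.leaf 4))
 (.node (.leaf 16)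
 (.leaf 32)))
 (.node (.node (.leaf 16)
 (.leaf 32))
 (.node (.leaf 0)
 (.leaf 63)))))
 (.node (.node (.node (.node (.leaf 16)
 (.leaf 0))
 (.node (.leaf 16)
 (.leaf 32)))
 (.node (.node (.leaf 16)
 (.leaf 16))
 (.node (.leaf 0)
 (.leaf 63))))
 (.node (.node (.node (.leaf 16)
 (.leaf 4))
 (.node (.leaf 0)
 (.leaf 32)))
 (.node (.node (.leaf 16)
 (.leaf 32))
 (.node (.leaf 16)
 (.leaf 63))))))
 (.node (.node (.node (.node (.node (.leaf 0)
 (.leaf 18))
 (.node (.leaf 0)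
 (.leaf 32)))
 (.node (.node (.leaf 16)
 (.leaf 8))
 (.node (.leaf 0)
 (.leaf 63))))
 (.node (.node (.node (.leaf 16)
 (.leaf 4))
 (.node (.leaf 16)
 (.leaf 32)))
 (.node (.node (.leaf 16)
 (.leaf 32))
 (.node (.leaf 0)
 (.leaf 63)))))
 (.node (.node (.node (.node (.leaf 16)
 (.leaf 2))
 (.node (.leaf 16)
 (.leaf 32)))
 (.node (.node (.leaf 16)
 (.leaf 32))
 (.node (.leaf 0)
 (.leaf 63))))
 (.node (.node (.node (.leaf 16)
 (.leaf 8))
 (.node (.leaf 0)
 (.leaf 32)))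
 (.node (.node (.leaf 16)
 (.leaf 32))
 (.node (.leaf 0)
 (.leaf 63))))))))
 (.node (.node (.node (.node (.node (.node (.node (.leaf 0)
 (.leaf 0))
 (.node (.leaf 16)
 (.leaf 32)))
 (.node (.node (.leaf 16)
 (.leaf 8))
 (.node (.leaf 0)
 (.leaf 63))))
 (.node (.node (.node (.leaf 16)
 (.leaf 4))
 (.node (.leaf 16)
 (.leaf 32)))
 (.node (.node (.leaf 0)
 (.leaf 32))
 (.node (.leaf 16)
 (.leaf 63)))))
 (.node (.node (.node (.node (.leaf 16)
 (.leaf 16))
 (.node (.leaf 0)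
 (.leaf 32)))
 (.node (.node (.leaf 16)
 (.leaf 16))
 (.node (.leaf 16)
 (.leaf 63))))
 (.node (.node (.node (.leaf 16)
 (.leaf 4))
 (.node (.leaf 16)
 (.leaf 32)))
 (.node (.node (.leaf 0)
 (.leaf 32))
 (.node (.leaf 0)
 (.leaf 63))))))
 (.node (.node (.node (.node (.node (.leaf 16)
 (.leaf 0))
 (.node (.leaf 16)
 (.leaf 32)))
 (.node (.node (.leaf 0)
 (.leaf 8))
 (.node (.leaf 0)
 (.leaf 63))))
 (.node (.node (.node (.leaf 16)
 (.leaf 4))
 (.node (.leaf 0)
 (.leaf 32)))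
 (.node (.node (.leaf 18)
 (.leaf 32))
 (.node (.leaf 0)
 (.leaf 63)))))
 (.node (.node (.node (.node (.leaf 16)
 (.leaf 2))
 (.node (.leaf 16)
 (.leaf 32)))
 (.node (.node (.leaf 0)
 (.leaf 32))
 (.node (.leaf 0)
 (.leaf 63))))
 (.node (.node (.node (.leaf 0)
 (.leaf 4))
 (.node (.leaf 16)
 (.leaf 32)))
 (.node (.node (.leaf 16)
 (.leaf 32))
 (.node (.leaf 0)
 (.leaf 63)))))))
 (.node (.node (.node (.node (.node (.node (.leaf 16)
 (.leaf 0))
 (.node (.leaf 16)
 (.leaf 32)))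
 (.node (.node (.leaf 16)
 (.leaf 8))
 (.node (.leaf 0)
 (.leaf 63))))
 (.node (.node (.node (.leaf 16)
 (.leaf 4))
 (.node (.leaf 16)
 (.leaf 32)))
 (.node (.node (.leaf 16)
 (.leaf 32))
 (.node (.leaf 0)
 (.leaf 63)))))
 (.node (.node (.node (.node (.leaf 16)
 (.leaf 1))
 (.node (.leaf 16)
 (.leaf 32)))
 (.node (.node (.leaf 16)
 (.leaf 32))
 (.node (.leaf 0)
 (.leaf 63))))
 (.node (.node (.node (.leaf 16)
 (.leaf 4))
 (.node (.leaf 16)
 (.leaf 32)))
 (.node (.node (.leaf 16)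
 (.leaf 32))
 (.node (.leaf 0)
 (.leaf 63))))))
 (.node (.node (.node (.node (.node (.leaf 16)
 (.leaf 0))
 (.node (.leaf 16)
 (.leaf 32)))
 (.node (.node (.leaf 16)
 (.leaf 16))
 (.node (.leaf 16)
 (.leaf 63))))
 (.node (.node (.node (.leaf 16)
 (.leaf 4))
 (.node (.leaf 16)
 (.leaf 32)))
 (.node (.node (.leaf 16)
 (.leaf 32))
 (.node (.leaf 0)
 (.leaf 63)))))
 (.node (.node (.node (.node (.leaf 16)
 (.leaf 4))
 (.node (.leaf 16)
 (.leaf 32)))
 (.node (.node (.leaf 0)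
 (.leaf 32))
 (.node (.leaf 0)
 (.leaf 63))))
 (.node (.node (.node (.leaf 16)
 (.leaf 8))
 (.node (.leaf 0)
 (.leaf 0)))
 (.node (.node (.leaf 0)
 (.leaf 32))
 (.node (.leaf 0)
 (.leaf 63)))))))))

/-- Part 15 of `tag`. -/
def tag15 : Tbl :=
 (.node (.node (.node (.node (.node (.node (.node (.node (.leaf 0)
 (.leaf 16))
 (.node (.leaf 16)
 (.leaf 32)))
 (.node (.node (.leaf 16)
 (.leaf 8))
 (.node (.leaf 16)
 (.leaf 63))))
 (.node (.node (.node (.leaf 16)
 (.leaf 4))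
 (.node (.leaf 0)
 (.leaf 32)))
 (.node (.node (.leaf 16)
 (.leaf 32))
 (.node (.leaf 0)
 (.leaf 63)))))
 (.node (.node (.node (.node (.leaf 16)
 (.leaf 0))
 (.node (.leaf 16)
 (.leaf 32)))
 (.node (.node (.leaf 16)
 (.leaf 16))
 (.node (.leaf 16)
 (.leaf 63))))
 (.node (.node (.node (.leaf 0)
 (.leaf 4))
 (.node (.leaf 0)
 (.leaf 32)))
 (.node (.node (.leaf 16)
 (.leaf 32))
 (.node (.leaf 16)
 (.leaf 63))))))
 (.node (.node (.node (.node (.node (.leaf 16)
 (.leaf 0))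
 (.node (.leaf 16)
 (.leaf 32)))
 (.node (.node (.leaf 16)
 (.leaf 8))
 (.node (.leaf 0)
 (.leaf 63))))
 (.node (.node (.node (.leaf 16)
 (.leaf 4))
 (.node (.leaf 16)
 (.leaf 32)))
 (.node (.node (.leaf 16)
 (.leaf 32))
 (.node (.leaf 0)
 (.leaf 63)))))
 (.node (.node (.node (.node (.leaf 16)
 (.leaf 1))
 (.node (.leaf 16)
 (.leaf 32)))
 (.node (.node (.leaf 16)
 (.leaf 32))
 (.node (.leaf 16)
 (.leaf 63))))
 (.node (.node (.node (.leaf 16)
 (.leaf 4))
 (.node (.leaf 0)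
 (.leaf 32)))
 (.node (.node (.leaf 16)
 (.leaf 32))
 (.node (.leaf 16)
 (.leaf 63)))))))
 (.node (.node (.node (.node (.node (.node (.leaf 16)
 (.leaf 0))
 (.node (.leaf 0)
 (.leaf 32)))
 (.node (.node (.leaf 16)
 (.leaf 8))
 (.node (.leaf 0)
 (.leaf 63))))
 (.node (.node (.node (.leaf 16)
 (.leaf 4))
 (.node (.leaf 16)
 (.leaf 32)))
 (.node (.node (.leaf 16)
 (.leaf 32))
 (.node (.leaf 16)
 (.leaf 63)))))
 (.node (.node (.node (.node (.leaf 16)
 (.leaf 0))
 (.node (.leaf 16)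
 (.leaf 32)))
 (.node (.node (.leaf 0)
 (.leaf 16))
 (.node (.leaf 16)
 (.leaf 63))))
 (.node (.node (.node (.leaf 0)
 (.leaf 4))
 (.node (.leaf 0)
 (.leaf 32)))
 (.node (.node (.leaf 0)
 (.leaf 32))
 (.node (.leaf 0)
 (.leaf 63))))))
 (.node (.node (.node (.node (.node (.leaf 16)
 (.leaf 16))
 (.node (.leaf 16)
 (.leaf 32)))
 (.node (.node (.leaf 0)
 (.leaf 8))
 (.node (.leaf 16)
 (.leaf 63))))
 (.node (.node (.node (.leaf 16)
 (.leaf 4))
 (.node (.leaf 16)
 (.leaf 32)))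
 (.node (.node (.leaf 16)
 (.leaf 32))
 (.node (.leaf 0)
 (.leaf 63)))))
 (.node (.node (.node (.node (.leaf 16)
 (.leaf 2))
 (.node (.leaf 0)
 (.leaf 32)))
 (.node (.node (.leaf 16)
 (.leaf 32))
 (.node (.leaf 0)
 (.leaf 63))))
 (.node (.node (.node (.leaf 16)
 (.leaf 8))
 (.node (.leaf 16)
 (.leaf 32)))
 (.node (.node (.leaf 16)
 (.leaf 32))
 (.node (.leaf 0)
 (.leaf 63))))))))
 (.node (.node (.node (.node (.node (.node (.node (.leaf 0)
 (.leaf 0))
 (.node (.leaf 0)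
 (.leaf 32)))
 (.node (.node (.leaf 16)
 (.leaf 8))
 (.node (.leaf 0)
 (.leaf 63))))
 (.node (.node (.node (.leaf 16)
 (.leaf 4))
 (.node (.leaf 16)
 (.leaf 32)))
 (.node (.node (.leaf 16)
 (.leaf 32))
 (.node (.leaf 0)
 (.leaf 63)))))
 (.node (.node (.node (.node (.leaf 16)
 (.leaf 0))
 (.node (.leaf 16)
 (.leaf 32)))
 (.node (.node (.leaf 16)
 (.leaf 16))
 (.node (.leaf 0)
 (.leaf 63))))
 (.node (.node (.node (.leaf 16)
 (.leaf 4))
 (.node (.leaf 0)
 (.leaf 32)))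
 (.node (.node (.leaf 16)
 (.leaf 32))
 (.node (.leaf 0)
 (.leaf 63))))))
 (.node (.node (.node (.node (.node (.leaf 16)
 (.leaf 0))
 (.node (.leaf 16)
 (.leaf 32)))
 (.node (.node (.leaf 16)
 (.leaf 8))
 (.node (.leaf 16)
 (.leaf 63))))
 (.node (.node (.node (.leaf 16)
 (.leaf 4))
 (.node (.leaf 0)
 (.leaf 32)))
 (.node (.node (.leaf 0)
 (.leaf 32))
 (.node (.leaf 0)
 (.leaf 63)))))
 (.node (.node (.node (.node (.leaf 16)
 (.leaf 2))
 (.node (.leaf 16)
 (.leaf 32)))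
 (.node (.node (.leaf 16)
 (.leaf 32))
 (.node (.leaf 16)
 (.leaf 63))))
 (.node (.node (.node (.leaf 16)
 (.leaf 4))
 (.node (.leaf 0)
 (.leaf 32)))
 (.node (.node (.leaf 16)
 (.leaf 32))
 (.node (.leaf 16)
 (.leaf 63)))))))
 (.node (.node (.node (.node (.node (.node (.leaf 16)
 (.leaf 16))
 (.node (.leaf 0)
 (.leaf 32)))
 (.node (.node (.leaf 0)
 (.leaf 8))
 (.node (.leaf 16)
 (.leaf 63))))
 (.node (.node (.node (.leaf 16)
 (.leaf 4))
 (.node (.leaf 0)
 (.leaf 32)))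
 (.node (.node (.leaf 0)
 (.leaf 32))
 (.node (.leaf 0)
 (.leaf 63)))))
 (.node (.node (.node (.node (.leaf 16)
 (.leaf 1))
 (.node (.leaf 16)
 (.leaf 32)))
 (.node (.node (.leaf 16)
 (.leaf 32))
 (.node (.leaf 16)
 (.leaf 63))))
 (.node (.node (.node (.leaf 16)
 (.leaf 4))
 (.node (.leaf 0)
 (.leaf 32)))
 (.node (.node (.leaf 16)
 (.leaf 32))
 (.node (.leaf 0)
 (.leaf 63))))))
 (.node (.node (.node (.node (.node (.leaf 16)
 (.leaf 16))
 (.node (.leaf 16)
 (.leaf 32)))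
 (.node (.node (.leaf 16)
 (.leaf 16))
 (.node (.leaf 16)
 (.leaf 63))))
 (.node (.node (.node (.leaf 16)
 (.leaf 4))
 (.node (.leaf 16)
 (.leaf 32)))
 (.node (.node (.leaf 16)
 (.leaf 32))
 (.node (.leaf 16)
 (.leaf 63)))))
 (.node (.node (.node (.node (.leaf 16)
 (.leaf 4))
 (.node (.leaf 16)
 (.leaf 32)))
 (.node (.node (.leaf 16)
 (.leaf 32))
 (.node (.leaf 16)
 (.leaf 63))))
 (.node (.node (.node (.leaf 16)
 (.leaf 8))
 (.node (.leaf 16)
 (.leaf 0)))
 (.node (.node (.leaf 16)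
 (.leaf 32))
 (.node (.leaf 0)
 (.leaf 63)))))))))

/-- The table `tag`. -/
def tag : Tbl :=
 (.node (.node (.node (.node tag0 tag8) (.node tag4 tag12)) (.node (.node tag2 tag10) (.node tag6 tag14))) (.node (.node (.node tag1 tag9) (.node tag5 tag13)) (.node (.node tag3 tag11) (.node tag7 tag15))))

end CfsgLib.HeUnique.He.Dat
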