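import Cfsg.Agent.Lib.HeUnique.Cert.Main
import Cfsg.Agent.Lib.HeUnique.He.CheckNodes0
import Cfsg.Agent.Lib.HeUnique.He.CheckNodes1
import Cfsg.Agent.Lib.HeUnique.He.CheckNodes2
import Cfsg.Agent.Lib.HeUnique.He.CheckNodes3
import Cfsg.Agent.Lib.HeUnique.He.CheckSteps0
import Cfsg.Agent.Lib.HeUnique.He.CheckSteps1
import Cfsg.Agent.Lib.HeUnique.He.CheckSteps2
import Cfsg.Agent.Lib.HeUnique.He.CheckSteps3
import Cfsg.Agent.Lib.HeUnique.He.CheckRest
import Cfsg.Agent.Lib.HeUnique.He.CheckSpans
import Cfsg.Agent.Lib.HeModel.CentIso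

/-!
The universal property of the Held group with respect to the centralizer of a 2-central involution and the
normalizers of two elementary abelian subgroups of order 64.
-/

set_option autoImplicit false

namespace CfsgLib.HeUnique.He

open CfsgLib.Sporadic CfsgLib.Fusion48.RepTable CfsgLib.HeUnique.Cert CfsgLib.HeModel Subgroup

/-- The first elementary abelian subgroup. -/
noncomputable def E1 : Subgroup Cfsg.Spor.He := Cert.E code Dat.data 0

/-- The second elementary abelian subgroup. -/
noncomputable def E2 : Subgroup Cfsg.Spor.He := Cert.E code Dat.data 1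

theorem all_split {f : ℕ → Bool} {lo hi : ℕ} (h : ((List.range (hi - lo)).all fun n => f (lo + n)) = true)
    (n : ℕ) (h1 : lo ≤ n) (h2 : n < hi) : f n = true := by
  have := List.all_eq_true.1 h (n - lo) (List.mem_range.2 (by omega))
  rwa [Nat.add_sub_cancel' h1] at this

/-- The certificate applies to the model. -/
theorem valid : Valid code Dat.data zEl where
  rep_z := (beq_iff_eq.1 zc_ok).symm ▸ zEl_rep
  rep_gen n hn := by
    obtain ⟨x, hx⟩ := exists_word (cwWords.getD n [])
    have h := List.all_eq_true.1 cw_nodes_ok n (List.mem_range.2 hn)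
    exact ⟨x, (beq_iff_eq.1 h).symm ▸ hx⟩
  rep_edge k hk := by
    interval_cases k
    · obtain ⟨x, hx⟩ := exists_word Dat.edgeWord0
      exact ⟨x, (beq_iff_eq.1 edge0_ok).symm ▸ hx⟩
    · obtain ⟨x, hx⟩ := exists_word Dat.edgeWord1
      exact ⟨x, (beq_iff_eq.1 edge1_ok).symm ▸ hx⟩
  ncg_lt := by decide +kernel
  nodes n hn := by
    have hn' : n < 3589 := hn
    rcases Nat.lt_or_ge n 897 with h | h
    · exact all_split nodes0_ok n (Nat.zero_le _) h
    rcases Nat.lt_or_ge n 1794 with h' | h'
    · exact all_split nodes1_ok n h h'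
    rcases Nat.lt_or_ge n 2691 with h'' | h''
    · exact all_split nodes2_ok n h' h''
    · exact all_split nodes3_ok n h'' hn'
  cent := cent_ok
  loc := local_ok
  steps n hn := by
    have hn' : n < 1291 := hn
    rcases Nat.lt_or_ge n 322 with h | h
    · exact all_split (f := fun n => stepOK (mulF2 51) (oneF2 51) Dat.data n (Dat.data.fact n)) steps0_ok n
        (Nat.zero_le _) h
    rcases Nat.lt_or_ge n 645 with h' | h'
    · exact all_split (f := fun n => stepOK (mulF2 51) (oneF2 51) Dat.data n (Dat.data.fact n)) steps1_ok n h h'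
    rcases Nat.lt_or_ge n 968 with h'' | h''
    · exact all_split (f := fun n => stepOK (mulF2 51) (oneF2 51) Dat.data n (Dat.data.fact n)) steps2_ok n h' h''
    · exact all_split (f := fun n => stepOK (mulF2 51) (oneF2 51) Dat.data n (Dat.data.fact n)) steps3_ok n h'' hn'
  orbs := orbs_ok
  cover := cover_ok

theorem E_eq_gen (q : ℕ) : Cert.E code Dat.data q = gen code (eGens q) := by
  apply le_antisymm <;> refine Subgroup.closure_mono ?_
  · rintro x ⟨n, hn, hx⟩
    exact ⟨_, List.mem_map.2 ⟨n, hn, rfl⟩, hx⟩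
  · rintro x ⟨c, hc, hx⟩
    obtain ⟨n, hn, rfl⟩ := List.mem_map.1 hc
    exact ⟨n, hn, hx⟩

theorem tab_ok {q : ℕ} (hq : q < 2) : tabOK code.mul code.one (eGens q) (eList q) (ePar q) = true := by
  interval_cases q
  · exact tab0_ok
  · exact tab1_ok

/-- The elements of the two subgroups are those listed. -/
theorem E_spec {q : ℕ} (hq : q < 2) :
    (∀ c ∈ eList q, ∃ x, x ∈ Cert.E code Dat.data q ∧ code.Rep c x) ∧
      (∀ x, x ∈ Cert.E code Dat.data q ↔ ∃ c ∈ eList q, code.Rep c x) ∧
      Nat.card (Cert.E code Dat.data q) = (eList q).length := by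
  rw [E_eq_gen]
  refine tab_spec code (fun c hc => ?_) (tab_ok hq)
  obtain ⟨n, -, rfl⟩ := List.mem_map.1 hc
  exact ⟨valid.el n, valid.rep_el n⟩

/-- The centralizer of the involution and the elements normalizing `E q` used by the certificate. -/
def spanN (q : ℕ) : Subgroup Cfsg.Spor.He :=
  closure ({x | x ∈ centralizer ({zEl} : Set Cfsg.Spor.He) ∧ x ∈ Nn code Dat.data q} ∪
    {x | ∃ k < 2, code.Rep (Dat.data.g code.one k) x})

theorem spanN_le {q : ℕ} (hq : q < 2) : spanN q ≤ Nn code Dat.data q := by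
  rw [spanN, closure_le]
  rintro x (⟨-, h⟩ | ⟨k, hk, hr⟩)
  · exact h
  · rw [code.rep_uniq hr (valid.rep_ed hk)]
    exact valid.ed_mem hk hq

theorem orbit_conj {q : ℕ} (hq : q < 2) : ∀ i < (orbit q).length,
    ∀ e, code.Rep ((orbit q).getD i (0, 0, 3, 0)).1 e → ∃ t ∈ spanN q, t * zEl * t⁻¹ = e := by
  intro i
  induction i using Nat.strong_induction_on with
  | _ i ih =>
    intro hi e he
    have h := List.all_eq_true.1 (List.all_eq_true.1 orbit_ok q (List.mem_range.2 hq)) i (List.mem_range.2 hi)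
    set w := (orbit q).getD i (0, 0, 3, 0) with hw
    simp only [orbitOK, ← hw, Bool.and_eq_true] at h
    by_cases h0 : i = 0
    · simp only [h0, beq_self_eq_true, if_true, beq_iff_eq] at h
      refine ⟨1, one_mem _, ?_⟩
      rw [one_mul, inv_one, mul_one]
      exact code.rep_uniq zEl_rep (h.2 ▸ he)
    · simp only [beq_eq_false_iff_ne.2 h0, Bool.false_eq_true, if_false, Bool.and_eq_true, Bool.or_eq_true,
        Nat.blt_eq, beq_iff_eq] at h
      obtain ⟨-, ⟨hp, hk⟩, heq⟩ := h
      have hpl : w.2.1 < (orbit q).length := hp.trans hi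
      have hc := List.all_eq_true.1 (List.all_eq_true.1 orbit_ok q (List.mem_range.2 hq)) w.2.1
        (List.mem_range.2 hpl)
      simp only [orbitOK, Bool.and_eq_true, List.contains_eq_mem, decide_eq_true_eq] at hc
      obtain ⟨ep, -, hep⟩ := (E_spec hq).1 _ hc.1
      obtain ⟨t, ht, rfl⟩ := ih _ hp hpl ep hep
      obtain ⟨x, hx, hxr⟩ : ∃ x ∈ spanN q, code.Rep
          (if w.2.2.1 = 2 then Dat.data.code idC w.2.2.2 else Dat.data.g idC w.2.2.1) x := by
        rcases hk with hk | ⟨hk, hn⟩
        · rw [if_neg (by omega)]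
          exact ⟨valid.ed w.2.2.1, subset_closure (Or.inr ⟨_, hk, valid.rep_ed hk⟩), valid.rep_ed hk⟩
        · rw [if_pos hk]
          exact ⟨valid.el w.2.2.2, subset_closure (Or.inl ⟨valid.el_mem _, valid.mem_N hq hn⟩), valid.rep_el _⟩
      refine ⟨x * t, mul_mem hx ht, ?_⟩
      have h2 := code.rep_mul hxr hep
      have h1 := code.rep_mul he hxr
      have hcode : code.mul w.1 (if w.2.2.1 = 2 then Dat.data.code idC w.2.2.2 else Dat.data.g idC w.2.2.1) =
          code.mul (if w.2.2.1 = 2 then Dat.data.code idC w.2.2.2 else Dat.data.g idC w.2.2.1)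
            ((orbit q).getD w.2.1 (0, 0, 3, 0)).1 := heq
      rw [hcode] at h1
      have h3 := code.rep_uniq h1 h2
      calc x * t * zEl * (x * t)⁻¹ = x * (t * zEl * t⁻¹) * x⁻¹ := by group
        _ = e := by rw [← h3, mul_inv_cancel_right]

/-- An element with more than forty-two fixed points on the orbit is not conjugate to the involution. -/
theorem others_not_conj {q : ℕ} (hq : q < 2) {w : ℕ × List ℕ} (hw : w ∈ others q) (x : Cfsg.Spor.He) :
    ¬ code.Rep w.1 (x * zEl * x⁻¹) := by
  intro he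
  have h := List.all_eq_true.1 (List.all_eq_true.1 others_ok q (List.mem_range.2 hq)) w hw
  simp only [otherOK, Bool.and_eq_true, beq_iff_eq, List.all_eq_true, Nat.blt_eq] at h
  obtain ⟨⟨hlen, hnd⟩, hfix⟩ := h
  have hex : ∀ i ∈ w.2, ∃ j ∈ fixIdx, V (ptTab.get i) * (rho x : Matrix (Fin 51) (Fin 51) (ZMod 2)) =
      V (ptTab.get j) := by
    intro i hi
    obtain ⟨hi2, hfi⟩ := hfix i hi
    obtain ⟨j, hj, e⟩ := closed x i hi2
    refine ⟨j, (pt_facts hj).2.2.2.2 (V_inj (canon_mul _ _) (pt_facts hj).1 ?_), e⟩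
    have h1 := step_mul rho e (V_mul zEl_rep (ptTab.get j))
    have h2 := step_mul rho ((V_mul he (ptTab.get i)).trans (congrArg V hfi)) e
    rw [inv_mul_cancel_right] at h2
    exact h1.symm.trans h2
  choose f hf hfv using hex
  have hcard := Finset.card_le_card_of_injOn (s := w.2.toFinset.attach) (t := fixIdx.toFinset)
    (fun i => f i.1 (List.mem_toFinset.1 i.2)) (fun i _ => List.mem_toFinset.2 (hf _ _)) (fun a _ b _ hab => by
      have hab : f a.1 _ = f b.1 _ := hab
      have ha := hfv a.1 (List.mem_toFinset.1 a.2)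
      have hb := hfv b.1 (List.mem_toFinset.1 b.2)
      rw [hab, ← hb] at ha
      have ha' := congrArg (· * (rho x⁻¹ : Matrix (Fin 51) (Fin 51) (ZMod 2))) ha
      simp only [Matrix.mul_assoc, ← Units.val_mul, ← map_mul, mul_inv_cancel, map_one, Units.val_one,
        Matrix.mul_one] at ha'
      have hpa := (hfix _ (List.mem_toFinset.1 a.2)).1
      have hpb := (hfix _ (List.mem_toFinset.1 b.2)).1
      have e := V_inj (pt_facts hpa).1 (pt_facts hpb).1 ha'
      rcases lt_trichotomy a.1 b.1 with hlt | heq | hlt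
      · exact absurd e (pt_inj hpb hlt).ne
      · exact Subtype.ext heq
      · exact absurd e.symm (pt_inj hpa hlt).ne)
  rw [Finset.card_attach, List.toFinset_card_of_nodup (nodup_of_nodupB hnd), hlen] at hcard
  have := (List.toFinset_card_le fixIdx).trans base_facts.2.2.2.le
  omega

theorem det_transvection : (Matrix.transvection (0 : Fin 5) 1 (1 : ZMod 2)).det = 1 :=
  Matrix.det_transvection_of_ne 0 1 (by decide) 1

/-- The three nodes generate the centralizer of the involution. -/
theorem cent_le : centralizer ({zEl} : Set Cfsg.Spor.He) ≤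
    closure {x | ∃ n < Dat.data.ncg, code.Rep (Dat.data.code code.one (n + 1)) x} := by
  let s : SL5 := ⟨_, det_transvection⟩
  have hs : (s : Matrix (Fin 5) (Fin 5) (ZMod 2)) = Matrix.transvection 0 1 1 := rfl
  have hs' : mat s = decF2 5 sC := hs.trans sC_eq.symm
  obtain ⟨-, ⟨e⟩⟩ := cent_iso s hs
  have hC : Nat.card (centralizer ({zEl} : Set Cfsg.Spor.He)) ≤ 21504 :=
    (Nat.card_congr e.toEquiv).trans_le (card_cent_sl hs)
  let I : Subgroup Cfsg.Spor.He := pairs.map (MonoidHom.fst _ _)
  have hI : I ≤ centralizer ({zEl} : Set Cfsg.Spor.He) := by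
    rintro _ ⟨p, hp, rfl⟩
    exact mem_centralizer_singleton_iff.2 (cent_mem hp hs').1
  have hcard : 21504 ≤ Nat.card I := by
    refine (card_pairs_ge s hs').trans_eq (Nat.card_congr (Equiv.ofBijective
      (fun p : pairs => (⟨p.1.1, ⟨p.1, p.2, rfl⟩⟩ : I)) ⟨fun p p' hpp => ?_, ?_⟩))
    · have h1 : p.1.1 = p'.1.1 := congrArg Subtype.val hpp
      have := pairs_sep (mul_mem p.2 (inv_mem p'.2)) (Or.inl (by
        show p.1.1 * p'.1.1⁻¹ = 1
        rw [h1, mul_inv_cancel]))
      exact Subtype.ext (mul_inv_eq_one.1 this)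
    · rintro ⟨_, p, hp, rfl⟩
      exact ⟨⟨p, hp⟩, rfl⟩
  rw [← eq_of_le_of_card_ge hI (hC.trans hcard)]
  rw [map_le_iff_le_comap, pairs, gen, closure_le]
  rintro p ⟨c, hc, hp⟩
  obtain ⟨j, hj, rfl⟩ := List.getElem_of_mem hc
  have h3 : cwTab.length = 3 := by
    have h := cw_ok
    simp only [Bool.and_eq_true, beq_iff_eq] at h
    exact h.1
  have hj3 : j < 3 := by omega
  obtain ⟨h1, -⟩ := cw_facts hj3
  rw [List.getD_eq_getElem _ _ hj] at h1
  refine subset_closure (show p.1 ∈ {x | ∃ n < Dat.data.ncg, code.Rep (Dat.data.code code.one (n + 1)) x} from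
    ⟨j, hj3, ?_⟩)
  have hsize : j + 1 < Dat.data.size := lt_trans (Nat.succ_lt_succ hj3) (by decide +kernel)
  rw [Valid.code_lt hsize, beq_iff_eq.1 (List.all_eq_true.1 cw_nodes_ok j (List.mem_range.2 hj3)), ← h1]
  exact hp.1

/-- The generation hypotheses hold in the model. -/
theorem spans : Spans code Dat.data zEl where
  cent := cent_le
  norm q hq := by
    intro n hn
    have hz : zEl ∈ Cert.E code Dat.data q := by
      refine ((E_spec hq).2.1 _).2 ⟨zC, ?_, zEl_rep⟩
      have h := List.all_eq_true.1 (List.all_eq_true.1 orbit_ok q (List.mem_range.2 hq)) 0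
        (List.mem_range.2 (by interval_cases q <;> decide +kernel))
      simp only [orbitOK, beq_self_eq_true, if_true, Bool.and_eq_true, List.contains_eq_mem, decide_eq_true_eq,
        beq_iff_eq] at h
      exact h.2 ▸ h.1
    obtain ⟨c, hc, hr⟩ := ((E_spec hq).2.1 _).1 ((mem_normalizer_iff.1 hn zEl).1 hz)
    have h := List.all_eq_true.1 (List.all_eq_true.1 classes_ok q (List.mem_range.2 hq)) c hc
    simp only [Bool.or_eq_true, beq_iff_eq, List.any_eq_true] at h
    rcases h with (h | ⟨w, hw, rfl⟩) | ⟨w, hw, rfl⟩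
    · exfalso
      have h1 : n * zEl * n⁻¹ = 1 := code.rep_uniq hr (h ▸ code.rep_one)
      rw [mul_inv_eq_one, mul_eq_left] at h1
      have h2 := code.rep_code zEl_rep (h1 ▸ code.rep_one)
      have hne : (zC == code.one) = false := by decide +kernel
      rw [h2, beq_self_eq_true] at hne
      exact Bool.noConfusion hne
    · obtain ⟨i, hi, rfl⟩ := List.getElem_of_mem hw
      obtain ⟨t, ht, he⟩ := orbit_conj hq i hi _ (by rw [List.getD_eq_getElem _ _ hi]; exact hr)
      have hc' : t⁻¹ * n ∈ centralizer ({zEl} : Set Cfsg.Spor.He) := by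
        rw [mem_centralizer_singleton_iff]
        calc t⁻¹ * n * zEl = t⁻¹ * (n * zEl * n⁻¹) * n := by group
          _ = zEl * (t⁻¹ * n) := by rw [← he]; group
      have hm : t⁻¹ * n ∈ Nn code Dat.data q := mul_mem (inv_mem (spanN_le hq ht)) hn
      show n ∈ spanN q
      have := mul_mem ht (show t⁻¹ * n ∈ spanN q from subset_closure (Or.inl ⟨hc', hm⟩))
      rwa [mul_inv_cancel_left] at this
    · exact absurd hr (others_not_conj hq hw n)
  top := by
    rw [← top_le_iff, ← PresentedGroup.closure_range_of, closure_le]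
    rintro _ ⟨g, rfl⟩
    have hg : CfsgLib.Presented.HeCosets.idxOf g < 7 := by cases g <;> decide
    obtain ⟨w, hw, he⟩ := List.any_eq_true.1 (List.all_eq_true.1 top_ok _ (List.mem_range.2 hg))
    exact subset_closure ⟨w, hw, (beq_iff_eq.1 he).symm ▸ rep_gen g⟩

theorem card_E {q : ℕ} (hq : q < 2) : Nat.card (Cert.E code Dat.data q) = 64 := by
  rw [(E_spec hq).2.2]
  interval_cases q <;> decide +kernel

theorem zEl_mem_E {q : ℕ} (hq : q < 2) : zEl ∈ Cert.E code Dat.data q := by
  refine ((E_spec hq).2.1 _).2 ⟨zC, ?_, zEl_rep⟩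
  interval_cases q <;> decide +kernel

universe u

/-- The universal property of the Held group. -/
theorem universal_he : Universal.{u, 0} zEl E1 E2 := Cert.universal valid spans

end CfsgLib.HeUnique.He
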